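import Cfsg.Agent.Lib.OddOrder.NoTypeV.Quiet
import Cfsg.Agent.Lib.Char.CoherenceDescent

/-!
The case `|W₁| = 3`, `|W₂| = 5`, `|M'| = 125`.
-/

set_option autoImplicit false
set_option linter.unusedSectionVars false
set_option linter.style.haveILetI false

namespace Cfsg.Lib.OddOrder.NoTypeV

open Cfsg Cfsg.Lib.Char Cfsg.Lib.Char.FT
open scoped ComplexConjugate Classical

universe u

variable {G : Type u} [Group G] [Fintype G] {M W₁ W₂ : Subgroup G} [Fintype M] [Fintype (Row W₁ W₂)]
  {μ : Row W₁ W₂ → Col W₁ W₂ → M → ℂ} {δ : Col W₁ W₂ → ℤ} {χ : (↥(W₁ ⊔ W₂) →* ℂˣ) → (G → ℂ)}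
  {f : (M → ℂ) → (G → ℂ)} {ζ : M → ℂ}

theorem exceptional_degree (S : VSide M W₁ W₂ μ δ χ) (hq : Nat.card W₁ = 3) (hk : Nat.card (derivedIn M) = 125)
    {j : Col W₁ W₂} (hj : j ≠ col0 W₁ W₂) : μ (row0 W₁ W₂) j 1 = 5 := by
  haveI := Fintype.ofFinite (derivedIn M)
  haveI := Fintype.ofFinite (⊥ : Subgroup (derivedIn M))
  obtain ⟨d, hd, hd5⟩ := col_degree S hj
  have hθ : colTheta M μ j 1 = (d : ℂ) := by simp [colTheta, hd]
  have h1 : d ∣ 125 := hk ▸ degree_dvd_card (S.side.grid.theta_irr j) hθ
  have h2 := sq_degree_le_of_central (⊥ : Subgroup (derivedIn M)) (S.side.grid.theta_irr j)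
    fun x hx y => by rw [Subgroup.mem_bot.1 hx]; simp
  rw [hθ, Complex.natCast_re, Subgroup.index_bot, hk] at h2
  have h3 : d ^ 2 ≤ 125 := by exact_mod_cast h2
  obtain ⟨i, hi, rfl⟩ := (Nat.dvd_prime_pow (p := 5) (m := 3) (by norm_num)).1 h1
  obtain rfl : i = 1 := by
    rw [hq] at hd5
    rcases i with _ | _ | i
    · norm_num at hd5
    · rfl
    · have h4 : (5 ^ 2) ^ 2 ≤ (5 ^ (i + 1 + 1)) ^ 2 := Nat.pow_le_pow_left (Nat.pow_le_pow_right (by norm_num) (by omega)) 2
      norm_num at h4
      omega
  rw [hd]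
  norm_num

/-- A column has no component at `ξ`. -/
theorem exceptional_zero (S : VSide M W₁ W₂ μ δ χ) [Fintype (Col W₁ W₂)] (hf : IsLinFamily (M := M) f)
    (hζ : ζ ∈ linFin M) (hΦ : phi M ζ = colSum χ (col0 W₁ W₂) - f ζ) (hq : Nat.card W₁ = 3)
    (hp : Nat.card W₂ = 5) (hN : (linFin M).card = 8) (hk : Nat.card (derivedIn M) = 125)
    {j : Col W₁ W₂} (hj : j ≠ col0 W₁ W₂) : classInner (colX M μ j) (f ζ) = 0 := by
  have hW := S.side.typeP.selfNormalizing
  obtain ⟨a, ha⟩ := (colX_gen S j).exists_int_classInner (hf.gen hζ)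
  set F : G → ℂ := ∑ b ∈ linFin M, f b with hF
  set P : G → ℂ := colSum χ (col0 W₁ W₂) with hP
  have hFη : ∀ i l, classInner F (eta χ i l) = 0 := fun i l => by
    rw [hF, classInner_sum_left]
    exact Finset.sum_eq_zero fun b hb => hf.orth_eta S hb i l
  have hPη : ∀ i l, classInner P (eta χ i l) = if l = col0 W₁ W₂ then 1 else 0 := fun i l => by
    rw [hP, colSum, classInner_sum_left]
    simp only [eta_orthonormal S.side.family]
    by_cases h : l = col0 W₁ W₂
    · simp [h]
    · simp [h, Ne.symm h]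
  have hcard : (Fintype.card (Row W₁ W₂) : ℂ) = 3 := by
    rw [← Nat.card_eq_fintype_card, card_row hW, hq]; norm_num
  have hPP : classInner P P = 3 := by
    rw [hP, colSum, classInner_sum_right, ← colSum, ← hP]
    simp [hPη, hcard]
  have hPF : classInner P F = 0 := by
    rw [hP, colSum, classInner_sum_left]
    exact Finset.sum_eq_zero fun i _ => classInner_symm_zero (hFη i _)
  have hFF : classInner F F = 8 := by
    rw [hF, (inner_sum_lin S hf hζ).2, hN]; norm_num
  obtain ⟨k, hk0, hkj, hδ, -⟩ := exists_twin S hj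
  -- data of a column with the component `a`
  have key : ∀ m, m ≠ col0 W₁ W₂ → classInner (colX M μ m) (f ζ) = (a : ℂ) →
      ∃ E : G → ℂ, E = colX M μ m + (5 : ℂ) • P - (a : ℂ) • F ∧
        classInner E E = ((3 + 10 * a - 8 * a ^ 2 : ℤ) : ℂ) ∧
        ∃ b : Row W₁ W₂ → Col W₁ W₂ → ℤ, Additive b ∧ (∀ i l, classInner E (eta χ i l) = b i l) ∧
          b (row0 W₁ W₂) (col0 W₁ W₂) = 0 ∧ ∑ i, b i (col0 W₁ W₂) = a := by
    intro m hm ham
    have hd := exceptional_degree S hq hk hm
    have hXb : ∀ b ∈ linFin M, classInner (colX M μ m) (f b) = (a : ℂ) := fun b hb =>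
      (colX_inner_diff S hf hb hζ).trans ham
    have hXF : classInner (colX M μ m) F = 8 * (a : ℂ) := by
      rw [hF, classInner_sum_right, Finset.sum_congr rfl hXb, Finset.sum_const, hN, nsmul_eq_mul]; norm_num
    have hFX : classInner F (colX M μ m) = 8 * (a : ℂ) := by rw [← classInner_conj_symm, hXF]; simp [Complex.conj_ofNat]
    have hXP : classInner (colX M μ m) P = (a : ℂ) - 15 := by
      have h := colX_inner_phi S hζ hm
      rw [hΦ, classInner_sub_right, ham, hd, hq] at h
      push_cast at h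
      linear_combination h
    have hPX : classInner P (colX M μ m) = (a : ℂ) - 15 := by rw [← classInner_conj_symm, hXP]; simp [Complex.conj_ofNat]
    have hXX : classInner (colX M μ m) (colX M μ m) = 78 := by
      rw [colX_norm S hm (d := 5) (by rw [hd]; norm_num), hq]; norm_num
    obtain ⟨x, hx⟩ := exists_coef S.side.family (colX_gen S m)
    set b : Row W₁ W₂ → Col W₁ W₂ → ℤ := fun i l => x i l + 5 * (if l = col0 W₁ W₂ then 1 else 0) with hb
    have hbE : ∀ i l, classInner (colX M μ m + (5 : ℂ) • P - (a : ℂ) • F) (eta χ i l) = b i l := fun i l => by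
      rw [classInner_sub_left, classInner_add_left, classInner_smul_left, classInner_smul_left, hx, hPη, hFη, hb]
      push_cast
      ring
    refine ⟨_, rfl, ?_, b, ?_, hbE, ?_, ?_⟩
    · simp only [classInner_add_left, classInner_add_right, classInner_sub_left, classInner_sub_right,
        classInner_smul_left, classInner_smul_right, hXX, hXP, hPX, hXF, hFX, hPP, hPF, classInner_symm_zero hPF,
        hFF, map_intCast, map_ofNat]
      push_cast
      ring
    · intro i i' l l'
      have h1 := additive_coef hW S.side.family (colX_classFun S m) (colX_V S m) hx i i' l l'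
      simp only [hb]
      linear_combination h1
    · have h := hx (row0 W₁ W₂) (col0 W₁ W₂)
      rw [eta_zero S.side.family, colX, tau_inner_one S (colSrc_props S m).1 (colSrc_supp S m),
        ← S.side.grid.map_one, colSrc, classInner_sub_left, classInner_smul_left, psi0_inner_mu S, if_pos rfl,
        classInner_sum_left, Finset.sum_eq_zero fun i _ => classInner_irr_ne (S.side.grid.irr i m)
          (S.side.grid.irr _ _) fun e => hm (S.side.grid.inj _ _ _ _ e).2, hd] at h
      have : ((x (row0 W₁ W₂) (col0 W₁ W₂) : ℤ) : ℂ) = ((-5 : ℤ) : ℂ) := by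
        push_cast
        linear_combination -h
      have h5 : x (row0 W₁ W₂) (col0 W₁ W₂) = -5 := by exact_mod_cast this
      simp [hb, h5]
    · have h : classInner (colX M μ m) P = ∑ i, (x i (col0 W₁ W₂) : ℂ) := by
        rw [hP, colSum, classInner_sum_right]
        exact Finset.sum_congr rfl fun i _ => hx i _
      rw [hXP] at h
      have h' : ((∑ i, b i (col0 W₁ W₂) : ℤ) : ℂ) = (a : ℂ) := by
        simp only [hb, if_pos, Int.cast_sum, Int.cast_add, Int.cast_mul, Int.cast_ofNat, Int.cast_one, mul_one,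
          Finset.sum_add_distrib, Finset.sum_const, Finset.card_univ, nsmul_eq_mul, ← h]
        push_cast
        rw [hcard]
        ring
      exact_mod_cast h'
  obtain ⟨E, hE, hEE, b, hbadd, hbE, hb00, hbsum⟩ := key j hj ha
  have hnn := classInner_self_nonneg E
  rw [hEE, Complex.intCast_re] at hnn
  have hnn' : 0 ≤ 3 + 10 * a - 8 * a ^ 2 := by exact_mod_cast hnn
  have ha01 : a = 0 ∨ a = 1 := by
    have h1 : a < 2 := by nlinarith
    have h2 : -1 < a := by nlinarith
    omega
  rcases ha01 with rfl | rfl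
  · rw [ha]; simp
  exfalso
  have hdiffX : colX M μ j - colX M μ k = (δ j : ℂ) • (colSum χ j - colSum χ k) := by
    rw [colX, colX, ← tau_sub, colSrc, colSrc, exceptional_degree S hq hk hj, exceptional_degree S hq hk hk0,
      sub_sub_sub_cancel_right, ← Finset.sum_sub_distrib, tau_sum, colSum, colSum, ← Finset.sum_sub_distrib,
      Finset.smul_sum]
    refine Finset.sum_congr rfl fun i _ => (S.side.tau_mu_sub i hkj.symm hδ.symm ?_ (col_nontriv S hj)
      (col_nontriv S hk0)).2
    rw [S.side.grid.eq_on i (row0 W₁ W₂) j 1 (one_mem _), S.side.grid.eq_on i (row0 W₁ W₂) k 1 (one_mem _),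
      exceptional_degree S hq hk hj, exceptional_degree S hq hk hk0]
  have hkf : classInner (colX M μ k) (f ζ) = ((1 : ℤ) : ℂ) := by
    have h := congrArg (fun T => classInner T (f ζ)) hdiffX
    simp only [classInner_sub_left, classInner_smul_left, colSum, classInner_sum_left,
      fun i l => classInner_symm_zero (hf.orth_eta S hζ i l), Finset.sum_const_zero, sub_self, mul_zero, ha] at h
    linear_combination -h
  obtain ⟨E', hE', hEE', b', hbadd', hbE', hb00', hbsum'⟩ := key k hk0 hkf
  -- a grid of norm five with the sum one on the principal column vanishes on the principal row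
  have hzero : ∀ (c : Row W₁ W₂ → Col W₁ W₂ → ℤ), Additive c → c (row0 W₁ W₂) (col0 W₁ W₂) = 0 →
      ∑ i, c i (col0 W₁ W₂) = 1 → ∑ i, ∑ l, c i l ^ 2 ≤ 5 → ∀ l, c (row0 W₁ W₂) l = 0 := by
    intro c hc h00 hsum hle l
    by_contra hne
    set S₀ := ∑ i, c i (col0 W₁ W₂) ^ 2 with hS₀
    have hcol : ∀ m, ∑ i, c i m ^ 2 = 3 * c (row0 W₁ W₂) m ^ 2 + 2 * c (row0 W₁ W₂) m + S₀ := by
      intro m
      have h3 : (Fintype.card (Row W₁ W₂) : ℤ) = 3 := by rw [← Nat.card_eq_fintype_card, card_row hW, hq]; norm_num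
      rw [Finset.sum_congr rfl (g := fun i => c (row0 W₁ W₂) m ^ 2 + 2 * c (row0 W₁ W₂) m * c i (col0 W₁ W₂) +
          c i (col0 W₁ W₂) ^ 2) fun i _ => by
        have e : c i m = c i (col0 W₁ W₂) + c (row0 W₁ W₂) m := by
          have := hc i (row0 W₁ W₂) m (col0 W₁ W₂)
          rw [h00] at this
          omega
        rw [e]; ring, Finset.sum_add_distrib, Finset.sum_add_distrib, Finset.sum_const, Finset.card_univ,
        nsmul_eq_mul, ← Finset.mul_sum, hsum, h3, mul_one]
    have hS1 : 1 ≤ S₀ := by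
      obtain ⟨i, hi⟩ : ∃ i, c i (col0 W₁ W₂) ≠ 0 := by
        by_contra h
        push Not at h
        simp [h] at hsum
      exact le_trans (Int.one_le_abs hi |>.trans (grid_abs_le_sq _))
        (Finset.single_le_sum (f := fun i => c i (col0 W₁ W₂) ^ 2) (fun i _ => sq_nonneg _) (Finset.mem_univ i))
    have h0 : ∀ v : ℤ, 0 ≤ 3 * v ^ 2 + 2 * v ∧ (v ≠ 0 → 1 ≤ 3 * v ^ 2 + 2 * v) := fun v => by
      rcases lt_trichotomy v 0 with h | rfl | h
      · exact ⟨by nlinarith, fun _ => by nlinarith⟩
      · simp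
      · exact ⟨by nlinarith, fun _ => by nlinarith⟩
    have h5 : (Fintype.card (Col W₁ W₂) : ℤ) = 5 := by rw [← Nat.card_eq_fintype_card, card_col hW, hp]; norm_num
    rw [Finset.sum_comm, Finset.sum_congr rfl fun m _ => hcol m, Finset.sum_add_distrib, Finset.sum_const,
      Finset.card_univ, nsmul_eq_mul, h5] at hle
    have h6 := Finset.single_le_sum (f := fun m => 3 * c (row0 W₁ W₂) m ^ 2 + 2 * c (row0 W₁ W₂) m)
      (fun m _ => (h0 _).1) (Finset.mem_univ l)
    have h7 := (h0 _).2 hne
    linarith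
  have h5le : ∀ {T : G → ℂ} {c : Row W₁ W₂ → Col W₁ W₂ → ℤ}, classInner T T = ((3 + 10 * 1 - 8 * 1 ^ 2 : ℤ) : ℂ) →
      (∀ i l, classInner T (eta χ i l) = c i l) → ∑ i, ∑ l, c i l ^ 2 ≤ 5 := fun hT hc =>
    coef_norm_le' S.side.family hc (N := 5) (by rw [hT]; norm_num)
  have hz1 := hzero b hbadd hb00 hbsum (h5le hEE hbE) j
  have hz2 := hzero b' hbadd' hb00' hbsum' (h5le hEE' hbE') j
  have h := congrArg (fun T => classInner T (eta χ (row0 W₁ W₂) j)) (show E - E' = colX M μ j - colX M μ k by
    rw [hE, hE']; abel)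
  simp only [hdiffX, classInner_sub_left, classInner_smul_left, hbE, hbE', hz1, hz2, Int.cast_zero, sub_self] at h
  rw [colSum, colSum, classInner_sum_left, classInner_sum_left] at h
  simp only [eta_orthonormal S.side.family, hkj, and_false, if_false, Finset.sum_const_zero, and_true,
    Finset.sum_ite_eq', Finset.mem_univ, if_true, sub_zero, mul_one] at h
  rcases S.side.grid.sign j with e | e <;> simp [e] at h

/-- The projection on all the characters. -/
theorem hit_ge_exceptional (S : VSide M W₁ W₂ μ δ χ) [Fintype (Col W₁ W₂)] (hf : IsLinFamily (M := M) f)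
    (hζ : ζ ∈ linFin M) (hΦ : phi M ζ = colSum χ (col0 W₁ W₂) - f ζ) (hq : Nat.card W₁ = 3)
    (hp : Nat.card W₂ = 5) (hN : (linFin M).card = 8) (hk : Nat.card (derivedIn M) = 125) :
    1 - (3 : ℝ) / 125 ≤ muOn (hitM M) fun g => ‖f ζ g‖ ^ 2 := by
  have hW := S.side.typeP.selfNormalizing
  set J := (Finset.univ : Finset (Col W₁ W₂)).erase (col0 W₁ W₂) with hJ
  have hJc : (J.card : ℂ) = 4 := by
    rw [hJ, Finset.card_erase_of_mem (Finset.mem_univ _), Finset.card_univ, ← Nat.card_eq_fintype_card,
      card_col hW, hp]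
    norm_num
  set A := psi0 M - ζ with hA
  set B := ∑ b ∈ linFin M, (psi0 M - b) with hB
  set C := ∑ j ∈ J, colSrc M μ j with hC
  set v : M → ℂ := ((3 / 125 : ℝ) : ℂ) • B - A - ((5 / 125 : ℝ) : ℂ) • C with hv
  have hc : ∀ b ∈ linFin M, classInner (phi M ζ) (f b) = ((0 : ℤ) : ℂ) - if b = ζ then 1 else 0 := fun b hb => by
    rw [hΦ, classInner_sub_left, colSum, classInner_sum_left, hf.orth ζ hζ b hb,
      Finset.sum_eq_zero fun i _ => classInner_symm_zero (hf.orth_eta S hb i _)]
    simp only [eq_comm (a := b)]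
    simp
  have hAp : ∀ b ∈ linFin M, IsClassFunction M (psi0 M - b) ∧ (∀ x, x ∉ derivedIn M → (psi0 M - b) x = 0) ∧
      (psi0 M - b) 1 = 0 := fun b hb => ⟨phi_src_classFun S hb, fun x hx => by
      simp [lin_off hb hx, psi0, indFun_derived_off _ hx],
    by simp [psi0_apply S (one_mem _), lin_degree S hb]⟩
  refine le_muOn_hit S (v := v) (fun x y => ?_) (fun x hx => ?_) ?_ ?_ ?_
  · simp only [hv, hA, hB, hC, Pi.sub_apply, Pi.smul_apply, Finset.sum_apply]
    rw [Finset.sum_congr rfl fun b hb => show psi0 M (y * x * y⁻¹) - b (y * x * y⁻¹) = psi0 M x - b x from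
      (hAp b hb).1 x y, show psi0 M (y * x * y⁻¹) - ζ (y * x * y⁻¹) = psi0 M x - ζ x from (hAp ζ hζ).1 x y,
      Finset.sum_congr rfl fun j _ => (colSrc_props S j).1 x y]
  · simp only [hv, hA, hB, hC, Pi.sub_apply, Pi.smul_apply, Finset.sum_apply]
    rw [Finset.sum_eq_zero fun b hb => show psi0 M x - b x = 0 from (hAp b hb).2.1 x hx,
      show psi0 M x - ζ x = 0 from (hAp ζ hζ).2.1 x hx, Finset.sum_eq_zero fun j _ => (colSrc_props S j).2.2.1 x hx]
    simp
  · simp only [hv, hA, hB, hC, Pi.sub_apply, Pi.smul_apply, Finset.sum_apply]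
    rw [Finset.sum_eq_zero fun b hb => show psi0 M 1 - b 1 = 0 from (hAp b hb).2.2,
      show psi0 M 1 - ζ 1 = 0 from (hAp ζ hζ).2.2, Finset.sum_eq_zero fun j _ => (colSrc_props S j).2.2.2]
    simp
  · rw [hv, hA, hB, hC, tau_sub, tau_sub, tau_smul, tau_smul, tau_sum, tau_sum, classInner_sub_right,
      classInner_sub_right, classInner_smul_right, classInner_smul_right, classInner_sum_right, classInner_sum_right,
      Finset.sum_congr rfl (g := fun b => -(if ζ = b then (1 : ℂ) else 0)) fun b hb => ?_,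
      Finset.sum_neg_distrib, Finset.sum_ite_eq, if_pos hζ, Finset.sum_eq_zero fun j hj => ?_]
    · have h := hc ζ hζ
      rw [if_pos rfl] at h
      rw [← classInner_conj_symm (tau M (psi0 M - ζ)), ← phi, h, Complex.conj_ofReal, Complex.conj_ofReal]
      push_cast
      simp only [zero_sub, map_neg, map_one]
      ring
    · rw [← classInner_conj_symm, ← colX, exceptional_zero S hf hζ hΦ hq hp hN hk (Finset.mem_erase.1 hj).1,
        map_zero]
    · rw [← classInner_conj_symm, ← phi, phi_inner S hf hζ hc hb hζ]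
      split_ifs with h1 <;> simp
  · have hAA : ∀ a ∈ linFin M, ∀ b ∈ linFin M,
        classInner (psi0 M - a) (psi0 M - b) = (3 : ℂ) + if a = b then 1 else 0 := fun a ha b hb => by
      rw [classInner_sub_left, classInner_sub_right, classInner_sub_right, psi0_norm S,
        classInner_symm_zero (lin_inner_psi0 S hb), lin_inner_psi0 S ha, classInner_irr (lin_irr S ha) (lin_irr S hb),
        hq]
      push_cast
      ring
    have hCA : ∀ j ∈ J, ∀ b ∈ linFin M, classInner (colSrc M μ j) (psi0 M - b) = -15 := fun j hj b hb => by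
      rw [classInner_sub_right, colSrc_inner_lin S hb, sub_zero, colSrc, classInner_sub_left, classInner_smul_left,
        inner_colsum_psi0 S (Finset.mem_erase.1 hj).1, psi0_norm S,
        exceptional_degree S hq hk (Finset.mem_erase.1 hj).1, hq]
      norm_num
    have hCC : ∀ i ∈ J, ∀ j ∈ J, classInner (colSrc M μ i) (colSrc M μ j) = 75 + if i = j then 3 else 0 := by
      intro i hi j hj
      have hi0 := (Finset.mem_erase.1 hi).1
      have hj0 := (Finset.mem_erase.1 hj).1
      simp only [colSrc, exceptional_degree S hq hk hi0, exceptional_degree S hq hk hj0, classInner_sub_left,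
        classInner_sub_right, classInner_smul_left, classInner_smul_right, inner_colsum_psi0 S hi0,
        classInner_symm_zero (inner_colsum_psi0 S hj0), psi0_norm S, hq, map_ofNat]
      have hs : classInner (∑ r, μ r i) (∑ r, μ r j) = if i = j then 3 else 0 := by
        rw [classInner_sum_left]
        simp only [classInner_sum_right, classInner_irr (S.side.grid.irr _ _) (S.side.grid.irr _ _)]
        by_cases h : i = j
        · subst h
          rw [if_pos rfl, Finset.sum_congr rfl (g := fun _ => (1 : ℂ)) fun r _ => by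
            rw [Finset.sum_eq_single_of_mem r (Finset.mem_univ _), if_pos rfl]
            exact fun t _ ht => if_neg fun e => ht (S.side.grid.inj _ _ _ _ e).1.symm]
          rw [Finset.sum_const, Finset.card_univ, ← Nat.card_eq_fintype_card, card_row hW, hq]
          norm_num
        · rw [if_neg h]
          exact Finset.sum_eq_zero fun r _ => Finset.sum_eq_zero fun t _ =>
            if_neg fun e => h (S.side.grid.inj _ _ _ _ e).2
      rw [hs]
      push_cast
      ring
    have h8 : ((linFin M).card : ℂ) = 8 := by rw [hN]; norm_num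
    have gBA : ∀ a ∈ linFin M, classInner B (psi0 M - a) = 25 := fun a ha => by
      rw [hB, classInner_sum_left, Finset.sum_congr rfl fun b hb => hAA b hb a ha, Finset.sum_add_distrib,
        Finset.sum_const, Finset.sum_ite_eq', if_pos ha, nsmul_eq_mul, h8]
      norm_num
    have gCA : ∀ a ∈ linFin M, classInner C (psi0 M - a) = -60 := fun a ha => by
      rw [hC, classInner_sum_left, Finset.sum_congr rfl fun j hj => hCA j hj a ha, Finset.sum_const, nsmul_eq_mul, hJc]
      norm_num
    have gBB : classInner B B = 200 := by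
      conv_lhs => arg 2; rw [hB]
      rw [classInner_sum_right, Finset.sum_congr rfl gBA, Finset.sum_const, nsmul_eq_mul, h8]
      norm_num
    have gCB : classInner C B = -480 := by
      rw [hB, classInner_sum_right, Finset.sum_congr rfl gCA, Finset.sum_const, nsmul_eq_mul, h8]
      norm_num
    have gCC : classInner C C = 1212 := by
      rw [hC, classInner_sum_left, Finset.sum_congr rfl (g := fun _ => (303 : ℂ)) fun i hi => by
        rw [classInner_sum_right, Finset.sum_congr rfl fun j hj => hCC i hi j hj, Finset.sum_add_distrib,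
          Finset.sum_const, Finset.sum_ite_eq, if_pos hi, nsmul_eq_mul, hJc]
        norm_num, Finset.sum_const, nsmul_eq_mul, hJc]
      norm_num
    have gBA' := gBA ζ hζ
    have gCA' := gCA ζ hζ
    rw [← hA] at gBA' gCA'
    have gAA : classInner A A = 4 := by rw [hA, hAA ζ hζ ζ hζ, if_pos rfl]; norm_num
    have gAB : classInner A B = 25 := by rw [← classInner_conj_symm, gBA']; simp [Complex.conj_ofNat]
    have gAC : classInner A C = -60 := by rw [← classInner_conj_symm, gCA']; simp [Complex.conj_ofNat]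
    have gBC : classInner B C = -480 := by rw [← classInner_conj_symm, gCB]; simp [Complex.conj_ofNat]
    rw [hv]
    simp only [classInner_sub_left, classInner_sub_right, classInner_smul_left, classInner_smul_right,
      Complex.conj_ofReal, gBB, gCC, gAA, gAB, gBA', gAC, gCA', gBC, gCB]
    norm_num

end Cfsg.Lib.OddOrder.NoTypeV
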