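import Mathlib
import Cfsg.Prelude.Def_Solvable
import Cfsg.Agent.Lib.Core.Cores
import Cfsg.Agent.Lib.Char.CoherenceKernel

/-!
A nilpotent group whose `p'`-core is cyclic: the derived group is a `p`-group and has index divisible by `p ^ 2`.
-/

set_option autoImplicit false
set_option linter.style.haveILetI false

namespace Cfsg.Lib.OddOrder.NoTypeV

open Subgroup
open scoped commutatorElement

universe u

theorem nilpotent_cyclic_core {X : Type u} [Group X] [Finite X] (hn : Group.IsNilpotent X) {p : ℕ} (hp : p.Prime)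
    (hcyc : IsCyclic (Cfsg.pPrimeCore p X)) {z : X} (hz : z ∈ commutator X) (hz1 : z ≠ 1) :
    p ∣ orderOf z ∧ p ^ 2 ∣ (commutator X).index := by
  classical
  haveI : Fact p.Prime := ⟨hp⟩
  haveI := hn
  obtain ⟨P⟩ : Nonempty (Sylow p X) := inferInstance
  haveI hPn : (P : Subgroup X).Normal := (Group.isNilpotent_of_finite_tfae.out 0 3 rfl rfl).1 hn p inferInstance P
  set R := Cfsg.pPrimeCore p X with hR
  have hRn : R.Normal := by
    haveI : (Cfsg.pPrimeCore p X).Characteristic := Cfsg.Lib.Core.pPrimeCore_characteristic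
    infer_instance
  have hRcop : (Nat.card R).Coprime p := Cfsg.Lib.Core.pPrimeCore_coprime p X
  have hother : ∀ t : ℕ, t.Prime → t ∣ R.index → t = p := by
    intro t ht hd
    by_contra hne
    haveI : Fact t.Prime := ⟨ht⟩
    obtain ⟨T⟩ : Nonempty (Sylow t X) := inferInstance
    haveI hTn : (T : Subgroup X).Normal := (Group.isNilpotent_of_finite_tfae.out 0 3 rfl rfl).1 hn t inferInstance T
    obtain ⟨j, hj⟩ := IsPGroup.iff_card.1 T.isPGroup'
    have hTR : (T : Subgroup X) ≤ R :=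
      le_sSup ⟨hTn, by rw [hj]; exact Nat.Coprime.pow_left j ((Nat.coprime_primes ht hp).2 hne)⟩
    exact T.not_dvd_index (hd.trans (index_dvd_of_le hTR))
  have htop : (P : Subgroup X) ⊔ R = ⊤ := by
    rw [← index_eq_one]
    by_contra hne
    obtain ⟨t, ht, hd⟩ := Nat.exists_prime_and_dvd hne
    obtain rfl := hother t ht (hd.trans (index_dvd_of_le le_sup_right))
    exact P.not_dvd_index (hd.trans (index_dvd_of_le le_sup_left))
  have hdec : ∀ x : X, ∃ a ∈ (P : Subgroup X), ∃ r ∈ R, x = a * r := fun x => by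
    obtain ⟨a, ha, r, hr, e⟩ := Subgroup.mem_sup_of_normal_left.1 (htop.ge (mem_top x))
    exact ⟨a, ha, r, hr, e.symm⟩
  haveI := hcyc
  letI := IsCyclic.commGroup (α := R)
  have hle : commutator X ≤ (P : Subgroup X) := by
    rw [_root_.commutator_def, commutator_le]
    intro x _ y _
    obtain ⟨a, ha, r, hr, rfl⟩ := hdec x
    obtain ⟨b, hb, s, hs, rfl⟩ := hdec y
    rw [← QuotientGroup.eq_one_iff]
    have e : r * s = s * r := congrArg Subtype.val (mul_comm (⟨r, hr⟩ : R) ⟨s, hs⟩)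
    simp only [commutatorElement_def, QuotientGroup.mk_mul, QuotientGroup.mk_inv,
      (QuotientGroup.eq_one_iff a).2 ha, (QuotientGroup.eq_one_iff b).2 hb, one_mul]
    rw [← QuotientGroup.mk_inv, ← QuotientGroup.mk_inv, ← QuotientGroup.mk_mul, ← QuotientGroup.mk_mul,
      ← QuotientGroup.mk_mul, e]
    group
    exact QuotientGroup.mk_one _
  obtain ⟨k, hk⟩ := P.isPGroup' ⟨z, hle hz⟩
  have hzk : z ^ p ^ k = 1 := congrArg Subtype.val hk
  obtain ⟨j, -, hj⟩ := (Nat.dvd_prime_pow hp).1 (orderOf_dvd_of_pow_eq_one hzk)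
  have hj0 : j ≠ 0 := fun e => hz1 (orderOf_eq_one_iff.1 (by rw [hj, e, pow_zero]))
  refine ⟨hj ▸ dvd_pow_self p hj0, ?_⟩
  obtain ⟨m, hm⟩ := IsPGroup.iff_card.1 P.isPGroup'
  obtain ⟨i, -, hi⟩ := (Nat.dvd_prime_pow hp).1
    (hm ▸ relIndex_dvd_card (H := commutator X) (K := (P : Subgroup X)))
  rw [← relIndex_mul_index hle, hi]
  refine Dvd.dvd.mul_right (pow_dvd_pow p ?_) _
  by_contra hlt
  obtain ⟨a, haP, hgen⟩ : ∃ a ∈ (P : Subgroup X), (P : Subgroup X) ≤ zpowers a ⊔ commutator X := by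
    by_cases hPA : (P : Subgroup X) ≤ commutator X
    · exact ⟨1, one_mem _, hPA.trans le_sup_right⟩
    obtain ⟨a, haP, haA⟩ := SetLike.not_le_iff_exists.1 hPA
    refine ⟨a, haP, relIndex_eq_one.1 ?_⟩
    have h1 := relIndex_mul_relIndex (commutator X) (zpowers a ⊔ commutator X) (P : Subgroup X) le_sup_right
      (sup_le (zpowers_le.2 haP) hle)
    have h2 : (commutator X).relIndex (zpowers a ⊔ commutator X) ≠ 1 := fun e =>
      haA (relIndex_eq_one.1 e (mem_sup_left (mem_zpowers a)))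
    have h3 : p ^ i ∣ p := by
      rcases (show i = 0 ∨ i = 1 by omega) with rfl | rfl <;> simp
    rcases (Nat.dvd_prime hp).1 ((hi ▸ dvd_of_mul_right_eq _ h1 :
        (commutator X).relIndex (zpowers a ⊔ commutator X) ∣ p ^ i).trans h3) with e | e
    · exact absurd e h2
    · have h4 := h1.trans hi
      rw [e] at h4
      have h5 : p * (zpowers a ⊔ commutator X).relIndex (P : Subgroup X) ∣ p * 1 := by rw [h4, mul_one]; exact h3
      exact Nat.dvd_one.1 ((Nat.mul_dvd_mul_iff_left hp.pos).1 h5)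
  have hK : zpowers a ⊔ R = ⊤ := by
    refine frattini_nongenerating (top_le_iff.1 (htop.ge.trans (sup_le (hgen.trans (sup_le ?_ ?_)) ?_)))
    · exact le_sup_left.trans le_sup_left
    · exact (Cfsg.Lib.Char.commutator_le_frattini_of_nilpotent hn).trans le_sup_right
    · exact le_sup_right.trans le_sup_left
  have hcomm : ∀ r ∈ R, Commute a r := fun r hr => commute_of_normal_of_disjoint _ _ hPn hRn
    (disjoint_of_coprime_natCard (by rw [hm]; exact Nat.Coprime.pow_left m hRcop.symm)) a r haP hr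
  have hbot : commutator X = ⊥ := by
    rw [eq_bot_iff, _root_.commutator_def, commutator_le]
    intro x _ y _
    obtain ⟨u, hu, r, hr, rfl⟩ := Subgroup.mem_sup_of_normal_right.1 (hK.ge (mem_top x))
    obtain ⟨v, hv, s, hs, rfl⟩ := Subgroup.mem_sup_of_normal_right.1 (hK.ge (mem_top y))
    obtain ⟨iu, rfl⟩ := mem_zpowers_iff.1 hu
    obtain ⟨iv, rfl⟩ := mem_zpowers_iff.1 hv
    rw [mem_bot, commutatorElement_eq_one_iff_commute]
    have e : Commute r s := congrArg Subtype.val (mul_comm (⟨r, hr⟩ : R) ⟨s, hs⟩)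
    exact ((((Commute.refl a).zpow_zpow iu iv).mul_right ((hcomm s hs).zpow_left iu))).mul_left
      ((((hcomm r hr).symm).zpow_right iv).mul_right e)
  exact hz1 (mem_bot.1 (hbot.le hz))

end Cfsg.Lib.OddOrder.NoTypeV
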