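import Mathlib

/-!
The mean of the reciprocal orders of the centralizers on the core of the partner.
-/

set_option autoImplicit false

namespace Cfsg.Lib.OddOrder.NoTypeV

open scoped Classical in
/-- The mean over `u ∈ U` of `1 / |C_H(u)|`. -/
noncomputable def avgFix {G : Type*} [Group G] [Finite G] (U H : Subgroup G) : ℝ :=
  letI := Fintype.ofFinite U
  (∑ u : U, (1 : ℝ) / Nat.card ↥(H ⊓ Subgroup.centralizer ({(u : G)} : Set G))) / Nat.card U

end Cfsg.Lib.OddOrder.NoTypeV
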