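import Cfsg.Agent.Lib.OddOrder.NoTypeV.PartnerAction
import Cfsg.Agent.Lib.OddOrder.NoTypeV.PartnerDef
import Cfsg.Agent.S1545

/-!
The mean of the reciprocal orders of the centralizers of the elements of an abelian group of rank two in the
group it acts on.
-/

set_option autoImplicit false
set_option linter.unusedSectionVars false
set_option linter.style.haveILetI false

namespace Cfsg.Lib.OddOrder.NoTypeV

open Subgroup

universe u

variable {G : Type u} [Group G] [Finite G] {H U W : Subgroup G} {p q : ℕ}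

/-- The primes of `U`. -/
theorem prime_ge_of_rank (hodd : Odd (Nat.card G)) (hp : p.Prime) (hWp : Nat.card W = p)
    (hab : ∀ a ∈ U, ∀ b ∈ U, a * b = b * a) (hWU : W ≤ Subgroup.normalizer (U : Set G))
    (hfpf : ∀ w ∈ W, w ≠ 1 → ∀ u ∈ U, w * u = u * w → u = 1) {t : ℕ} (ht : t.Prime) (htU : t ∣ Nat.card U)
    (hrank : Nat.card {u : U // u ^ t = 1} ≤ t ^ 2) : 2 * p ≤ t + 1 := by
  haveI : Fact t.Prime := ⟨ht⟩
  haveI : Fact p.Prime := ⟨hp⟩
  let T : Subgroup G :=
    { carrier := {x | x ∈ U ∧ x ^ t = 1}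
      one_mem' := ⟨one_mem _, one_pow _⟩
      mul_mem' := fun {a b} ha hb => ⟨mul_mem ha.1 hb.1, by
        rw [(show Commute a b from hab a ha.1 b hb.1).mul_pow, ha.2, hb.2, one_mul]⟩
      inv_mem' := fun {a} ha => ⟨inv_mem ha.1, by rw [inv_pow, ha.2, inv_one]⟩ }
  have hTn : ∀ w ∈ W, ∀ x ∈ T, w * x * w⁻¹ ∈ T := fun w hw x hx =>
    ⟨(mem_normalizer_iff.1 (hWU hw) x).1 hx.1, by rw [conj_pow, hx.2, mul_one, mul_inv_cancel]⟩
  have hTcard : Nat.card T ≤ t ^ 2 := le_of_eq_of_le (Nat.card_congr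
    { toFun := fun x => ⟨⟨x.1, x.2.1⟩, Subtype.ext (by simpa using x.2.2)⟩
      invFun := fun x => ⟨x.1.1, x.1.2, by simpa using congrArg Subtype.val x.2⟩
      left_inv := fun x => rfl
      right_inv := fun x => rfl }) hrank
  have hTp : IsPGroup t T := fun x => ⟨1, Subtype.ext (by simpa using x.2.2)⟩
  obtain ⟨j, hj⟩ := IsPGroup.iff_card.1 hTp
  have hj2 : j ≤ 2 := (Nat.pow_le_pow_iff_right ht.one_lt).1 (hj ▸ hTcard)
  have hj0 : j ≠ 0 := fun e => by
    obtain ⟨x, hx⟩ := exists_prime_orderOf_dvd_card' (G := U) t htU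
    have hxT : (x : G) ∈ T := ⟨x.2, by
      rw [← SubmonoidClass.coe_pow, orderOf_dvd_iff_pow_eq_one.1 (dvd_of_eq hx), OneMemClass.coe_one]⟩
    rw [(card_eq_one (H := T)).1 (by rw [hj, e, pow_zero]), mem_bot] at hxT
    rw [show x = 1 from Subtype.ext hxT, orderOf_one] at hx
    exact ht.one_lt.ne hx
  letI : MulAction W T :=
    { smul := fun w x => ⟨(w : G) * x * (w : G)⁻¹, hTn w w.2 x x.2⟩
      one_smul := fun x => Subtype.ext (show (1 : G) * x * (1 : G)⁻¹ = x by group)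
      mul_smul := fun a b x => Subtype.ext
        (show ((a : G) * b) * x * ((a : G) * b)⁻¹ = a * (b * x * (b : G)⁻¹) * (a : G)⁻¹ by group) }
  have hfix : Nat.card (MulAction.fixedPoints W T) = 1 := by
    obtain ⟨w, hw, hw1⟩ := W.bot_or_exists_ne_one.resolve_left fun e => hp.ne_one (by rw [← hWp, e, card_bot])
    refine Nat.card_eq_one_iff_unique.2 ⟨⟨fun a b => ?_⟩, ⟨⟨1, fun v => Subtype.ext ?_⟩⟩⟩
    · have key : ∀ a : MulAction.fixedPoints W T, ((a : T) : G) = 1 := fun a => by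
        have e : w * (a : T) * w⁻¹ = (a : T) := congrArg Subtype.val (a.2 ⟨w, hw⟩)
        exact hfpf w hw hw1 _ (a : T).2.1 (by rw [← mul_inv_eq_iff_eq_mul, e])
      exact Subtype.ext (Subtype.ext ((key a).trans (key b).symm))
    · show (v : G) * 1 * (v : G)⁻¹ = 1
      group
  have hmod := (IsPGroup.of_card (hWp.trans (pow_one p).symm)).card_modEq_card_fixedPoints T
  rw [hfix, hj] at hmod
  have hdvd : p ∣ t ^ j - 1 := (Nat.modEq_iff_dvd' (Nat.one_le_pow _ _ ht.pos)).1 hmod.symm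
  have ho : ∀ n : ℕ, n ∣ Nat.card G → Odd n := fun n h => hodd.of_dvd_nat h
  have hpodd : Odd p := ho p (hWp ▸ card_subgroup_dvd_card W)
  have htodd : Odd t := ho t (htU.trans (card_subgroup_dvd_card U))
  obtain ⟨a, ha⟩ := htodd
  have h2 : ∀ m : ℕ, p ∣ 2 * m → 0 < m → 2 * p ≤ 2 * m := fun m hd hm =>
    Nat.mul_le_mul_left 2 (Nat.le_of_dvd hm ((Nat.coprime_two_right.2 hpodd).dvd_of_dvd_mul_left hd))
  have ha0 : 0 < a := by have := ht.two_le; omega
  rcases (show j = 1 ∨ j = 2 by omega) with rfl | rfl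
  · rw [pow_one, ha, Nat.add_sub_cancel] at hdvd
    have := h2 a hdvd ha0
    omega
  · rw [ha, show (2 * a + 1) ^ 2 - 1 = 2 * a * (2 * (a + 1)) by
      rw [Nat.sub_eq_iff_eq_add (Nat.one_le_pow _ _ (by omega))]; ring] at hdvd
    rcases hp.dvd_mul.1 hdvd with h | h
    · have := h2 a h ha0
      omega
    · have := h2 (a + 1) h (Nat.succ_pos a)
      omega

set_option maxHeartbeats 1000000 in
/-- The orbit of an element under a generator of `W` stays inside the subgroup of the element and its image. -/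
theorem pair_invariant (hab : ∀ a ∈ U, ∀ b ∈ U, a * b = b * a)
    (hrank : ∀ t : ℕ, t.Prime → Nat.card {u : U // u ^ t = 1} ≤ t ^ 2) {x : G}
    (hx : x ∈ Subgroup.normalizer (U : Set G)) {u : G} (hu : u ∈ U) :
    x * (x * u * x⁻¹) * x⁻¹ ∈ closure ({u, x * u * x⁻¹} : Set G) := by
  set X := closure ({u, x * u * x⁻¹} : Set G)
  suffices key : ∀ n : ℕ, n ≠ 0 → ∀ v ∈ zpowers u, v ^ n = 1 → x * (x * v * x⁻¹) * x⁻¹ ∈ X from
    key (orderOf u) (orderOf_pos u).ne' u (mem_zpowers u) (pow_orderOf_eq_one u)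
  intro n
  induction n using Nat.recOnPrimeCoprime with
  | zero => exact fun h => absurd rfl h
  | prime_pow t k ht =>
    intro _ v hv hvk
    haveI : Fact t.Prime := ⟨ht⟩
    have hle : zpowers u ≤ U := zpowers_le.2 hu
    let T : Subgroup G :=
      { carrier := {y | y ∈ U ∧ ∃ i : ℕ, y ^ t ^ i = 1}
        one_mem' := ⟨one_mem _, 0, one_pow _⟩
        mul_mem' := fun {a b} ha hb => by
          obtain ⟨i, hi⟩ := ha.2
          obtain ⟨i', hi'⟩ := hb.2
          refine ⟨mul_mem ha.1 hb.1, i + i', ?_⟩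
          rw [(show Commute a b from hab a ha.1 b hb.1).mul_pow, pow_add, pow_mul, hi, one_pow, one_mul,
            mul_comm (t ^ i), pow_mul, hi', one_pow]
        inv_mem' := fun {a} ha => by
          obtain ⟨i, hi⟩ := ha.2
          exact ⟨inv_mem ha.1, i, by rw [inv_pow, hi, inv_one]⟩ }
    letI : CommGroup T :=
      { (inferInstance : Group T) with mul_comm := fun a b => Subtype.ext (hab a a.2.1 b b.2.1) }
    have hmem : ∀ g ∈ Subgroup.normalizer (U : Set G), ∀ y ∈ T, g * y * g⁻¹ ∈ T := fun g hg y hy =>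
      ⟨(mem_normalizer_iff.1 hg y).1 hy.1, hy.2.imp fun i hi => by rw [conj_pow, hi, mul_one, mul_inv_cancel]⟩
    let φ : MulAut T :=
      { toFun := fun y => ⟨x * y * x⁻¹, hmem x hx y y.2⟩
        invFun := fun y => ⟨x⁻¹ * y * (x⁻¹)⁻¹, hmem x⁻¹ (inv_mem hx) y y.2⟩
        left_inv := fun y => Subtype.ext (show x⁻¹ * (x * y * x⁻¹) * (x⁻¹)⁻¹ = y by group)
        right_inv := fun y => Subtype.ext (show x * (x⁻¹ * y * (x⁻¹)⁻¹) * x⁻¹ = y by group)
        map_mul' := fun a b => Subtype.ext (show x * (a * b) * x⁻¹ = x * a * x⁻¹ * (x * b * x⁻¹) by group) }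
    have hTp : IsPGroup t T := fun y => y.2.2.imp fun i hi => Subtype.ext (by simpa using hi)
    have hker : Nat.card (powMonoidHom t : T →* T).ker ≤ t ^ 2 := by
      refine (Nat.card_le_card_of_injective (fun y : ↥(powMonoidHom t : T →* T).ker => (⟨⟨((y : T) : G), (y : T).2.1⟩, ?_⟩ : {u : U // u ^ t = 1}))
        fun a b e => ?_).trans (hrank t ht)
      · refine Subtype.ext ?_
        have := congrArg Subtype.val (MonoidHom.mem_ker.1 y.2)
        simpa using this
      · exact Subtype.ext (Subtype.ext (congrArg (fun z : {u : U // u ^ t = 1} => ((z : U) : G)) e))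
    have h := sq_mem_closure ht hTp hker φ ⟨v, hle hv, k, hvk⟩
    have hmap : (closure ({⟨v, hle hv, k, hvk⟩, φ ⟨v, hle hv, k, hvk⟩} : Set T)).map T.subtype ≤ X := by
      rw [MonoidHom.map_closure, closure_le]
      rintro z ⟨y, hy, rfl⟩
      obtain ⟨i, rfl⟩ := mem_zpowers_iff.1 hv
      rcases hy with rfl | rfl
      · exact X.zpow_mem (subset_closure (Set.mem_insert _ _)) i
      · have hxu : x * u * x⁻¹ ∈ X := subset_closure (Set.mem_insert_of_mem _ (Set.mem_singleton _))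
        show x * u ^ i * x⁻¹ ∈ X
        rw [← conj_zpow]
        exact X.zpow_mem hxu i
    exact hmap (mem_map_of_mem T.subtype h)
  | coprime a b ha hb hab' iha ihb =>
    intro _ v hv hvn
    have e : v = (v ^ a) ^ (a.gcdA b) * (v ^ b) ^ (a.gcdB b) := by
      rw [← zpow_natCast v a, ← zpow_natCast v b, ← zpow_mul, ← zpow_mul, ← zpow_add, ← Nat.gcd_eq_gcd_ab,
        hab'.gcd_eq_one, Nat.cast_one, zpow_one]
    have h1 : ∀ (c d : ℕ), d ≠ 0 → (∀ w ∈ zpowers u, w ^ d = 1 → x * (x * w * x⁻¹) * x⁻¹ ∈ X) → v ^ (c * d) = 1 →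
        ∀ i : ℤ, x * (x * (v ^ c) ^ i * x⁻¹) * x⁻¹ ∈ X := fun c d _ hd hcd i =>
      hd _ (zpow_mem (pow_mem hv c) i) (by
        rw [← zpow_natCast, ← zpow_mul, mul_comm, zpow_mul, zpow_natCast, ← pow_mul, hcd, one_zpow])
    rw [e, show x * (x * ((v ^ a) ^ a.gcdA b * (v ^ b) ^ a.gcdB b) * x⁻¹) * x⁻¹ =
      (x * (x * (v ^ a) ^ a.gcdA b * x⁻¹) * x⁻¹) * (x * (x * (v ^ b) ^ a.gcdB b * x⁻¹) * x⁻¹) by group]
    exact mul_mem (h1 a b (by omega) (ihb (by omega)) hvn _)
      (h1 b a (by omega) (iha (by omega)) (by rw [mul_comm]; exact hvn) _)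

theorem conj_centralizer_card {x : G} (hxH : x ∈ Subgroup.normalizer (H : Set G)) (u : G) :
    Nat.card ↥(H ⊓ centralizer ({x * u * x⁻¹} : Set G)) = Nat.card ↥(H ⊓ centralizer ({u} : Set G)) := by
  refine Nat.card_congr (((MulAut.conj x⁻¹).toEquiv).subtypeEquiv fun h => ?_)
  simp only [MulEquiv.toEquiv_eq_coe, EquivLike.coe_coe, MulAut.conj_apply, inv_inv, mem_inf,
    mem_centralizer_singleton_iff]
  refine and_congr ⟨fun h1 => by simpa using (mem_normalizer_iff.1 (inv_mem hxH) h).1 h1, fun h1 => ?_⟩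
    ⟨fun h1 => ?_, fun h1 => ?_⟩
  · simpa [mul_assoc] using (mem_normalizer_iff.1 hxH _).1 h1
  · calc x⁻¹ * h * x * u = x⁻¹ * (h * (x * u * x⁻¹)) * x := by group
      _ = x⁻¹ * ((x * u * x⁻¹) * h) * x := by rw [h1]
      _ = u * (x⁻¹ * h * x) := by group
  · calc h * (x * u * x⁻¹) = x * (x⁻¹ * h * x * u) * x⁻¹ := by group
      _ = x * (u * (x⁻¹ * h * x)) * x⁻¹ := by rw [h1]
      _ = x * u * x⁻¹ * h := by group

/-- An element with nontrivial fixed points has many of them. -/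
theorem bad_element (hodd : Odd (Nat.card G)) (hp : p.Prime) (hWp : Nat.card W = p)
    (hab : ∀ a ∈ U, ∀ b ∈ U, a * b = b * a)
    (hUH : U ≤ Subgroup.normalizer (H : Set G)) (hWH : W ≤ Subgroup.normalizer (H : Set G))
    (hWU : W ≤ Subgroup.normalizer (U : Set G))
    (hfpf : ∀ w ∈ W, w ≠ 1 → ∀ u ∈ U, w * u = u * w → u = 1)
    (hsol : Group.IsSolvable H) (hcopU : (Nat.card H).Coprime (Nat.card U)) (hcopW : (Nat.card H).Coprime p)
    (hfix : H ⊓ Subgroup.centralizer (U : Set G) = ⊥) (hcard : Nat.card H = q ^ p)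
    (hWfix : Nat.card ↥(H ⊓ Subgroup.centralizer (W : Set G)) = q)
    (hrank : ∀ t : ℕ, t.Prime → Nat.card {u : U // u ^ t = 1} ≤ t ^ 2)
    (hfree : ∀ u ∈ U, ∀ t : ℕ, t.Prime → t ∣ Nat.card U → t ∣ Nat.card ↥(H ⊓ Subgroup.centralizer ({u} : Set G)) - 1)
    (h2q : 2 * q ≤ p + 1)
    {u : G} (hu : u ∈ U) (hu0 : u ∉ centralizer (H : Set G)) (hc : Nat.card ↥(H ⊓ centralizer ({u} : Set G)) ≠ 1) :
    ¬ q.Prime ∧ 3 ^ p ≤ Nat.card ↥(H ⊓ centralizer ({u} : Set G)) := by
  classical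
  have hu1 : u ≠ 1 := fun e => hu0 (e ▸ one_mem _)
  haveI : Fintype W := Fintype.ofFinite _
  set c := Nat.card ↥(H ⊓ centralizer ({u} : Set G)) with hcdef
  obtain ⟨t, ht, htU⟩ := Nat.exists_prime_and_dvd (n := Nat.card U) fun h =>
    hu1 (by simpa [card_eq_one.1 h] using hu)
  have hbig : q < c := by
    have h1 := prime_ge_of_rank hodd hp hWp hab hWU hfpf ht htU (hrank t ht)
    have hco : Odd c := hodd.of_dvd_nat (card_subgroup_dvd_card _)
    have hc0 : 0 < c := Nat.card_pos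
    have h2 : t ∣ c - 1 := hfree u hu t ht htU
    obtain ⟨a, ha⟩ := hco
    rw [ha, Nat.add_sub_cancel] at h2
    have htodd : Odd t := hodd.of_dvd_nat (htU.trans (card_subgroup_dvd_card _))
    have h3 := Nat.le_of_dvd (by omega) ((Nat.coprime_two_right.2 htodd).dvd_of_dvd_mul_left h2)
    have := hp.two_le
    omega
  have hinj : Function.Injective fun w : W => (w : G) * u * (w : G)⁻¹ := by
    intro a b e
    by_contra hne
    refine hu1 (hfpf ((b : G)⁻¹ * a) (mul_mem (inv_mem b.2) a.2) (fun h => hne (Subtype.ext (inv_mul_eq_one.1 h).symm))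
      u hu ?_)
    calc (b : G)⁻¹ * a * u = (b : G)⁻¹ * (a * u * (a : G)⁻¹) * a := by group
      _ = (b : G)⁻¹ * (b * u * (b : G)⁻¹) * a := by rw [show (a : G) * u * (a : G)⁻¹ = _ from e]
      _ = u * ((b : G)⁻¹ * a) := by group
  set s : Finset G := (Finset.univ : Finset W).image fun w : W => (w : G) * u * (w : G)⁻¹ with hs
  have hsU : ∀ v ∈ s, v ∈ U := by
    intro v hv
    obtain ⟨w, -, rfl⟩ := Finset.mem_image.1 hv
    exact (mem_normalizer_iff.1 (hWU w.2) u).1 hu
  obtain ⟨w₁, w₂, hne, hbot⟩ : ∃ w₁ w₂ : W, w₁ ≠ w₂ ∧ H ⊓ centralizer (closure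
      ({(w₁ : G) * u * (w₁ : G)⁻¹, (w₂ : G) * u * (w₂ : G)⁻¹} : Set G) : Set G) ≠ ⊥ := by
    by_contra hno
    push Not at hno
    have h := centralizer_prod hab s hsU 1 1 H hUH hsol hcopU.symm hfix fun A _ hA T hT hTA => by
      rw [mul_one]
      refine Finset.card_le_one.2 fun a ha b hb => by_contra fun hab' => hA (eq_bot_iff.2 ?_)
      obtain ⟨w₁, -, rfl⟩ := Finset.mem_image.1 (hT ha)
      obtain ⟨w₂, -, rfl⟩ := Finset.mem_image.1 (hT hb)
      rw [← hno w₁ w₂ fun e => hab' (by rw [e])]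
      refine inf_le_inf_left _ (centralizer_le ?_)
      rw [SetLike.coe_subset_coe, closure_le]
      rintro z (rfl | rfl)
      · exact hTA _ ha
      · exact hTA _ hb
    rw [pow_one, pow_one, hs, Finset.prod_image fun a _ b _ e => hinj e,
      Finset.prod_congr rfl fun w _ => conj_centralizer_card (hWH w.2) u, Finset.prod_const, Finset.card_univ,
      ← Nat.card_eq_fintype_card, hWp, hcard] at h
    exact absurd ((Nat.pow_le_pow_iff_left hp.ne_zero).1 h) (not_le.2 hbig)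
  set z : G := (w₁ : G)⁻¹ * w₂ with hz
  have hzW : z ∈ W := mul_mem (inv_mem w₁.2) w₂.2
  have hz1 : z ≠ 1 := fun e => hne (Subtype.ext (inv_mul_eq_one.1 e))
  set X : Subgroup G := closure ({u, z * u * z⁻¹} : Set G) with hX
  have hzu : z * u * z⁻¹ ∈ U := (mem_normalizer_iff.1 (hWU hzW) u).1 hu
  have hXU : X ≤ U := (closure_le _).2 (by rintro v (rfl | rfl); exacts [hu, hzu])
  have hzX : z ∈ normalizer (X : Set G) := by
    refine Cfsg.Lib.OddOrder.mem_normalizer_of_forall fun v hv => ?_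
    have hle : X ≤ X.comap (MulAut.conj z).toMonoidHom := by
      rw [hX, closure_le]
      rintro v (rfl | rfl)
      · show z * v * z⁻¹ ∈ X
        exact subset_closure (Set.mem_insert_of_mem _ rfl)
      · exact pair_invariant hab hrank (hWU hzW) hu
    exact hle hv
  haveI : Fact p.Prime := ⟨hp⟩
  have hWX : W ≤ normalizer (X : Set G) := fun w hw => by
    obtain ⟨k, hk⟩ := mem_zpowers_iff.1 (mem_zpowers_of_prime_card hWp (g := (⟨z, hzW⟩ : W))
      (g' := ⟨w, hw⟩) fun e => hz1 (congrArg Subtype.val e))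
    rw [← show z ^ k = w from congrArg Subtype.val hk]
    exact zpow_mem hzX k
  set Y := H ⊓ centralizer (X : Set G) with hY
  have hY1 : Y ≠ ⊥ := by
    obtain ⟨y, hy, hy1⟩ := (bot_or_exists_ne_one _).resolve_left hbot
    intro e
    apply hy1
    have hmem : (w₁ : G)⁻¹ * y * w₁ ∈ Y := by
      refine mem_inf.2 ⟨by simpa using (mem_normalizer_iff.1 (inv_mem (hWH w₁.2)) y).1 hy.1, ?_⟩
      rw [hX, centralizer_closure, mem_centralizer_iff]
      have h2 := hy.2
      rw [SetLike.mem_coe, centralizer_closure] at h2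
      replace h2 := mem_centralizer_iff.1 h2
      rintro v (rfl | rfl)
      · calc v * ((w₁ : G)⁻¹ * y * w₁) = (w₁ : G)⁻¹ * ((w₁ * v * (w₁ : G)⁻¹) * y) * w₁ := by group
          _ = (w₁ : G)⁻¹ * (y * (w₁ * v * (w₁ : G)⁻¹)) * w₁ := by rw [h2 _ (Set.mem_insert _ _)]
          _ = (w₁ : G)⁻¹ * y * w₁ * v := by group
      · calc z * u * z⁻¹ * ((w₁ : G)⁻¹ * y * w₁) = (w₁ : G)⁻¹ * ((w₂ * u * (w₂ : G)⁻¹) * y) * w₁ := by
              rw [hz]; group
          _ = (w₁ : G)⁻¹ * (y * (w₂ * u * (w₂ : G)⁻¹)) * w₁ := by rw [h2 _ (Set.mem_insert_of_mem _ rfl)]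
          _ = (w₁ : G)⁻¹ * y * w₁ * (z * u * z⁻¹) := by rw [hz]; group
    rw [e, mem_bot] at hmem
    calc y = (w₁ : G) * ((w₁ : G)⁻¹ * y * w₁) * (w₁ : G)⁻¹ := by group
      _ = 1 := by rw [hmem, mul_one, mul_inv_cancel]
  have hnorm : U ⊔ W ≤ normalizer (Y : Set G) := by
    refine sup_le (fun v hv => ?_) (fun v hv => ?_) <;>
      refine Cfsg.Lib.OddOrder.mem_normalizer_of_forall fun y hy => mem_inf.2 ⟨?_, mem_centralizer_iff.2 fun a ha => ?_⟩
    · exact (mem_normalizer_iff.1 (hUH hv) y).1 hy.1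
    · have h1 : v * a = a * v := hab v hv a (hXU ha)
      have h2 : a * y = y * a := mem_centralizer_iff.1 hy.2 a ha
      have h3 : v⁻¹ * a = a * v⁻¹ := hab _ (inv_mem hv) a (hXU ha)
      calc a * (v * y * v⁻¹) = (a * v) * y * v⁻¹ := by group
        _ = v * (a * y) * v⁻¹ := by rw [← h1]; group
        _ = v * y * (a * v⁻¹) := by rw [h2]; group
        _ = v * y * v⁻¹ * a := by rw [← h3]; group
    · exact (mem_normalizer_iff.1 (hWH hv) y).1 hy.1
    · have ha' : v⁻¹ * a * v ∈ X := by simpa using (mem_normalizer_iff.1 (inv_mem (hWX hv)) a).1 ha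
      calc a * (v * y * v⁻¹) = v * ((v⁻¹ * a * v) * y) * v⁻¹ := by group
        _ = v * (y * (v⁻¹ * a * v)) * v⁻¹ := by rw [mem_centralizer_iff.1 hy.2 _ ha']
        _ = v * y * v⁻¹ * a := by group
  have hsupdvd : Nat.card ↥(U ⊔ W : Subgroup G) ∣ Nat.card U * Nat.card W :=
    dvd_of_eq (Cfsg.Lib.Coprime.card_sup_of_disjoint hWU (disjoint_iff.2 (eq_bot_iff.2 fun w hw => mem_bot.2
      (by_contra fun hw1 => hw1 (hfpf w hw.2 hw1 w hw.1 rfl)))))
  have hcop : (Nat.card H).Coprime (Nat.card ↥(U ⊔ W : Subgroup G)) :=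
    (Nat.Coprime.mul_right hcopU (hWp ▸ hcopW)).coprime_dvd_right hsupdvd
  have hUW : U ⊓ W = ⊥ := eq_bot_iff.2 fun w hw => mem_bot.2 (by_contra fun hw1 =>
    hw1 (hfpf w hw.2 hw1 w hw.1 rfl))
  have hU1 : U ≠ ⊥ := fun e => hu1 (by simpa [e] using hu)
  have key := Cfsg.Agent.S1545.result U W Y hU1 (fun e => hp.ne_one (by rw [← hWp, e, card_bot])) hUW
    (fun e he v hv => (mem_normalizer_iff.1 (hWU he) v).1 hv) hfpf
    (fun v hv y hy => (mem_normalizer_iff.1 (hnorm hv) y).1 hy)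
    (disjoint_iff.1 (disjoint_of_coprime_natCard (hcop.coprime_dvd_left (card_dvd_of_le inf_le_left))))
    (Cfsg.Lib.Coprime.isSolvable_of_le inf_le_left hsol) (hcop.coprime_dvd_left (card_dvd_of_le inf_le_left))
  have e1 : Y ⊓ centralizer (U : Set G) = ⊥ := eq_bot_iff.2 ((inf_le_inf_right _ inf_le_left).trans hfix.le)
  have e2 : Y ⊓ centralizer ((U ⊔ W : Subgroup G) : Set G) = ⊥ := eq_bot_iff.2
    ((inf_le_inf_left _ (centralizer_le (SetLike.coe_subset_coe.2 le_sup_left))).trans e1.le)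
  rw [e1, e2, card_bot, one_pow, one_mul, mul_one, hWp] at key
  set r := Nat.card ↥(Y ⊓ centralizer (W : Set G))
  have hr1 : r ≠ 1 := fun e => hY1 (card_eq_one.1 (by rw [key, e, one_pow]))
  have hrq : r ∣ q := hWfix ▸ card_dvd_of_le (inf_le_inf_right _ inf_le_left)
  have hr3 : 3 ≤ r := by
    obtain ⟨a, ha⟩ : Odd r := hodd.of_dvd_nat (card_subgroup_dvd_card _)
    omega
  refine ⟨fun hq => hu0 ?_, le_trans (Nat.pow_le_pow_left hr3 p) ?_⟩
  · have er : r = q := (hq.eq_one_or_self_of_dvd r hrq).resolve_left hr1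
    have eY : Y = H := eq_of_le_of_card_ge inf_le_left (by rw [key, er, hcard])
    refine mem_centralizer_iff.2 fun y hy => ?_
    have h2 : y ∈ Y := eY.ge hy
    exact (mem_centralizer_iff.1 h2.2 u (subset_closure (Set.mem_insert _ _))).symm
  · rw [← key]
    refine Nat.le_of_dvd Nat.card_pos (card_dvd_of_le (inf_le_inf_left _ (centralizer_le ?_)))
    exact Set.singleton_subset_iff.2 (subset_closure (Set.mem_insert _ _))

theorem cube_le_three_pow : ∀ n : ℕ, 3 ≤ n → n ^ 3 ≤ 3 ^ n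
  | 0, h => by omega
  | 1, h => by omega
  | 2, h => by omega
  | 3, _ => le_rfl
  | n + 4, _ => by
    have ih := cube_le_three_pow (n + 3) (by omega)
    rw [pow_succ 3 (n + 3)]
    refine le_trans ?_ (Nat.mul_le_mul_right 3 ih)
    nlinarith [Nat.zero_le (n * n * n), Nat.zero_le (n * n)]

set_option maxHeartbeats 1000000 in
/-- The mean of the reciprocal orders of the centralizers. -/
theorem avg_bound (hodd : Odd (Nat.card G)) (hp : p.Prime) (hq : 1 < q) (hWp : Nat.card W = p)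
    (hab : ∀ a ∈ U, ∀ b ∈ U, a * b = b * a) (hU : U ≠ ⊥)
    (hUH : U ≤ Subgroup.normalizer (H : Set G)) (hWH : W ≤ Subgroup.normalizer (H : Set G))
    (hWU : W ≤ Subgroup.normalizer (U : Set G))
    (hfpf : ∀ w ∈ W, w ≠ 1 → ∀ u ∈ U, w * u = u * w → u = 1)
    (hsol : Group.IsSolvable H) (hcopU : (Nat.card H).Coprime (Nat.card U)) (hcopW : (Nat.card H).Coprime p)
    (hfix : H ⊓ Subgroup.centralizer (U : Set G) = ⊥) (hcard : Nat.card H = q ^ p)
    (hWfix : Nat.card ↥(H ⊓ Subgroup.centralizer (W : Set G)) = q)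
    (hrank : ∀ t : ℕ, t.Prime → Nat.card {u : U // u ^ t = 1} ≤ t ^ 2)
    (hfree : ∀ u ∈ U, ∀ t : ℕ, t.Prime → t ∣ Nat.card U → t ∣ Nat.card ↥(H ⊓ Subgroup.centralizer ({u} : Set G)) - 1) :
    11 / 20 ≤ (q : ℝ) * avgFix U H - 1 ∧
      (2 * q ≤ p + 1 → (q : ℝ) ^ 2 ≤ p * ((q : ℝ) * avgFix U H - 1) ∨ (q = 3 ∧ p = 5)) := by
  classical
  letI : Fintype U := Fintype.ofFinite _
  set n := Nat.card U with hn
  set c : U → ℕ := fun u => Nat.card ↥(H ⊓ centralizer ({(u : G)} : Set G)) with hcdef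
  have hn0 : (0 : ℝ) < n := by exact_mod_cast (Nat.card_pos (α := U))
  have havg : avgFix U H = (∑ u : U, (1 : ℝ) / c u) / n := by
    rw [avgFix]
  have hpodd : Odd p := hodd.of_dvd_nat (hWp ▸ card_subgroup_dvd_card W)
  have hp3 : 3 ≤ p := by
    have := hp.two_le
    rcases hpodd with ⟨a, ha⟩
    omega
  have hqodd : Odd q := hodd.of_dvd_nat (hWfix ▸ card_subgroup_dvd_card _)
  have hq3 : 3 ≤ q := by rcases hqodd with ⟨a, ha⟩; omega
  set m := 2 * p - 1 with hm
  have hmt : ∀ t : ℕ, t.Prime → t ∣ n → m ≤ t := fun t ht htd => by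
    have := prime_ge_of_rank hodd hp hWp hab hWU hfpf ht htd (hrank t ht)
    omega
  have hprod : (∏ u : U, c u) ^ m ≤ (q ^ p) ^ n := by
    have h := centralizer_prod hab ((Finset.univ : Finset U).map ⟨Subtype.val, Subtype.val_injective⟩)
      (fun u hu => by obtain ⟨v, -, rfl⟩ := Finset.mem_map.1 hu; exact v.2) n m H hUH hsol hcopU.symm hfix
      fun A hA hne T _ hTA => by
        have h1 : T.card ≤ Nat.card A := by
          rw [← Nat.card_eq_finsetCard]
          exact Nat.card_le_card_of_injective (fun x : T => (⟨x.1, hTA x.1 x.2⟩ : A))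
            fun a b e => Subtype.ext (congrArg (fun z : A => (z : G)) e)
        obtain ⟨t, ht, htd⟩ := Nat.exists_prime_and_dvd (n := A.relIndex U) fun e => hne (eq_bot_iff.2
          ((inf_le_inf_left _ (centralizer_le (SetLike.coe_subset_coe.2 (relIndex_eq_one.1 e)))).trans hfix.le))
        have h2 := Cfsg.Lib.Core.card_mul_relIndex hA
        have h3 : A.relIndex U ≠ 0 := fun e => by
          rw [e, mul_zero] at h2
          exact Nat.card_pos.ne' h2.symm
        calc T.card * m ≤ Nat.card A * A.relIndex U :=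
              Nat.mul_le_mul h1 ((hmt t ht (htd.trans (Dvd.intro_left _ h2))).trans
                (Nat.le_of_dvd (Nat.pos_of_ne_zero h3) htd))
          _ = n := h2
    rw [Finset.prod_map, hcard] at h
    exact h
  have hc0 : ∀ u, 0 < c u := fun u => Nat.card_pos
  have hcR : ∀ u, (0 : ℝ) < c u := fun u => Nat.cast_pos.2 (hc0 u)
  have hqR0 : (0 : ℝ) < q := Nat.cast_pos.2 (show 0 < q by omega)
  have hprodR : (∏ u : U, (c u : ℝ)) ^ m ≤ ((q : ℝ) ^ p) ^ n := by exact_mod_cast hprod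
  have hcu : (Finset.univ : Finset U).card = n := by rw [Finset.card_univ, hn, Nat.card_eq_fintype_card]
  constructor
  · have hg : (31 / 20 : ℝ) ^ m ≤ (q : ℝ) ^ (p - 1) := by
      refine le_of_pow_le_pow_left₀ (by norm_num : (5 : ℕ) ≠ 0) (by positivity) ?_
      rw [← pow_mul, ← pow_mul, mul_comm m 5, pow_mul]
      calc ((31 / 20 : ℝ) ^ 5) ^ m ≤ ((q : ℝ) ^ 2) ^ m := by
            refine pow_le_pow_left₀ (by norm_num) (le_trans (by norm_num : (31 / 20 : ℝ) ^ 5 ≤ 9) ?_) m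
            have : (3 : ℝ) ≤ q := by exact_mod_cast hq3
            nlinarith
        _ ≤ (q : ℝ) ^ ((p - 1) * 5) := by
            rw [← pow_mul]
            exact pow_le_pow_right₀ (by exact_mod_cast hq.le) (by omega)
    have hge : (31 / 20 : ℝ) ^ n ≤ ∏ u : U, (q : ℝ) / c u := by
      have hP0 : (0 : ℝ) < ∏ u : U, (c u : ℝ) := Finset.prod_pos fun u _ => hcR u
      rw [Finset.prod_div_distrib, Finset.prod_const, hcu, le_div_iff₀ hP0]
      generalize (∏ u : U, (c u : ℝ)) = P at hprodR hP0 ⊢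
      have hγ : (0 : ℝ) ≤ 31 / 20 := by norm_num
      generalize (31 / 20 : ℝ) = γ at hg hγ ⊢
      refine le_of_pow_le_pow_left₀ (show m ≠ 0 by omega) (pow_nonneg hqR0.le n) ?_
      rw [mul_pow, ← pow_mul, ← pow_mul, mul_comm n m, pow_mul γ m n]
      calc (γ ^ m) ^ n * P ^ m ≤ ((q : ℝ) ^ (p - 1)) ^ n * ((q : ℝ) ^ p) ^ n :=
            mul_le_mul (pow_le_pow_left₀ (pow_nonneg hγ m) hg n) hprodR (pow_nonneg hP0.le m)
              (pow_nonneg (pow_nonneg hqR0.le _) n)
        _ = (q : ℝ) ^ (m * n) := by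
            rw [← mul_pow, ← pow_add, ← pow_mul, show p - 1 + p = m by omega]
    have h := sum_ge_of_prod_ge (Finset.univ : Finset U) (fun u => (q : ℝ) / c u)
      (fun u _ => div_pos hqR0 (hcR u))
      (γ := 31 / 20) (by norm_num) (by rwa [hcu])
    rw [hcu] at h
    have e : (q : ℝ) * avgFix U H = (∑ u : U, (q : ℝ) / c u) / n := by
      rw [havg, ← mul_div_assoc, Finset.mul_sum]
      simp only [mul_one_div]
    rw [e, le_sub_iff_add_le, le_div_iff₀ hn0]
    linarith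
  intro h2q
  by_cases hex : q = 3 ∧ p = 5
  · exact Or.inr hex
  left
  set C₀ : Subgroup G := U ⊓ centralizer (H : Set G) with hC₀
  set D := (Finset.univ : Finset U).filter fun u : U => (u : G) ∈ centralizer (H : Set G) with hD
  set B := (Finset.univ : Finset U).filter fun u : U => (u : G) ∉ centralizer (H : Set G) ∧ c u ≠ 1 with hB
  have hbad : ∀ u ∈ B, ¬ q.Prime ∧ 3 ^ p ≤ c u := fun u hu =>
    bad_element hodd hp hWp hab hUH hWH hWU hfpf hsol hcopU hcopW hfix hcard hWfix hrank hfree h2q u.2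
      (Finset.mem_filter.1 hu).2.1 (Finset.mem_filter.1 hu).2.2
  have hH1 : H ≠ ⊥ := fun e => by
    rw [e, card_bot] at hcard
    exact (Nat.one_lt_pow hp.ne_zero hq).ne hcard
  have hCp : (p : ℝ) * D.card ≤ n := by
    have hle : C₀ ≤ U := inf_le_left
    obtain ⟨t, ht, htd⟩ := Nat.exists_prime_and_dvd (n := C₀.relIndex U) fun e => hH1 (by
      rw [← hfix, left_eq_inf]
      exact le_centralizer_iff.1 ((relIndex_eq_one.1 e).trans inf_le_right))
    have h2 := Cfsg.Lib.Core.card_mul_relIndex hle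
    have h3 : C₀.relIndex U ≠ 0 := fun e => by
      rw [e, mul_zero] at h2
      exact Nat.card_pos.ne' h2.symm
    have hDC : D.card ≤ Nat.card C₀ := by
      rw [← Nat.card_eq_finsetCard]
      exact Nat.card_le_card_of_injective (fun x : D => (⟨(x.1 : G), x.1.2, (Finset.mem_filter.1 x.2).2⟩ : C₀))
        fun a b e => Subtype.ext (Subtype.ext (congrArg (fun z : C₀ => (z : G)) e))
    have h4 : p ≤ C₀.relIndex U := by
      have := hmt t ht (htd.trans (Dvd.intro_left _ h2))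
      have := Nat.le_of_dvd (Nat.pos_of_ne_zero h3) htd
      omega
    have h5 : p * D.card ≤ n :=
      calc p * D.card ≤ C₀.relIndex U * Nat.card C₀ := Nat.mul_le_mul h4 hDC
        _ = n := by rw [mul_comm]; exact h2
    exact_mod_cast h5
  have hlow : (n : ℝ) - D.card - B.card ≤ (∑ u : U, (1 : ℝ) / c u) := by
    have h1 : ∀ u : U, (1 : ℝ) - (if u ∈ D then 1 else 0) - (if u ∈ B then 1 else 0) ≤ 1 / c u := by
      intro u
      have hpos : (0 : ℝ) ≤ 1 / c u := div_nonneg zero_le_one (hcR u).le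
      by_cases hu1 : u ∈ D
      · rw [if_pos hu1]; split_ifs <;> linarith
      by_cases hcu1 : c u = 1
      · rw [if_neg hu1, if_neg fun hu => (Finset.mem_filter.1 hu).2.2 hcu1, hcu1]; norm_num
      · rw [if_neg hu1, if_pos (Finset.mem_filter.2 ⟨Finset.mem_univ _,
          fun h => hu1 (Finset.mem_filter.2 ⟨Finset.mem_univ _, h⟩), hcu1⟩)]; linarith
    refine le_trans (le_of_eq ?_) (Finset.sum_le_sum fun u _ => h1 u)
    rw [Finset.sum_sub_distrib, Finset.sum_sub_distrib, Finset.sum_const, hcu, nsmul_eq_mul, mul_one,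
      Finset.sum_boole, Finset.sum_boole, Finset.filter_mem_eq_inter, Finset.univ_inter, Finset.filter_mem_eq_inter,
      Finset.univ_inter]
  rw [havg]
  set S₀ := ∑ u : U, (1 : ℝ) / c u
  rw [← mul_div_assoc, div_sub_one hn0.ne', ← mul_div_assoc, le_div_iff₀ hn0]
  have hqR : (3 : ℝ) ≤ q := by exact_mod_cast hq3
  have hpR : 2 * (q : ℝ) ≤ p + 1 := by exact_mod_cast h2q
  have hstep : (p : ℝ) * ((q : ℝ) * ((n : ℝ) - D.card - B.card) - n) ≤ p * ((q : ℝ) * S₀ - n) :=
    mul_le_mul_of_nonneg_left (sub_le_sub_right (mul_le_mul_of_nonneg_left hlow hqR0.le) _) (Nat.cast_nonneg p)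
  refine le_trans ?_ hstep
  have hCq := mul_le_mul_of_nonneg_left hCp hqR0.le
  by_cases hpr : q.Prime
  · have hB0 : B.card = 0 := Finset.card_eq_zero.2 (Finset.eq_empty_of_forall_notMem fun u hu => (hbad u hu).1 hpr)
    rw [hB0, Nat.cast_zero, sub_zero]
    have key : (q : ℝ) * q + q ≤ p * (q - 1) := by
      rcases eq_or_ne q 3 with rfl | h3
      · have : 7 ≤ p := by
          have : p ≠ 5 := fun e => hex ⟨rfl, e⟩
          rcases hpodd with ⟨a, ha⟩
          omega
        have : (7 : ℝ) ≤ p := by exact_mod_cast this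
        push_cast
        linarith
      · have : (5 : ℝ) ≤ q := by
          have : 5 ≤ q := by rcases hqodd with ⟨a, ha⟩; omega
          exact_mod_cast this
        nlinarith [mul_le_mul_of_nonneg_right hpR (show (0 : ℝ) ≤ q - 1 by linarith)]
    nlinarith [mul_le_mul_of_nonneg_left key hn0.le, hCq]
  · have h9 : 9 ≤ q := by
      rcases hqodd with ⟨a, ha⟩
      rcases (show q = 3 ∨ q = 5 ∨ q = 7 ∨ 9 ≤ q by omega) with rfl | rfl | rfl | h <;>
        first | assumption | exact absurd (by norm_num) hpr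
    have h3B : 3 * B.card * m ≤ q * n := by
      have h1 : (3 ^ p) ^ B.card ≤ ∏ u : U, c u := by
        rw [← Finset.prod_const]
        exact (Finset.prod_le_prod' fun u hu => (hbad u hu).2).trans
          (Finset.prod_le_prod_of_subset_of_one_le' (Finset.subset_univ _) fun u _ _ => hc0 u)
      have h2 : (3 ^ (B.card * m)) ^ p ≤ (q ^ n) ^ p := by
        rw [← pow_mul, ← pow_mul, mul_comm n p, pow_mul q, show B.card * m * p = p * B.card * m by ring, pow_mul,
          pow_mul 3 p]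
        exact (Nat.pow_le_pow_left h1 m).trans hprod
      have h4 : (3 ^ (B.card * m)) ^ 3 ≤ 3 ^ (q * n) :=
        calc (3 ^ (B.card * m)) ^ 3 ≤ (q ^ n) ^ 3 :=
              Nat.pow_le_pow_left ((Nat.pow_le_pow_iff_left hp.ne_zero).1 h2) 3
          _ = (q ^ 3) ^ n := by rw [← pow_mul, ← pow_mul, mul_comm]
          _ ≤ (3 ^ q) ^ n := Nat.pow_le_pow_left (cube_le_three_pow q hq3) n
          _ = 3 ^ (q * n) := (pow_mul 3 q n).symm
      rw [← pow_mul, Nat.pow_le_pow_iff_right (by norm_num : 1 < 3)] at h4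
      rw [mul_assoc, mul_comm]
      exact h4
    have h3B' : 3 * (B.card : ℝ) * (2 * p - 1) ≤ q * n := by
      have : ((3 * B.card * m : ℕ) : ℝ) ≤ ((q * n : ℕ) : ℝ) := by exact_mod_cast h3B
      rw [hm, Nat.cast_mul, Nat.cast_mul, Nat.cast_sub (show 1 ≤ 2 * p by omega), Nat.cast_mul] at this
      push_cast at this ⊢
      linarith
    have h9' : (9 : ℝ) ≤ q := by exact_mod_cast h9
    have hB11 : (11 : ℝ) * B.card ≤ n := by
      have hb0 : (0 : ℝ) ≤ B.card := by positivity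
      have h5 : 3 * (B.card : ℝ) * (4 * q - 3) ≤ q * n :=
        (mul_le_mul_of_nonneg_left (by linarith) (by positivity)).trans h3B'
      nlinarith [mul_le_mul_of_nonneg_left h9' hn0.le]
    have key : (q : ℝ) * q + q ≤ p * (10 * q / 11 - 1) := by
      nlinarith [mul_le_mul_of_nonneg_right hpR (show (0 : ℝ) ≤ 10 * q / 11 - 1 by linarith)]
    nlinarith [mul_le_mul_of_nonneg_left key hn0.le, hCq,
      mul_le_mul_of_nonneg_left hB11 (show (0 : ℝ) ≤ (p : ℝ) * q by positivity)]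

end Cfsg.Lib.OddOrder.NoTypeV
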