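import Cfsg.Agent.Lib.OddOrder.NoTypeV.QuietSet
import Cfsg.Agent.Lib.OddOrder.NoTypeV.PartnerAvg

/-!
The quiet set of a maximal subgroup of type V: it is large.
-/

set_option autoImplicit false
set_option linter.unusedSectionVars false
set_option linter.style.haveILetI false

namespace Cfsg.Lib.OddOrder.NoTypeV

open Subgroup Cfsg.Lib.Local Cfsg.Lib.Local.Sigma Cfsg.Lib.Char Cfsg.Lib.Char.FT Cfsg.Lib.OddOrder
open scoped commutatorElement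

universe u

variable {G : Type u} [Group G] {M W₁ W₂ : Subgroup G}

theorem exists_quiet [Fintype G] (hG : Cfsg.IsMinSimpleOddOrder G) (hM : IsCoatom M)
    (hP : Cfsg.IsTypePWith M W₁ ⊥ W₂) (hF : Cfsg.fittingHallOf M = ⁅M, M⁆) (hc : Cfsg.sigmaCore M = ⁅M, M⁆)
    (hp : (Nat.card W₂).Prime) :
    ∃ (Y : Set G) (L : ℝ),
      (∀ g ∈ Y, g ≠ 1 ∧ g ∉ Cfsg.tildeOf M (((⁅M, M⁆ : Subgroup G) : Set G) \ {1}) ∧ g ∉ tiSet W₁ W₂ ∧
        (orderOf g).Coprime (Nat.card W₁)) ∧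
      L / ((Nat.card W₂ : ℝ) * Nat.card W₁) < muOn Y (fun _ => 1) ∧ 11 / 20 ≤ L ∧
      (2 * Nat.card W₁ ≤ Nat.card W₂ + 1 →
        (Nat.card W₁ : ℝ) ^ 2 ≤ Nat.card W₂ * L ∨ (Nat.card W₁ = 3 ∧ Nat.card W₂ = 5)) := by
  obtain ⟨T, H, U, g₀, d⟩ := exists_partner hG hM hP hc
  have havg := avg_bound hG.1 (H := H) (U := U) (W := W₂) hp d.one_lt rfl d.comm d.ne d.normal d.normalW d.normalU
    d.fpf d.solvable d.coprimeU d.coprimeW d.fix d.card d.fixW d.rank d.free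
  exact ⟨quietSet M W₁ W₂ T H, (Nat.card W₁ : ℝ) * avgFix U H - 1,
    fun g hg => ⟨hg.1, hg.2.1, hg.2.2.1, quietSet_coprime hG g₀ d hg⟩,
    muOn_quietSet hG hM hP hc g₀ d, havg.1, havg.2⟩

end Cfsg.Lib.OddOrder.NoTypeV
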