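import Cfsg.Agent.Lib.OddOrder.NoTypeV.Family
import Cfsg.Agent.Lib.Char.CentralFpf
import Cfsg.Agent.Lib.Local.Sigma.FittingHall

/-!
The images of the linear family are constant off `1` on a subgroup of `Z(M') ⊓ M''` which `W₁` moves
fixed point freely, when `M'` is a TI-subset and `W₂` is not central in `M'`.
-/

set_option autoImplicit false
set_option linter.unusedSectionVars false
set_option linter.style.haveILetI false

namespace Cfsg.Lib.OddOrder.NoTypeV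

open Cfsg Cfsg.Lib.Char Cfsg.Lib.Char.FT Cfsg.Lib.Local.Sigma
open scoped commutatorElement ComplexConjugate Classical

universe u

variable {G : Type u} [Group G] [Fintype G] {M W₁ W₂ : Subgroup G} [Fintype M] [Fintype (Row W₁ W₂)]
  {μ : Row W₁ W₂ → Col W₁ W₂ → M → ℂ} {δ : Col W₁ W₂ → ℤ} {χ : (↥(W₁ ⊔ W₂) →* ℂˣ) → (G → ℂ)}
  {f : (M → ℂ) → (G → ℂ)} {ζ : M → ℂ}

/-- A signed irreducible character. -/
theorem signed_props {F : G → ℂ} (h : IsIrrCharacter G F ∨ IsIrrCharacter G (-F)) :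
    IsClassFunction G F ∧ F 1 ≠ 0 := by
  rcases h with h | h
  · exact ⟨h.isClassFunction, h.apply_one_ne_zero⟩
  · exact ⟨fun x y => by simpa using h.isClassFunction x y, fun e => h.apply_one_ne_zero (by simp [e])⟩

/-- Two orthonormal signed characters which are not orthogonal agree up to sign. -/
theorem eq_smul_of_inner_ne {F s : G → ℂ} (hF : IsIrrCharacter G F ∨ IsIrrCharacter G (-F))
    (hs : IsGeneralizedCharacter G s) (hs1 : classInner s s = 1) (hne : classInner F s ≠ 0) :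
    ∃ a : ℤ, (a = 1 ∨ a = -1) ∧ s = (a : ℂ) • F := by
  obtain ⟨ε, ν, hε, rfl⟩ := exists_signed_irr_of_norm_one hs hs1
  rcases hF with h | h
  · have e : (ν : G → ℂ) = F := by
      by_contra hno
      rw [classInner_smul_right, classInner_irr_ne h ν.2 (Ne.symm hno), mul_zero] at hne
      exact hne rfl
    exact ⟨ε, hε, by rw [e]⟩
  · have e : (ν : G → ℂ) = -F := by
      by_contra hno
      rw [classInner_smul_right, show F = -(-F) by simp, classInner_neg_left,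
        classInner_irr_ne h ν.2 (Ne.symm hno)] at hne
      simp at hne
    refine ⟨-ε, by omega, ?_⟩
    rw [e]
    funext x
    simp

/-- The two members of a proportional pair cannot be carried by `F` and `F'`. -/
theorem pair_absurd {F F' s₁ s₂ : G → ℂ} {d₁ d₂ : ℕ} (hd₂ : d₂ ≠ 0) {a b : ℤ} (ha : a ≠ 0)
    (hF : classInner F F = 1) (hF' : classInner F' F' = 1) (horth : classInner F F' = 0) (hF1 : F 1 ≠ 0)
    (h1 : F 1 = F' 1) (hs₁ : s₁ = (a : ℂ) • F) (hs₂ : s₂ = (b : ℂ) • F')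
    (hg : (d₂ : ℂ) * classInner (F - F') s₁ = (d₁ : ℂ) * classInner (F - F') s₂)
    (hz : (d₂ : ℂ) * s₁ 1 = (d₁ : ℂ) * s₂ 1) : False := by
  subst hs₁ hs₂
  rw [classInner_smul_right, classInner_smul_right, classInner_sub_left, classInner_sub_left, hF, hF', horth,
    classInner_symm_zero horth, map_intCast, map_intCast] at hg
  simp only [Pi.smul_apply, smul_eq_mul, ← h1] at hz
  have e : (d₂ : ℂ) * (a : ℂ) = (d₁ : ℂ) * (b : ℂ) := mul_right_cancel₀ hF1 (by rw [mul_assoc, hz, mul_assoc])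
  have : (d₂ : ℂ) * (a : ℂ) = 0 := by linear_combination (1 / 2 : ℂ) * hg + (1 / 2 : ℂ) * e
  rcases mul_eq_zero.1 this with h | h
  · exact hd₂ (by exact_mod_cast h)
  · exact ha (by exact_mod_cast h)

/-- A nontrivial element of prime order in `Z(H) ⊓ H'`. -/
theorem exists_central_prime {H : Type u} [Group H] [Finite H] (hnil : Group.IsNilpotent H)
    (hne : commutator H ≠ ⊥) :
    ∃ r : ℕ, r.Prime ∧ ∃ z : H, z ≠ 1 ∧ z ∈ commutator H ⊓ Subgroup.center H ⊓ Cfsg.pCore r H := by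
  haveI := hnil
  obtain ⟨r, hr, hrd⟩ := Nat.exists_prime_and_dvd (show Nat.card ↥(commutator H ⊓ Subgroup.center H) ≠ 1 from
    fun h => Cfsg.Lib.Solv.inf_center_ne_bot_of_isNilpotent hne (Subgroup.eq_bot_of_card_eq _ h))
  haveI := Fact.mk hr
  obtain ⟨⟨z, hz⟩, ho⟩ := exists_prime_orderOf_dvd_card' (G := ↥(commutator H ⊓ Subgroup.center H)) r hrd
  rw [Subgroup.orderOf_mk] at ho
  haveI hn : (Subgroup.zpowers z).Normal := ⟨fun x hx g => by
    rw [Subgroup.mem_center_iff.1 (Subgroup.zpowers_le.2 hz.2 hx) g, mul_inv_cancel_right]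
    exact hx⟩
  refine ⟨r, hr, z, fun e => hr.one_lt.ne (by rw [← ho, e, orderOf_one]), Subgroup.mem_inf.2 ⟨hz, ?_⟩⟩
  exact Cfsg.Lib.Core.le_pCore (IsPGroup.of_card (n := 1) (by rw [Nat.card_zpowers, ho, pow_one]))
    (Subgroup.mem_zpowers z)

theorem exists_const_center (S : VSide M W₁ W₂ μ δ χ) (hTI : Cfsg.IsTISubset ((⁅M, M⁆ : Subgroup G) : Set G))
    (hnc : ¬ W₂ ≤ Subgroup.centralizer ((⁅M, M⁆ : Subgroup G) : Set G)) (hf : IsLinFamily (M := M) f) (hζ : ζ ∈ linFin M) :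
    ∃ Z : Subgroup G, Z ≠ ⊥ ∧ Z ≤ ⁅⁅M, M⁆, ⁅M, M⁆⁆ ∧ M ≤ Subgroup.normalizer (Z : Set G) ∧
      (∀ z ∈ Z, ∀ y ∈ ⁅M, M⁆, z * y = y * z) ∧ W₂ ⊓ Z = ⊥ ∧
        ∀ z ∈ Z, ∀ z' ∈ Z, z ≠ 1 → z' ≠ 1 → f ζ z = f ζ z' := by
  have hP := S.side.typeP
  have hleM : ⁅M, M⁆ ≤ M := hP.W₁_compl.1
  set H := derivedIn M with hH
  haveI hHn : H.Normal := normal_derivedIn M
  haveI := Fintype.ofFinite H
  have hnil : Group.IsNilpotent H := by
    haveI : Group.IsNilpotent (Cfsg.fittingHallOf M) := fittingHallOf_isNilpotent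
    rw [S.fitting] at this
    exact Group.nilpotent_of_surjective (Subgroup.subgroupOfEquivOfLe hleM).symm.toMonoidHom
      (Subgroup.subgroupOfEquivOfLe hleM).symm.surjective
  have hW₂M : ∀ {x : G}, x ∈ W₂ → x ∈ M := fun hx => sup_le_of_typeP hP (Subgroup.mem_sup_right hx)
  obtain ⟨w₂, hw₂, hw₂1⟩ := W₂.bot_or_exists_ne_one.resolve_left hP.selfNormalizing.2.1
  have hne : commutator H ≠ ⊥ := by
    obtain ⟨k, hk, hkc⟩ := S.W₂_le_commutator (x := ⟨w₂, hW₂M hw₂⟩) hw₂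
    intro e
    rw [e, Subgroup.mem_bot] at hkc
    exact hw₂1 (by rw [hkc] at hk; exact (congrArg Subtype.val hk).symm)
  obtain ⟨r, hr, z₀, hz₀1, hz₀⟩ := exists_central_prime hnil hne
  haveI := Fact.mk hr
  -- `Z` inside `M`
  set Zm : Subgroup M := (commutator H).map H.subtype ⊓ (Subgroup.center H).map H.subtype ⊓
    (Cfsg.pCore r H).map H.subtype with hZm
  haveI hZn : Zm.Normal := inferInstance
  have hZH : Zm ≤ H := fun x hx => Subgroup.map_subtype_le _ hx.1.1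
  have hmem : ∀ {x : M}, x ∈ Zm → ∃ k : H, (k : M) = x ∧ k ∈ commutator H ∧ k ∈ Subgroup.center H ∧
      k ∈ Cfsg.pCore r H := by
    intro x hx
    obtain ⟨k, hk, e⟩ := hx.1.1
    obtain ⟨k₂, hk₂, e₂⟩ := hx.1.2
    obtain ⟨k₃, hk₃, e₃⟩ := hx.2
    exact ⟨k, e, hk, Subtype.ext (e₂.trans e.symm) ▸ hk₂, Subtype.ext (e₃.trans e.symm) ▸ hk₃⟩
  have hZc : ∀ z ∈ Zm, ∀ h ∈ H, z * h = h * z := by
    intro z hz h hh
    obtain ⟨k, rfl, -, hkc, -⟩ := hmem hz
    exact (congrArg Subtype.val (Subgroup.mem_center_iff.1 hkc ⟨h, hh⟩)).symm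
  have hZA : Zm.subgroupOf H ≤ Cfsg.pCore r H := fun k hk => by
    obtain ⟨k', e, -, -, h⟩ := hmem (Subgroup.mem_subgroupOf.1 hk)
    rwa [Subtype.ext e] at h
  have hz₀m : (z₀ : M) ∈ Zm :=
    ⟨⟨Subgroup.mem_map_of_mem _ hz₀.1.1, Subgroup.mem_map_of_mem _ hz₀.1.2⟩, Subgroup.mem_map_of_mem _ hz₀.2⟩
  have hdG : ∀ {x : M}, x ∈ Zm → (x : G) ∈ ⁅⁅M, M⁆, ⁅M, M⁆⁆ := by
    intro x hx
    obtain ⟨k, rfl, hk, -, -⟩ := hmem hx
    have hmap : (commutator H).map H.subtype = ⁅H, H⁆ := Subgroup.map_subtype_commutator H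
    have hmap2 : (⁅H, H⁆).map M.subtype = ⁅⁅M, M⁆, ⁅M, M⁆⁆ := by
      rw [Subgroup.map_commutator, show H.map M.subtype = ⁅M, M⁆ from Subgroup.map_subgroupOf_eq_of_le hleM]
    rw [← hmap2, ← hmap]
    exact Subgroup.mem_map_of_mem M.subtype (Subgroup.mem_map_of_mem H.subtype hk)
  set Z : Subgroup G := Zm.map M.subtype with hZdef
  have hZcent : ∀ z ∈ Z, ∀ y ∈ ⁅M, M⁆, z * y = y * z := by
    rintro z ⟨x, hx, rfl⟩ y hy
    exact congrArg Subtype.val (hZc x hx ⟨y, hleM hy⟩ (mem_derivedIn.2 hy))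
  have hW₂Z : W₂ ⊓ Z = ⊥ := by
    haveI := Fact.mk S.prime
    rcases Subgroup.eq_bot_or_eq_top_of_prime_card ((W₂ ⊓ Z).subgroupOf W₂) with h | h
    · exact eq_bot_iff.2 fun x hx => Subgroup.mem_bot.2 (congrArg Subtype.val
        (Subgroup.mem_bot.1 (h.le (show (⟨x, hx.1⟩ : W₂) ∈ (W₂ ⊓ Z).subgroupOf W₂ from
          Subgroup.mem_subgroupOf.2 hx))))
    · refine absurd (fun x hx => Subgroup.mem_centralizer_iff.2 fun y hy => ?_) hnc
      exact (hZcent x ((Subgroup.subgroupOf_eq_top.1 h) hx).2 y hy).symm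
  -- fixed points
  have hfpf : ∀ x : M, x ∉ H → ∀ z ∈ Zm, x * z = z * x → z = 1 := by
    intro x hx z hz hcomm
    obtain ⟨a, ha, w, hw, e⟩ := hP.W₁_compl.2.2.2 x x.2
    have hw1 : w ≠ 1 := fun h => hx (mem_derivedIn.2 (by rw [e, h, mul_one]; exact ha))
    have hzG : (z : G) ∈ Z := Subgroup.mem_map_of_mem M.subtype hz
    have h1 : (z : G) * a = a * z := hZcent _ hzG a ha
    have h2 : (x : G) * z = z * x := congrArg Subtype.val hcomm
    rw [e, mul_assoc, ← mul_assoc (z : G), h1, mul_assoc a] at h2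
    have hzW₂ : (z : G) ∈ W₂ := (hP.W₂_centralizer w hw hw1).le
      ⟨mem_derivedIn.1 (hZH hz), Subgroup.mem_centralizer_singleton_iff.2 (mul_left_cancel h2).symm⟩
    exact Subtype.ext (Subgroup.mem_bot.1 (hW₂Z.le ⟨hzW₂, hzG⟩))
  -- numbers
  have hodd : Odd (Nat.card M) := Cfsg.Lib.Local.Uniq.odd_subgroup S.side.minimal M
  have hoddG : Odd (Nat.card G) := S.side.odd
  have hr_dvd : r ∣ Nat.card ↥⁅M, M⁆ := by
    have h1 : Nat.card (Cfsg.pCore r H) ∣ Nat.card H := Subgroup.card_subgroup_dvd_card _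
    have h2 : Nat.card H = Nat.card ↥⁅M, M⁆ := Nat.card_congr (Subgroup.subgroupOfEquivOfLe hleM).toEquiv
    obtain ⟨n, hn⟩ := IsPGroup.iff_card.1 (Cfsg.Lib.Core.pCore_isPGroup r H)
    have hn0 : n ≠ 0 := fun e => by
      rw [e, pow_zero] at hn
      have := hz₀.2
      rw [Subgroup.eq_bot_of_card_eq _ hn] at this
      exact hz₀1 (Subgroup.mem_bot.1 this)
    exact h2 ▸ (hn ▸ dvd_pow_self r hn0).trans h1
  have hr2 : r ≠ 2 := fun e =>
    (Nat.not_even_iff_odd.2 (hoddG.of_dvd_nat (hr_dvd.trans (Subgroup.card_subgroup_dvd_card _)))) (e ▸ even_two)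
  have hrel : W₁.relIndex M = Nat.card ↥⁅M, M⁆ := by
    have h1 : Nat.card W₁ * W₁.relIndex M = Nat.card M := by
      rw [← Subgroup.relIndex_bot_left (H := W₁), Subgroup.relIndex_mul_relIndex _ _ _ bot_le hP.W₁_compl.2.1,
        Subgroup.relIndex_bot_left]
    have h2 := Subgroup.card_mul_index H
    have h3 : Nat.card H = Nat.card ↥⁅M, M⁆ := Nat.card_congr (Subgroup.subgroupOfEquivOfLe hleM).toEquiv
    rw [S.index_eq, h3, mul_comm] at h2
    exact Nat.eq_of_mul_eq_mul_left Nat.card_pos (h1.trans h2.symm)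
  have hqr : H.index.Coprime r := by
    rw [S.index_eq]
    exact Nat.Coprime.coprime_dvd_right hr_dvd (hrel ▸ hP.W₁_hall)
  have hZq : 2 * H.index + 1 ≤ Nat.card Zm := by
    have hsub : ∀ x : M, x ∈ H → ∀ z ∈ Zm, x * z = z * x := fun x hx z hz => (hZc z hz x hx).symm
    have hdiv : H.index ∣ Nat.card Zm - 1 := by
      letI : MulAction M {z : Zm // z ≠ 1} :=
        { smul := fun g z => ⟨⟨g * (z.1 : M) * g⁻¹, hZn.conj_mem _ z.1.2 g⟩, fun e =>
            z.2 (Subtype.ext (conj_eq_one_iff.1 (congrArg Subtype.val e)))⟩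
          one_smul := fun z => Subtype.ext (Subtype.ext (show (1 : M) * (z.1 : M) * 1⁻¹ = z.1 by group))
          mul_smul := fun a b z => Subtype.ext (Subtype.ext
            (show a * b * (z.1 : M) * (a * b)⁻¹ = a * (b * (z.1 : M) * b⁻¹) * a⁻¹ by group)) }
      have hstab : ∀ z : {z : Zm // z ≠ 1}, MulAction.stabilizer M z = H := by
        intro z
        ext g
        rw [MulAction.mem_stabilizer_iff, Subtype.ext_iff, Subtype.ext_iff]
        show g * (z.1 : M) * g⁻¹ = z.1 ↔ g ∈ H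
        rw [mul_inv_eq_iff_eq_mul]
        refine ⟨fun h => ?_, fun h => hsub g h _ z.1.2⟩
        by_contra hg
        exact z.2 (Subtype.ext (hfpf g hg _ z.1.2 h))
      have hcard : Nat.card {z : Zm // z ≠ 1} = Nat.card Zm - 1 := by
        rw [Nat.card_eq_fintype_card, Fintype.card_subtype_compl, Fintype.card_subtype_eq, Nat.card_eq_fintype_card]
      rw [← hcard, Nat.card_congr (MulAction.selfEquivSigmaOrbits M {z : Zm // z ≠ 1})]
      haveI := Fintype.ofFinite (Quotient (MulAction.orbitRel M {z : Zm // z ≠ 1}))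
      rw [Nat.card_sigma]
      refine Finset.dvd_sum fun w _ => ?_
      rw [← Nat.card_congr (MulAction.orbitEquivQuotientStabilizer M w.out).symm, ← Subgroup.index_eq_card, hstab]
    have hZodd : Odd (Nat.card Zm) := hodd.of_dvd_nat (Subgroup.card_subgroup_dvd_card _)
    have hqodd : Odd H.index := hodd.of_dvd_nat H.index_dvd_card
    have hZ2 : 1 < Nat.card Zm := Finite.one_lt_card_iff_nontrivial.2 ((Subgroup.nontrivial_iff_ne_bot _).2
      fun e => hz₀1 (Subtype.ext (Subgroup.mem_bot.1 (e ▸ hz₀m))))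
    obtain ⟨c, hc⟩ := hdiv
    obtain ⟨a, ha⟩ := hZodd
    obtain ⟨b, hb⟩ := hqodd
    rcases Nat.lt_or_ge c 2 with h | h
    · interval_cases c <;> omega
    · have : H.index * 2 ≤ H.index * c := Nat.mul_le_mul_left _ h
      omega
  -- induction to `G`
  set X := irrNontrivialOn Zm with hX
  have hprop : ∀ α ∈ zspan X, IsClassFunction M α ∧ (∀ x : M, x ∉ H → α x = 0) ∧ IsGeneralizedCharacter M α := by
    intro α hα
    refine Submodule.span_induction (fun a ha => ?_) ?_ (fun a b _ _ ha hb => ?_) (fun z a _ ha => ?_) hα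
    · exact ⟨ha.1.isClassFunction, fun x hx => CentralFpf.apply_off hZH hZc hfpf ha hx,
        ha.1.isCharacter.isGeneralized⟩
    · exact ⟨fun x y => rfl, fun x _ => rfl, isGeneralizedCharacter_zero⟩
    · exact ⟨isClassFunction_add ha.1 hb.1, fun x hx => by simp [ha.2.1 x hx, hb.2.1 x hx], ha.2.2.add hb.2.2⟩
    · rw [← Int.cast_smul_eq_zsmul ℂ]
      exact ⟨fun x y => by simp [ha.1 x y], fun x hx => by simp [ha.2.1 x hx], ha.2.2.intCast_smul z⟩
  have hnorm : Subgroup.normalizer ((⁅M, M⁆ : Subgroup G) : Set G) = M := by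
    have hle : M ≤ Subgroup.normalizer ((⁅M, M⁆ : Subgroup G) : Set G) :=
      Subgroup.le_normalizer.trans (Cfsg.Lib.Local.FreeAction.normalizer_le_normalizer_commutator M)
    refine le_antisymm ?_ hle
    by_contra hnle
    have htop := S.side.coatom.2 _ (lt_of_le_of_ne hle fun e => hnle e.ge)
    have hn : (⁅M, M⁆ : Subgroup G).Normal := Subgroup.normalizer_eq_top_iff.1 htop
    haveI := S.side.minimal.2.1
    rcases hn.eq_bot_or_eq_top with h | h
    · exact hw₂1 (Subgroup.mem_bot.1 (h ▸ W₂_le_derived hP hw₂))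
    · exact S.side.coatom.1 (top_le_iff.1 (h ▸ hleM))
  have hTI' : ∀ x : G, x ∉ M → ∀ t ∈ ((⁅M, M⁆ : Subgroup G) : Set G), t ≠ 1 → x * t * x⁻¹ ∉ ((⁅M, M⁆ : Subgroup G) : Set G) :=
    fun x hx t ht ht1 h => ht1 (hTI x (by rwa [hnorm]) t ht h)
  have hoffG : ∀ α ∈ zspan X, ∀ x : M, (x : G) ∉ ((⁅M, M⁆ : Subgroup G) : Set G) → α x = 0 := fun α hα x hx =>
    (hprop α hα).2.1 x fun h => hx (mem_derivedIn.1 h)
  have hτ : IsLinearIsometryOn (zspanOn X {1}ᶜ) (fun α : M → ℂ => indFun M α) :=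
    ⟨fun a _ b _ => indFun_add M a b, fun a _ n => by
      show indFun M (n • a) = n • indFun M a
      rw [← Int.cast_smul_eq_zsmul ℂ, indFun_smul, Int.cast_smul_eq_zsmul],
      fun a ha b hb => classInner_indFun_TI M _ hTI' (hprop b hb.1).1 (hoffG a ha.1) (hoffG b hb.1)
        (mem_zspanOn_one.1 ha).2,
      fun a ha => isGeneralizedCharacter_indFun M (hprop a ha.1).2.2⟩
  have hτ1 : ∀ α ∈ zspanOn X ({1}ᶜ : Set M), indFun M α 1 = 0 := fun α hα => by
    rw [indFun_apply_one, (mem_zspanOn_one.1 hα).2, mul_zero]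
  obtain ⟨-, σ, hσ, hσα⟩ :=
    CentralFpf.coherent hZH hZc hfpf hnil hr2 hZA hqr hZq hodd hτ hτ1
  -- the two members
  set b := conjFun ζ with hb
  obtain ⟨hbm, hbne⟩ := lin_conj S hζ
  set F := f ζ with hFdef
  set F' := f b with hF'def
  obtain ⟨hFc, hF1⟩ := signed_props (hf.irr ζ hζ)
  obtain ⟨hF'c, -⟩ := signed_props (hf.irr b hbm)
  have hFF : classInner F F = 1 := by rw [hf.orth ζ hζ ζ hζ, if_pos rfl]
  have hFF' : classInner F' F' = 1 := by rw [hf.orth b hbm b hbm, if_pos rfl]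
  have horth : classInner F F' = 0 := by rw [hf.orth ζ hζ b hbm, if_neg hbne.symm]
  have hdeg : F 1 = F' 1 := hf.deg ζ hζ b hbm
  have htriv : ∀ {a : M → ℂ}, a ∈ linFin M → ∀ ξ ∈ X, classInner a ξ = 0 := by
    intro a ha ξ hξ
    refine classInner_irr_ne (lin_irr S ha) hξ.1 fun e => ?_
    obtain ⟨z, hz, hne⟩ := hξ.2
    obtain ⟨k, rfl, hk, -, -⟩ := hmem hz
    exact hne (by rw [← e, lin_apply_commutator S ha hk, lin_degree S ha])
  have hperp : ∀ α ∈ zspanOn X ({1}ᶜ : Set M), classInner (F - F') (indFun M α) = 0 := by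
    intro α hα
    have hcF : IsClassFunction G (F - F') := fun x y => by
      show F _ - F' _ = F _ - F' _
      rw [show F _ = F _ from hFc x y, show F' _ = F' _ from hF'c x y]
    have hspan : ∀ β ∈ zspan X, classInner (ζ - b) β = 0 := by
      intro β hβ
      refine Submodule.span_induction (fun a ha => ?_) ?_ (fun a c _ _ ha hc => ?_) (fun z a _ ha => ?_) hβ
      · rw [classInner_sub_left, htriv hζ a ha, htriv hbm a ha, sub_zero]
      · exact classInner_zero_right _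
      · rw [classInner_add_right, ha, hc, add_zero]
      · rw [← Int.cast_smul_eq_zsmul ℂ, classInner_smul_right, ha, mul_zero]
    rw [classInner_indFun_right M α hcF, ← hspan α hα.1]
    simp only [classInner]
    congr 1
    refine Finset.sum_congr rfl fun x _ => ?_
    by_cases hx : x ∈ H
    · by_cases hx1 : x = 1
      · subst hx1
        rw [(mem_zspanOn_one.1 hα).2, map_zero, mul_zero, mul_zero]
      · have e : tau M (ζ - b) (x : G) = (ζ - b) x := S.side.tau_apply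
          (fun p r => by
            show ζ _ - b _ = ζ _ - b _
            rw [(lin_irr S hζ).isClassFunction p r, show b _ = b _ from (lin_irr S hbm).isClassFunction p r]) x
          (S.mem_A0 hx hx1)
        rw [hf.diff ζ hζ b hbm] at e
        rw [show (F - F') (x : G) = (ζ - b) x from e]
    · rw [(hprop α hα.1).2.1 x hx, map_zero, mul_zero, mul_zero]
  have hd : ∀ ξ ∈ X, ξ 1 = (charDegree ξ : ℂ) := fun ξ hξ => hξ.1.apply_one_eq_charDegree
  have hd0 : ∀ ξ ∈ X, charDegree ξ ≠ 0 := fun ξ hξ e => hξ.1.apply_one_ne_zero (by rw [hd ξ hξ, e, Nat.cast_zero])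
  have hdiff : ∀ ξ ∈ X, ∀ ξ' ∈ X,
      ((charDegree ξ' : ℤ) : ℂ) • ξ - ((charDegree ξ : ℤ) : ℂ) • ξ' ∈ zspanOn X ({1}ᶜ : Set M) := by
    intro ξ hξ ξ' hξ'
    refine mem_zspanOn_one.2 ⟨zspan_sub (zspan_intCast_smul (mem_zspan_self hξ) _)
      (zspan_intCast_smul (mem_zspan_self hξ') _), ?_⟩
    simp [hd ξ hξ, hd ξ' hξ', mul_comm]
  have hσdiff : ∀ ξ ∈ X, ∀ ξ' ∈ X, indFun M (((charDegree ξ' : ℤ) : ℂ) • ξ - ((charDegree ξ : ℤ) : ℂ) • ξ') =
      ((charDegree ξ' : ℤ) : ℂ) • σ ξ - ((charDegree ξ : ℤ) : ℂ) • σ ξ' := by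
    intro ξ hξ ξ' hξ'
    rw [show indFun M (((charDegree ξ' : ℤ) : ℂ) • ξ - ((charDegree ξ : ℤ) : ℂ) • ξ') =
      σ (((charDegree ξ' : ℤ) : ℂ) • ξ - ((charDegree ξ : ℤ) : ℂ) • ξ') from (hσα _ (hdiff ξ hξ ξ' hξ')).symm, hσ.map_sub' (zspan_intCast_smul (mem_zspan_self hξ) _)
      (zspan_intCast_smul (mem_zspan_self hξ') _) (by simpa using zspan_intCast_smul (mem_zspan_self hξ') (-(charDegree ξ : ℤ))),
      hσ.map_intCast_smul (mem_zspan_self hξ), hσ.map_intCast_smul (mem_zspan_self hξ')]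
  have hg : ∀ ξ ∈ X, ∀ ξ' ∈ X, (charDegree ξ' : ℂ) * classInner (F - F') (σ ξ) =
      (charDegree ξ : ℂ) * classInner (F - F') (σ ξ') := by
    intro ξ hξ ξ' hξ'
    have h := hperp _ (hdiff ξ hξ ξ' hξ')
    rw [hσdiff ξ hξ ξ' hξ', classInner_sub_right, classInner_smul_right, classInner_smul_right,
      map_intCast, map_intCast, sub_eq_zero] at h
    simpa using h
  have hval : ∀ ξ ∈ X, ∀ ξ' ∈ X, (charDegree ξ' : ℂ) * σ ξ 1 = (charDegree ξ : ℂ) * σ ξ' 1 := by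
    intro ξ hξ ξ' hξ'
    have h := hτ1 _ (hdiff ξ hξ ξ' hξ')
    rw [hσdiff ξ hξ ξ' hξ'] at h
    simpa [sub_eq_zero] using h
  have hsig : ∀ ξ ∈ X, IsGeneralizedCharacter G (σ ξ) ∧ classInner (σ ξ) (σ ξ) = 1 := fun ξ hξ =>
    ⟨hσ.2.2.2 _ (mem_zspan_self hξ), by
      rw [hσ.2.2.1 _ (mem_zspan_self hξ) _ (mem_zspan_self hξ), classInner_irr_self hξ.1]⟩
  -- orthogonality to the coherent images
  have hzero : ∀ ξ ∈ X, classInner F (σ ξ) = 0 := by
    by_cases hall : ∀ ξ ∈ X, classInner (F - F') (σ ξ) = 0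
    · intro ξ hξ
      by_contra hne'
      obtain ⟨a, ha, e⟩ := eq_smul_of_inner_ne (hf.irr ζ hζ) (hsig ξ hξ).1 (hsig ξ hξ).2 hne'
      have h := hall ξ hξ
      rw [e, classInner_smul_right, classInner_sub_left, hFF, classInner_symm_zero horth, map_intCast] at h
      rcases ha with rfl | rfl <;> simp at h
    exfalso
    push Not at hall
    obtain ⟨ξ₁, hξ₁, hg₁⟩ := hall
    set ξ₂ := conjFun ξ₁ with hξ₂def
    have hξ₂ : ξ₂ ∈ X := irrNontrivialOn_conjFun hξ₁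
    have h12 : ξ₁ ≠ ξ₂ := (irrNontrivialOn_conjFun_ne hodd hξ₁).symm
    have hcase : ∀ ξ ∈ X, ∃ a : ℤ, a ≠ 0 ∧ (σ ξ = (a : ℂ) • F ∨ σ ξ = (a : ℂ) • F') := by
      intro ξ hξ
      have hgξ : classInner (F - F') (σ ξ) ≠ 0 := fun e => hg₁ (by
        have h := hg ξ₁ hξ₁ ξ hξ
        rw [e, mul_zero] at h
        exact (mul_eq_zero.1 h).resolve_left (Nat.cast_ne_zero.2 (hd0 ξ hξ)))
      by_cases hk : classInner F (σ ξ) = 0
      · have hk' : classInner F' (σ ξ) ≠ 0 := fun e => hgξ (by rw [classInner_sub_left, hk, e, sub_zero])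
        obtain ⟨a, ha, e⟩ := eq_smul_of_inner_ne (hf.irr b hbm) (hsig ξ hξ).1 (hsig ξ hξ).2 hk'
        exact ⟨a, by omega, Or.inr e⟩
      · obtain ⟨a, ha, e⟩ := eq_smul_of_inner_ne (hf.irr ζ hζ) (hsig ξ hξ).1 (hsig ξ hξ).2 hk
        exact ⟨a, by omega, Or.inl e⟩
    have h120 : classInner (σ ξ₁) (σ ξ₂) = 0 := by
      rw [hσ.2.2.1 _ (mem_zspan_self hξ₁) _ (mem_zspan_self hξ₂), classInner_irr_ne hξ₁.1 hξ₂.1 h12]
    obtain ⟨a, ha, e₁⟩ := hcase ξ₁ hξ₁
    obtain ⟨c, hc, e₂⟩ := hcase ξ₂ hξ₂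
    have hsame : ∀ K : G → ℂ, classInner K K = 1 → σ ξ₁ = (a : ℂ) • K → σ ξ₂ = (c : ℂ) • K → False := by
      intro K hK k₁ k₂
      rw [k₁, k₂, classInner_smul_left, classInner_smul_right, hK, map_intCast, mul_one, mul_eq_zero] at h120
      rcases h120 with h | h <;> norm_cast at h
    rcases e₁ with e₁ | e₁ <;> rcases e₂ with e₂ | e₂
    · exact hsame F hFF e₁ e₂
    · exact pair_absurd (hd0 ξ₂ hξ₂) ha hFF hFF' horth hF1 hdeg e₁ e₂ (hg ξ₁ hξ₁ ξ₂ hξ₂) (hval ξ₁ hξ₁ ξ₂ hξ₂)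
    · refine pair_absurd (F := F') (F' := F) (hd0 ξ₂ hξ₂) ha hFF' hFF (classInner_symm_zero horth) (hdeg ▸ hF1)
        hdeg.symm e₁ e₂ ?_ (hval ξ₁ hξ₁ ξ₂ hξ₂)
      have h := hg ξ₁ hξ₁ ξ₂ hξ₂
      rw [← neg_sub F F', classInner_neg_left, classInner_neg_left]
      linear_combination -h
    · exact hsame F' hFF' e₁ e₂
  -- the restriction
  set R : M → ℂ := fun x => F x with hR
  have hRc : IsClassFunction M R := fun x y => by simpa [hR] using hFc (x : G) (y : G)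
  have hprop' : ∀ ξ ∈ X, ∀ ξ' ∈ X,
      (charDegree ξ' : ℂ) * classInner R ξ = (charDegree ξ : ℂ) * classInner R ξ' := by
    intro ξ hξ ξ' hξ'
    have h := classInner_indFun_right M (((charDegree ξ' : ℤ) : ℂ) • ξ - ((charDegree ξ : ℤ) : ℂ) • ξ') hFc
    rw [hσdiff ξ hξ ξ' hξ', classInner_sub_right, classInner_smul_right, classInner_smul_right, hzero ξ hξ,
      hzero ξ' hξ', classInner_sub_right, classInner_smul_right, classInner_smul_right, map_intCast,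
      map_intCast, mul_zero, mul_zero, sub_zero] at h
    refine sub_eq_zero.1 ?_
    simpa [hR] using h.symm
  obtain ⟨c, hc⟩ : ∃ c : ℂ, ∀ ξ ∈ X, classInner R ξ = c * ξ 1 := by
    by_cases hX0 : X.Nonempty
    · obtain ⟨ξ₀, hξ₀⟩ := hX0
      refine ⟨classInner R ξ₀ / (charDegree ξ₀ : ℂ), fun ξ hξ => ?_⟩
      have h := hprop' ξ₀ hξ₀ ξ hξ
      have hne0 : (charDegree ξ₀ : ℂ) ≠ 0 := Nat.cast_ne_zero.2 (hd0 ξ₀ hξ₀)
      rw [hd ξ hξ]
      field_simp
      linear_combination -h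
    · exact ⟨0, fun ξ hξ => absurd ⟨ξ, hξ⟩ hX0⟩
  have hmain : ∀ z ∈ Zm, ∀ z' ∈ Zm, z ≠ 1 → z' ≠ 1 → R z = R z' := by
    intro z hz z' hz' h1 h1'
    rw [← sub_eq_zero, eq_sum_classInner hRc]
    simp only [Finset.sum_apply, Pi.smul_apply, smul_eq_mul]
    rw [← Finset.sum_sub_distrib, Finset.sum_congr rfl
      (g := fun η : IrrCharacter M => c * ((η : M → ℂ) 1 * (η : M → ℂ) z - (η : M → ℂ) 1 * (η : M → ℂ) z'))
      fun η _ => ?_]
    · rw [← Finset.mul_sum, Finset.sum_sub_distrib, sum_degree_mul, sum_degree_mul, if_neg h1, if_neg h1', sub_zero,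
        mul_zero]
    by_cases hη : (η : M → ℂ) ∈ X
    · rw [hc _ hη]; ring
    · have hk : ∀ y ∈ Zm, (η : M → ℂ) y = (η : M → ℂ) 1 := fun y hy => by
        by_contra hne'
        exact hη ⟨η.2, y, hy, hne'⟩
      rw [hk z hz, hk z' hz']; ring
  refine ⟨Z, fun e => hz₀1 ?_, ?_, ?_, hZcent, hW₂Z, ?_⟩
  · have := Subgroup.mem_map_of_mem M.subtype hz₀m
    rw [← hZdef, e, Subgroup.mem_bot] at this
    exact Subtype.ext (Subtype.ext this)
  · rintro _ ⟨x, hx, rfl⟩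
    exact hdG hx
  · intro m hm
    rw [Subgroup.mem_normalizer_iff]
    intro y
    constructor
    · rintro ⟨x, hx, rfl⟩
      exact ⟨⟨m, hm⟩ * x * ⟨m, hm⟩⁻¹, hZn.conj_mem x hx _, rfl⟩
    · rintro ⟨x, hx, e⟩
      refine ⟨⟨m, hm⟩⁻¹ * x * ⟨m, hm⟩⁻¹⁻¹, hZn.conj_mem x hx _, ?_⟩
      have e' : (x : G) = m * y * m⁻¹ := e
      show m⁻¹ * (x : G) * m⁻¹⁻¹ = y
      rw [e']
      group
  · rintro z ⟨x, hx, rfl⟩ z' ⟨x', hx', rfl⟩ h1 h1'
    exact hmain x hx x' hx' (fun e => h1 (by rw [e]; rfl)) (fun e => h1' (by rw [e]; rfl))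

end Cfsg.Lib.OddOrder.NoTypeV
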