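import Cfsg.Agent.Lib.OddOrder.NoTypeV.ConstCentral
import Cfsg.Agent.Lib.OddOrder.NoTypeV.ConstFpf
import Cfsg.Agent.Lib.Char.FT.Congruence
import Cfsg.Agent.Lib.OddOrder.TIMean
import Cfsg.Agent.Lib.OddOrder12.Orbit

/-!
The case of `no type V` in which `M'` is a TI subgroup: `Φ = Σ η_{i0} - ξ` and `|ξ|²` has mean at least
`1 - q / |M'|` over the support of `M'`.

Everything is read off the class function `gOf M ψ z` of `M`: the restriction of `ψ` to `M'`, with the value at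
`1` replaced by the value at an element `z` of a central subgroup on which `ψ` is constant.
-/

set_option autoImplicit false
set_option linter.unusedSectionVars false
set_option linter.style.haveILetI false

namespace Cfsg.Lib.OddOrder.NoTypeV

open Cfsg Cfsg.Lib.Char Cfsg.Lib.Char.FT Cfsg.Lib.Local.Sigma
open scoped commutatorElement ComplexConjugate Classical

universe u

variable {G : Type u} [Group G] [Fintype G] {M W₁ W₂ : Subgroup G}

/-- `ψ` on `M' ∖ 1`, the value at `z` at `1`, zero off `M'`. -/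
noncomputable def gOf (M : Subgroup G) (ψ : G → ℂ) (z : G) : M → ℂ := fun x =>
  if x = 1 then ψ z else if x ∈ derivedIn M then ψ x else 0

theorem gOf_neg (M : Subgroup G) (ψ : G → ℂ) (z : G) : gOf M (-ψ) z = -gOf M ψ z := by
  funext x
  simp only [gOf, Pi.neg_apply]
  split_ifs <;> simp

theorem gOf_off {ψ : G → ℂ} {z : G} {x : M} (hx : x ∉ derivedIn M) : gOf M ψ z x = 0 := by
  rw [gOf, if_neg fun e => hx (by rw [e]; exact one_mem _), if_neg hx]

theorem gOf_classFun {ψ : G → ℂ} (hψ : IsClassFunction G ψ) (z : G) : IsClassFunction M (gOf M ψ z) := by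
  intro a b
  simp only [gOf]
  have e1 : b * a * b⁻¹ = 1 ↔ a = 1 := conj_eq_one_iff
  have e2 : b * a * b⁻¹ ∈ derivedIn M ↔ a ∈ derivedIn M :=
    ⟨fun h => by simpa [mul_assoc] using (normal_derivedIn M).conj_mem _ h b⁻¹,
      fun h => (normal_derivedIn M).conj_mem _ h b⟩
  simp only [e1, e2, Subgroup.coe_mul, Subgroup.coe_inv, hψ (a : G) (b : G)]

variable [Fintype M] [Fintype (Row W₁ W₂)] {μ : Row W₁ W₂ → Col W₁ W₂ → M → ℂ} {δ : Col W₁ W₂ → ℤ}
  {χ : (↥(W₁ ⊔ W₂) →* ℂˣ) → (G → ℂ)} {f : (M → ℂ) → (G → ℂ)} {ζ : M → ℂ}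

section TI

theorem VSide.derived_le (S : VSide M W₁ W₂ μ δ χ) : ⁅M, M⁆ ≤ M := S.side.typeP.W₁_compl.1

theorem VSide.normalizer_derived (S : VSide M W₁ W₂ μ δ χ) :
    Subgroup.normalizer ((⁅M, M⁆ : Subgroup G) : Set G) = M :=
  Cfsg.Lib.Local.Uniq.eq_normalizer S.side.minimal S.side.coatom
    (fun e => S.side.typeP.selfNormalizing.2.1 (eq_bot_iff.2 ((W₂_le_derived S.side.typeP).trans e.le)))
    (fun e => S.side.coatom.1 (top_le_iff.1 (e.ge.trans S.derived_le)))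
    (Subgroup.le_normalizer.trans (Cfsg.Lib.Local.FreeAction.normalizer_le_normalizer_commutator M))

theorem VSide.relIndex_derived (S : VSide M W₁ W₂ μ δ χ) : (⁅M, M⁆).relIndex M = Nat.card W₁ := S.index_eq

theorem VSide.card_derived (S : VSide M W₁ W₂ μ δ χ) : Nat.card (derivedIn M) = Nat.card ↥(⁅M, M⁆) :=
  Nat.card_congr (Subgroup.subgroupOfEquivOfLe S.derived_le).toEquiv

theorem VSide.card_eq (S : VSide M W₁ W₂ μ δ χ) : Nat.card M = Nat.card (derivedIn M) * Nat.card W₁ := by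
  rw [← S.index_eq, Subgroup.card_mul_index]

theorem VSide.coprime_derived (S : VSide M W₁ W₂ μ δ χ) :
    (Nat.card ↥(⁅M, M⁆)).Coprime (Nat.card W₁) := by
  have h := S.side.typeP.W₁_hall
  have e : Nat.card (W₁.subgroupOf M) * W₁.relIndex M = Nat.card M := Subgroup.card_mul_index _
  rw [Nat.card_congr (Subgroup.subgroupOfEquivOfLe S.side.typeP.W₁_compl.2.1).toEquiv, S.card_eq,
    S.card_derived, mul_comm (Nat.card ↥(⁅M, M⁆))] at e
  rw [Nat.eq_of_mul_eq_mul_left Nat.card_pos e] at h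
  exact h.symm

theorem VSide.mem_of_conj (S : VSide M W₁ W₂ μ δ χ) (hTI : Cfsg.IsTISubset ((⁅M, M⁆ : Subgroup G) : Set G)) {g x : G}
    (hx : x ∈ ⁅M, M⁆) (hx1 : x ≠ 1) (h : g * x * g⁻¹ ∈ ⁅M, M⁆) : g ∈ M := by
  by_contra hg
  exact hx1 (hTI g (fun hn => hg (S.normalizer_derived.le hn)) x hx h)

theorem VSide.supportR_bot (S : VSide M W₁ W₂ μ δ χ) (hTI : Cfsg.IsTISubset ((⁅M, M⁆ : Subgroup G) : Set G)) {x : G}
    (hx : x ∈ ⁅M, M⁆) (hx1 : x ≠ 1) : Cfsg.supportR M x = ⊥ :=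
  supportR_of_le fun g hg => S.mem_of_conj hTI hx hx1 (by
    rw [Subgroup.mem_centralizer_singleton_iff.1 hg, mul_inv_cancel_right]; exact hx)

theorem VSide.dadeTI (S : VSide M W₁ W₂ μ δ χ) :
    DadeHypothesis (((⁅M, M⁆ : Subgroup G) : Set G) \ {1}) M (Cfsg.supportR M) := by
  have hD := S.side.dade
  have hsub : ∀ a ∈ (((⁅M, M⁆ : Subgroup G) : Set G) \ {1}), a ∈ Cfsg.typeA0 M := fun a ha =>
    S.mem_A0 (x := ⟨a, S.derived_le ha.1⟩) (mem_derivedIn.2 ha.1) fun e => ha.2 (congrArg Subtype.val e)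
  exact ⟨fun h1 => h1.2 rfl, fun a ha => S.derived_le ha.1,
    fun x hx a ha => ⟨(Subgroup.mem_normalizer_iff.1 (S.normalizer_derived.ge hx) a).1 ha.1,
      fun e => ha.2 (conj_eq_one_iff.1 e)⟩,
    fun a ha g hg => hD.fusion a (hsub a ha) g (hsub _ hg), fun a ha => hD.le_centralizer a (hsub a ha),
    fun a ha => hD.conj_mem_H a (hsub a ha), fun a ha => hD.inf_eq_bot a (hsub a ha),
    fun a ha => hD.sup_eq a (hsub a ha), fun a ha b hb => hD.coprime a (hsub a ha) b (hsub b hb)⟩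

/-- On functions supported on `M' ∖ 1` the inner product against `ψ` only sees `gOf`. -/
theorem tau_inner_gOf (S : VSide M W₁ W₂ μ δ χ) (hTI : Cfsg.IsTISubset ((⁅M, M⁆ : Subgroup G) : Set G)) {α : M → ℂ}
    (hα : IsClassFunction M α) (hoff : ∀ x, x ∉ derivedIn M → α x = 0) (h1 : α 1 = 0) {ψ : G → ℂ}
    (hψ : IsClassFunction G ψ) (z : G) : classInner (tau M α) ψ = classInner α (gOf M ψ z) := by
  rw [classInner_dade_proj S.side.dade hα (S.supp hoff h1) hψ, classInner, classInner]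
  congr 1
  refine Finset.sum_congr rfl fun x _ => ?_
  by_cases hx : x ∈ derivedIn M
  · by_cases hx1 : x = 1
    · simp [hx1, h1]
    · rw [gOf, if_neg hx1, if_pos hx,
        dadeProj_of_bot _ (S.mem_A0 hx hx1) (S.supportR_bot hTI hx fun e => hx1 (Subtype.ext e))]
  · simp [hoff x hx]

/-- The mean of `|ψ|²` over the support of `M'` bounds the sum over `M' ∖ 1`. -/
theorem sum_sq_le_muOn (S : VSide M W₁ W₂ μ δ χ) (hTI : Cfsg.IsTISubset ((⁅M, M⁆ : Subgroup G) : Set G)) {ψ : G → ℂ}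
    (hψ : IsClassFunction G ψ) :
    (Nat.card M : ℝ)⁻¹ * ∑ x : M, (if x ∈ derivedIn M ∧ x ≠ 1 then ‖ψ x‖ ^ 2 else 0) ≤
        muOn (Cfsg.tildeOf M (((⁅M, M⁆ : Subgroup G) : Set G) \ {1})) (fun g => ‖ψ g‖ ^ 2) ∧
      muOn (Cfsg.tildeOf M (((⁅M, M⁆ : Subgroup G) : Set G) \ {1})) (fun g => ‖ψ g‖ ^ 2) ≤ (classInner ψ ψ).re := by
  constructor
  · refine le_trans (le_of_eq ?_) ((dadeProj_norm_le S.dadeTI hψ).trans (le_of_eq ?_))
    · rw [classInner_self, Complex.ofReal_re]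
      refine congrArg _ (Finset.sum_congr rfl fun x _ => ?_)
      by_cases hx : x ∈ derivedIn M ∧ x ≠ 1
      · have hA : (x : G) ∈ (((⁅M, M⁆ : Subgroup G) : Set G) \ {1}) := ⟨hx.1, fun e => hx.2 (Subtype.ext e)⟩
        rw [if_pos hx, dadeProj_of_bot _ hA (S.supportR_bot hTI hA.1 hA.2)]
      · rw [if_neg hx, dadeProj_of_notMem _ fun h => hx ⟨h.1, fun e => h.2 (by rw [e]; rfl)⟩]
        simp
    · rw [← hitSet_eq_tildeOf, muOn, finsum_mem_eq_toFinset_sum, ← Finset.sum_filter]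
      refine congrArg _ (Finset.sum_congr ?_ fun _ _ => rfl)
      ext g
      simp [hitSet]
  · rw [classInner_self, Complex.ofReal_re, muOn]
    refine mul_le_mul_of_nonneg_left (Finset.sum_le_sum fun g _ => ?_) (by positivity)
    split_ifs
    · exact le_rfl
    · positivity

theorem gOf_sum (ψ : G → ℂ) (z : G) :
    ∑ x : M, ‖gOf M ψ z x‖ ^ 2 =
      ‖ψ z‖ ^ 2 + ∑ x : M, (if x ∈ derivedIn M ∧ x ≠ 1 then ‖ψ x‖ ^ 2 else 0) := by
  have hsplit : ∀ x : M, ‖gOf M ψ z x‖ ^ 2 = (if x = 1 then ‖ψ z‖ ^ 2 else 0) +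
      (if x ∈ derivedIn M ∧ x ≠ 1 then ‖ψ x‖ ^ 2 else 0) := fun x => by
    by_cases hx1 : x = 1
    · simp [gOf, hx1]
    · by_cases hx : x ∈ derivedIn M <;> simp [gOf, hx1, hx]
  rw [Finset.sum_congr rfl fun x _ => hsplit x, Finset.sum_add_distrib, Finset.sum_ite_eq',
    if_pos (Finset.mem_univ _)]

/-- The norm of `gOf` is at most `|Z| / (|Z| - 1)`. -/
theorem gOf_norm_le (S : VSide M W₁ W₂ μ δ χ) (hTI : Cfsg.IsTISubset ((⁅M, M⁆ : Subgroup G) : Set G)) {ψ : G → ℂ}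
    (hψ : IsClassFunction G ψ) (hn : classInner ψ ψ = 1) {Z : Subgroup G} (hZ : Z ≤ ⁅M, M⁆) {z : G}
    (hz : z ∈ Z) (hz1 : z ≠ 1) (hconst : ∀ a ∈ Z, ∀ b ∈ Z, a ≠ 1 → b ≠ 1 → ψ a = ψ b) :
    (classInner (gOf M ψ z) (gOf M ψ z)).re * ((Nat.card Z : ℝ) - 1) ≤ Nat.card Z := by
  obtain ⟨h1, h2⟩ := sum_sq_le_muOn S hTI hψ
  rw [hn, Complex.one_re] at h2
  set T := ∑ x : M, (if x ∈ derivedIn M ∧ x ≠ 1 then ‖ψ x‖ ^ 2 else 0) with hT
  have hMpos : (0 : ℝ) < Nat.card M := Nat.cast_pos.2 Nat.card_pos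
  have hT' : T ≤ (Nat.card M : ℝ) := by
    have := mul_le_mul_of_nonneg_left (h1.trans h2) hMpos.le
    rwa [← mul_assoc, mul_inv_cancel₀ hMpos.ne', one_mul, mul_one] at this
  have hsum := gOf_sum (M := M) ψ z
  rw [← hT] at hsum
  have hcardZ : (Finset.univ.filter fun x : M => (x : G) ∈ Z).card = Nat.card Z := by
    rw [← Nat.card_congr (Subgroup.subgroupOfEquivOfLe (hZ.trans S.derived_le)).toEquiv, Nat.card_eq_fintype_card,
      ← Fintype.card_subtype]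
    exact Fintype.card_congr (Equiv.subtypeEquivRight fun x => Subgroup.mem_subgroupOf.symm)
  have hlow : (Nat.card Z : ℝ) * ‖ψ z‖ ^ 2 ≤ ∑ x : M, ‖gOf M ψ z x‖ ^ 2 := by
    refine le_trans (le_of_eq ?_) (Finset.sum_le_sum_of_subset_of_nonneg
      (Finset.subset_univ (Finset.univ.filter fun x : M => (x : G) ∈ Z)) fun x _ _ => by positivity)
    rw [Finset.sum_congr rfl (g := fun _ => ‖ψ z‖ ^ 2) fun x hx => ?_, Finset.sum_const, hcardZ, nsmul_eq_mul]
    have hxZ := (Finset.mem_filter.1 hx).2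
    by_cases hx1 : x = 1
    · simp [gOf, hx1]
    · rw [gOf, if_neg hx1, if_pos (mem_derivedIn.2 (hZ hxZ)),
        hconst _ hxZ z hz (fun e => hx1 (Subtype.ext e)) hz1]
  rw [classInner_self, Complex.ofReal_re]
  rw [hsum] at hlow ⊢
  have hZ1 : (1 : ℝ) ≤ Nat.card Z := by exact_mod_cast Nat.card_pos
  rw [inv_mul_eq_div, div_mul_eq_mul_div, div_le_iff₀ hMpos]
  nlinarith [mul_le_mul_of_nonneg_left hT' (sub_nonneg.2 hZ1), norm_nonneg (ψ z)]

end TI

section Coefficients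

/-- The congruence `ψ 1 ≡ ψ z` modulo `|M'|`. -/
theorem exists_congr (S : VSide M W₁ W₂ μ δ χ) (hTI : Cfsg.IsTISubset ((⁅M, M⁆ : Subgroup G) : Set G))
    (hf : IsLinFamily (M := M) f) (hζ : ζ ∈ linFin M) {Z : Subgroup G} (hZ : Z ≤ ⁅M, M⁆)
    (hZn : M ≤ Subgroup.normalizer (Z : Set G)) (hZc : ∀ a ∈ Z, ∀ y ∈ ⁅M, M⁆, a * y = y * a)
    (hconst : ∀ a ∈ Z, ∀ b ∈ Z, a ≠ 1 → b ≠ 1 → f ζ a = f ζ b) {z : G} (hz : z ∈ Z) (hz1 : z ≠ 1) :
    ∃ n d : ℤ, f ζ z = n ∧ f ζ 1 = d ∧ (Nat.card (derivedIn M) : ℤ) ∣ d - n := by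
  have hne : Z ≠ ⊥ := fun e => hz1 (Subgroup.mem_bot.1 (e.le hz))
  have key : ∀ ψ : G → ℂ, IsIrrCharacter G ψ → (∀ a ∈ Z, ∀ b ∈ Z, a ≠ 1 → b ≠ 1 → ψ a = ψ b) →
      ∃ n d : ℤ, ψ z = n ∧ ψ 1 = d ∧ (Nat.card (derivedIn M) : ℤ) ∣ d - n := fun ψ hψ hc => by
    rw [S.card_derived]
    exact degree_congr _ hTI (Cfsg.Lib.Local.Uniq.odd_subgroup S.side.minimal _)
      (by rw [S.normalizer_derived, S.relIndex_derived]; exact S.coprime_derived) Z hne hZ
      (fun x hx a ha => (Subgroup.mem_normalizer_iff.1 (hZn (S.normalizer_derived.le hx)) a).1 ha) hZc hψ hc hz hz1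
  rcases hf.irr ζ hζ with h | h
  · exact key _ h hconst
  · obtain ⟨n, d, hn, hd, hdvd⟩ := key _ h fun a ha b hb ha1 hb1 => by simp [hconst a ha b hb ha1 hb1]
    refine ⟨-n, -d, ?_, ?_, ?_⟩
    · simp only [Pi.neg_apply] at hn
      push_cast
      rw [← hn, neg_neg]
    · simp only [Pi.neg_apply] at hd
      push_cast
      rw [← hd, neg_neg]
    · rw [show -d - -n = -(d - n) by ring]
      exact hdvd.neg_right

/-- An induced irreducible character has integral inner product with `gOf`. -/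
theorem inner_int [Fintype (derivedIn M)] {ψ : G → ℂ} (hgen : IsGeneralizedCharacter G ψ) {z : G} {n d : ℤ}
    (hn : ψ z = n) (hd : ψ 1 = d) (hdvd : (Nat.card (derivedIn M) : ℤ) ∣ d - n) {θ : derivedIn M → ℂ}
    (hθ : IsIrrCharacter (derivedIn M) θ) :
    ∃ e : ℤ, classInner (indFun (derivedIn M) θ) (gOf M ψ z) = e := by
  obtain ⟨m, hm⟩ := hdvd
  rw [classInner_indFun _ _ (gOf_classFun hgen.isClassFunction z)]
  set r : derivedIn M → ℂ := fun k => ψ ((k : M) : G)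
  have hr : IsGeneralizedCharacter (derivedIn M) r := by
    obtain ⟨a, b, ha, hb, rfl⟩ := hgen
    exact ⟨_, _, ha.comp (M.subtype.comp (derivedIn M).subtype), hb.comp (M.subtype.comp (derivedIn M).subtype), rfl⟩
  obtain ⟨e₀, he₀⟩ := hθ.isCharacter.isGeneralized.exists_int_classInner hr
  obtain ⟨t, -, ht⟩ := hθ.exists_degree
  refine ⟨e₀ - m * t, ?_⟩
  have hgr : (fun k : derivedIn M => gOf M ψ z k) =
      r - (fun k => if k = 1 then ((Nat.card (derivedIn M) : ℂ) * m) else 0) := by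
    funext k
    by_cases hk : k = 1
    · subst hk
      have hm' : ((d - n : ℤ) : ℂ) = (Nat.card (derivedIn M) : ℂ) * m := by rw [hm]; push_cast; ring
      simp only [Pi.sub_apply, if_pos, r, gOf, OneMemClass.coe_one, hn, hd, ← hm']
      push_cast
      ring
    · have hk' : (k : M) ≠ 1 := fun e => hk (Subtype.ext e)
      simp [gOf, hk', hk, r]
  rw [hgr, classInner_sub_right, he₀, classInner, Finset.sum_eq_single (1 : derivedIn M)
    (fun k _ hk => by rw [if_neg hk, map_zero, mul_zero]) (fun h => absurd (Finset.mem_univ _) h), if_pos rfl, ht,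
    map_mul, Complex.conj_natCast, map_intCast, mul_left_comm (t : ℂ), inv_mul_cancel_left₀ card_cast_ne_zero]
  push_cast
  ring

/-- The coefficient at a member, relative to that at `ψ₀`. -/
theorem lin_coef (S : VSide M W₁ W₂ μ δ χ) (hTI : Cfsg.IsTISubset ((⁅M, M⁆ : Subgroup G) : Set G))
    (hf : IsLinFamily (M := M) f) (hζ : ζ ∈ linFin M) (z : G) {c : ℤ}
    (hc : ∀ b ∈ linFin M, classInner (phi M ζ) (f b) = (c : ℂ) - if b = ζ then 1 else 0)
    {b : M → ℂ} (hb : b ∈ linFin M) :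
    classInner b (gOf M (f ζ) z) - classInner (psi0 M) (gOf M (f ζ) z) = (if b = ζ then 1 else 0) - (c : ℂ) := by
  have h := tau_inner_gOf S hTI (phi_src_classFun S hb)
    (fun x hx => by rw [Pi.sub_apply, psi0, indFun_derived_off _ hx, lin_off hb hx, sub_zero])
    (by simp [psi0_apply S (one_mem _), lin_degree S hb]) (hf.classFun hζ) z
  rw [← phi, phi_inner S hf hζ hc hb hζ, classInner_sub_left] at h
  simp only [eq_comm (a := ζ)] at h
  linear_combination h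

/-- The irreducible characters of `M`: the grid, and characters induced from `M'`. -/
theorem irr_cases (S : VSide M W₁ W₂ μ δ χ) [Fintype (derivedIn M)] {φ : M → ℂ} (hφ : IsIrrCharacter M φ) :
    (∃ i j, φ = μ i j) ∨ ∃ θ, IsIrrCharacter (derivedIn M) θ ∧ φ = indFun (derivedIn M) θ := by
  haveI := Fintype.ofFinite (IrrCharacter (derivedIn M))
  have hr := (hφ.isCharacter.comp (derivedIn M).subtype).isClassFunction
  obtain ⟨θ, hθ⟩ : ∃ θ : IrrCharacter (derivedIn M), classInner (fun k => φ ((derivedIn M).subtype k)) θ.1 ≠ 0 := by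
    by_contra hall
    push Not at hall
    have h := congrFun (eq_sum_classInner hr) 1
    simp only [Finset.sum_apply, Pi.smul_apply, map_one] at h
    rw [Finset.sum_eq_zero fun θ _ => by
      rw [show classInner (fun k => φ ((derivedIn M).subtype k)) (θ : derivedIn M → ℂ) = 0 from hall θ, zero_smul]]
      at h
    exact hφ.apply_one_ne_zero h
  have hne : classInner (indFun (derivedIn M) θ.1) φ ≠ 0 := by
    rw [classInner_indFun _ _ hφ.isClassFunction, ← classInner_conj_symm, map_ne_zero]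
    exact hθ
  rcases S.side.grid.theta_cases _ θ.2 with ⟨j, hj⟩ | hirr
  · rw [hj, S.side.grid.theta_ind, classInner_sum_left] at hne
    obtain ⟨i, -, hi⟩ := Finset.exists_ne_zero_of_sum_ne_zero hne
    exact Or.inl ⟨i, j, by_contra fun e => hi (classInner_irr_ne (S.side.grid.irr i j) hφ (Ne.symm e))⟩
  · exact Or.inr ⟨θ.1, θ.2, by_contra fun e => hne (classInner_irr_ne hirr hφ (Ne.symm e))⟩

theorem mu_inner_eq (S : VSide M W₁ W₂ μ δ χ) (i : Row W₁ W₂) (j : Col W₁ W₂) (ψ : G → ℂ) (z : G) :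
    classInner (μ i j) (gOf M ψ z) = classInner (μ (row0 W₁ W₂) j) (gOf M ψ z) := by
  rw [classInner, classInner]
  congr 1
  refine Finset.sum_congr rfl fun x _ => ?_
  by_cases hx : x ∈ derivedIn M
  · rw [S.side.grid.eq_on i (row0 W₁ W₂) j x hx]
  · simp [gOf_off hx]

theorem colsum_inner (S : VSide M W₁ W₂ μ δ χ) (j : Col W₁ W₂) (ψ : G → ℂ) (z : G) :
    classInner (∑ i, μ i j) (gOf M ψ z) =
      (Nat.card W₁ : ℂ) * classInner (μ (row0 W₁ W₂) j) (gOf M ψ z) := by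
  rw [classInner_sum_left, Finset.sum_congr rfl fun i _ => mu_inner_eq S i j ψ z, Finset.sum_const,
    Finset.card_univ, ← Nat.card_eq_fintype_card, card_row S.side.typeP.selfNormalizing, nsmul_eq_mul]

/-- Bessel for the members, the grid and further irreducible characters. -/
theorem bessel (S : VSide M W₁ W₂ μ δ χ) [Fintype (Col W₁ W₂)] (v : M → ℂ) (t : Finset (M → ℂ))
    (ht : ∀ φ ∈ t, IsIrrCharacter M φ ∧ φ ∉ linFin M ∧ ∀ i j, φ ≠ μ i j) :
    ∑ b ∈ linFin M, ‖classInner b v‖ ^ 2 + ∑ i, ∑ j, ‖classInner (μ i j) v‖ ^ 2 +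
      ∑ φ ∈ t, ‖classInner φ v‖ ^ 2 ≤ (classInner v v).re := by
  set g : Finset (M → ℂ) := Finset.univ.image fun p : Row W₁ W₂ × Col W₁ W₂ => μ p.1 p.2 with hg
  have hd1 : Disjoint (linFin M) g := Finset.disjoint_left.2 fun b hb hb' => by
    obtain ⟨p, -, rfl⟩ := Finset.mem_image.1 hb'
    exact lin_ne_mu S hb p.1 p.2 rfl
  have hd2 : Disjoint (linFin M ∪ g) t := Finset.disjoint_left.2 fun b hb hb' => by
    rcases Finset.mem_union.1 hb with h | h
    · exact (ht b hb').2.1 h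
    · obtain ⟨p, -, rfl⟩ := Finset.mem_image.1 h
      exact (ht _ hb').2.2 p.1 p.2 rfl
  have hirr : ∀ b ∈ linFin M ∪ g ∪ t, IsIrrCharacter M b := fun b hb => by
    simp only [Finset.mem_union] at hb
    rcases hb with (h | h) | h
    · exact lin_irr S h
    · obtain ⟨p, -, rfl⟩ := Finset.mem_image.1 h
      exact S.side.grid.irr _ _
    · exact (ht b h).1
  have h := sum_norm_sq_le (linFin M ∪ g ∪ t) (fun φ : M → ℂ => φ)
    (fun a ha b hb => classInner_irr (hirr a ha) (hirr b hb)) v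
  rw [Finset.sum_congr rfl fun b _ => by rw [← classInner_conj_symm, RCLike.norm_conj], Finset.sum_union hd2,
    Finset.sum_union hd1, hg, Finset.sum_image fun p _ p' _ e => Prod.ext (S.side.grid.inj _ _ _ _ e).1
      (S.side.grid.inj _ _ _ _ e).2, Fintype.sum_prod_type] at h
  exact h

end Coefficients

section Central

/-- On a subgroup central in `M` the character `μ_{0j}` is its degree times `ω_{0j}`. -/
theorem mu_apply_W₂ (S : VSide M W₁ W₂ μ δ χ) (hcent : ∀ a ∈ W₂, ∀ x ∈ M, a * x = x * a) (j : Col W₁ W₂)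
    {x : M} (hx : (x : G) ∈ W₂) :
    μ (row0 W₁ W₂) j x = μ (row0 W₁ W₂) j 1 * (j.1 ⟨x, Subgroup.mem_sup_right hx⟩ : ℂ) := by
  obtain ⟨w, hw, hw1⟩ := W₁.bot_or_exists_ne_one.resolve_left S.side.typeP.W₁_ne
  have hw2 : w ∉ W₂ := fun h =>
    hw1 (Subgroup.mem_bot.1 (S.side.typeP.selfNormalizing.2.2.1.le ⟨hw, h⟩))
  set wM : M := ⟨w, S.side.typeP.W₁_compl.2.1 hw⟩
  have hirr := S.side.grid.irr (row0 W₁ W₂) j
  have hxw : ∀ y : M, y * x * y⁻¹ = x := fun y => Subtype.ext (by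
    rw [Subgroup.coe_mul, Subgroup.coe_mul, Subgroup.coe_inv, ← hcent x hx y y.2, mul_inv_cancel_right])
  have h := sum_char_mul_conj hirr wM x
  rw [Finset.sum_congr rfl fun y _ => by rw [hxw y], Finset.sum_const, Finset.card_univ, nsmul_eq_mul,
    ← Nat.card_eq_fintype_card, eq_div_iff hirr.apply_one_ne_zero] at h
  have e1 := S.side.grid.apply_off (row0 W₁ W₂) j (wM * x)
    (mul_mem (Subgroup.mem_sup_left hw) (Subgroup.mem_sup_right hx)) fun h' =>
      hw2 (by simpa [wM, mul_assoc] using mul_mem h' (inv_mem hx))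
  have e2 := S.side.grid.apply_off (row0 W₁ W₂) j wM (Subgroup.mem_sup_left hw) hw2
  have e3 : (j.1 ⟨((wM * x : M) : G), mul_mem (Subgroup.mem_sup_left hw) (Subgroup.mem_sup_right hx)⟩ : ℂ) =
      (j.1 ⟨x, Subgroup.mem_sup_right hx⟩ : ℂ) := by
    rw [show (⟨((wM * x : M) : G), mul_mem (Subgroup.mem_sup_left hw) (Subgroup.mem_sup_right hx)⟩ : ↥(W₁ ⊔ W₂)) =
      ⟨w, Subgroup.mem_sup_left hw⟩ * ⟨x, Subgroup.mem_sup_right hx⟩ from rfl, map_mul, Units.val_mul,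
      j.2 ⟨w, Subgroup.mem_sup_left hw⟩ hw, Units.val_one, one_mul]
  have e4 : (j.1 ⟨(wM : G), Subgroup.mem_sup_left hw⟩ : ℂ) = 1 := by
    rw [j.2 ⟨(wM : G), Subgroup.mem_sup_left hw⟩ hw, Units.val_one]
  rw [e1, e2] at h
  simp only [row0, MonoidHom.one_apply, Units.val_one, one_mul, e3, e4, mul_one] at h ⊢
  have hδ : (δ j : ℂ) ≠ 0 := by rcases S.side.grid.sign j with e | e <;> simp [e]
  refine mul_left_cancel₀ (mul_ne_zero (card_cast_ne_zero (G := M)) hδ) ?_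
  simp only [row0] at hirr
  linear_combination -h

theorem col_restrict_inj {j j' : Col W₁ W₂}
    (h : j.1.comp (Subgroup.inclusion le_sup_right) = j'.1.comp (Subgroup.inclusion le_sup_right)) : j = j' :=
  Subtype.ext (cti_hom_ext (fun w hw => by rw [j.2 w hw, j'.2 w hw]) fun w hw => DFunLike.congr_fun h ⟨w, hw⟩)

/-- `W₂` central: the linear independence of the `ω_{0j}` on `W₂`. -/
theorem col_coef_zero [Fintype (Col W₁ W₂)] (a : Col W₁ W₂ → ℂ) {C : ℂ}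
    (h : ∀ w : W₂, ∑ j, a j * (j.1 ⟨w, Subgroup.mem_sup_right w.2⟩ : ℂ) = C) {j₀ : Col W₁ W₂}
    (hj₀ : j₀ ≠ col0 W₁ W₂) : a j₀ = 0 := by
  haveI := Fintype.ofFinite W₂
  set r : Col W₁ W₂ → (W₂ →* ℂˣ) := fun j => j.1.comp (Subgroup.inclusion le_sup_right)
  have hr : ∀ (j : Col W₁ W₂) (w : W₂), (j.1 ⟨w, Subgroup.mem_sup_right w.2⟩ : ℂ) = (r j w : ℂ) := fun j w => rfl
  simp only [hr] at h
  have h0 : ∑ w : W₂, C * ((r j₀)⁻¹ w : ℂ) = 0 := by
    rw [← Finset.mul_sum, sum_hom_eq_zero fun e => hj₀ (col_restrict_inj ?_), mul_zero]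
    show r j₀ = r (col0 W₁ W₂)
    refine MonoidHom.ext fun w => ?_
    have := DFunLike.congr_fun e w
    rw [MonoidHom.inv_apply, MonoidHom.one_apply, inv_eq_one] at this
    rw [this]
    rfl
  rw [Finset.sum_congr rfl (fun w _ => by rw [← h w, Finset.sum_mul]), Finset.sum_comm,
    Finset.sum_eq_single_of_mem j₀ (Finset.mem_univ _) fun j _ hj => ?_] at h0
  · simp only [MonoidHom.inv_apply, mul_assoc, Units.mul_inv, mul_one,
      Finset.sum_const, Finset.card_univ, nsmul_eq_mul] at h0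
    exact (mul_eq_zero.1 h0).resolve_left (Nat.cast_ne_zero.2 Fintype.card_ne_zero)
  · have e : ∀ w : W₂, a j * (r j w : ℂ) * ((r j₀)⁻¹ w : ℂ) = a j * ((r j * (r j₀)⁻¹) w : ℂ) := fun w => by
      rw [MonoidHom.mul_apply, Units.val_mul, mul_assoc]
    rw [Finset.sum_congr rfl fun w _ => e w, ← Finset.mul_sum,
      sum_hom_eq_zero fun e => hj (col_restrict_inj (mul_inv_eq_one.1 e)), mul_zero]

end Central

section Core

/-- What is known once the coefficients at the members are the indicator of `ξ`. -/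
theorem expansion (S : VSide M W₁ W₂ μ δ χ) [Fintype (Col W₁ W₂)] (hf : IsLinFamily (M := M) f)
    (hζ : ζ ∈ linFin M) {z : G}
    (hlin : ∀ b ∈ linFin M, classInner b (gOf M (f ζ) z) = if b = ζ then 1 else 0)
    (hother : ∀ φ, IsIrrCharacter M φ → φ ∉ linFin M → (∀ i j, φ ≠ μ i j) → classInner φ (gOf M (f ζ) z) = 0)
    {E : Col W₁ W₂ → ℤ} (hE : ∀ j, classInner (∑ i, μ i j) (gOf M (f ζ) z) = E j) :
    gOf M (f ζ) z = ζ + ∑ j, ((E j : ℂ) / Nat.card W₁) • ∑ i, μ i j := by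
  refine ext_classInner (gOf_classFun (hf.classFun hζ) z) (fun a b => ?_) fun φ hφ => ?_
  · simp only [Pi.add_apply, Finset.sum_apply, Pi.smul_apply, (lin_irr S hζ).isClassFunction a b,
      fun i j => (S.side.grid.irr i j).isClassFunction a b]
  rw [← classInner_conj_symm φ, classInner_add_left, classInner_sum_left]
  simp only [classInner_smul_left, classInner_sum_left]
  by_cases hl : φ ∈ linFin M
  · rw [hlin φ hl, classInner_irr (lin_irr S hζ) hφ]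
    simp only [fun i j => classInner_irr_ne (S.side.grid.irr i j) hφ (lin_ne_mu S hl i j).symm, Finset.sum_const_zero,
      mul_zero, add_zero, eq_comm (a := φ)]
    split_ifs <;> simp
  · by_cases hm : ∃ i j, φ = μ i j
    · obtain ⟨i, j, rfl⟩ := hm
      have hq : (Nat.card W₁ : ℂ) ≠ 0 := Nat.cast_ne_zero.2 Nat.card_pos.ne'
      have h1 := hE j
      rw [colsum_inner S j, ← mu_inner_eq S i j] at h1
      rw [classInner_irr_ne (lin_irr S hζ) hφ fun e => hl (e ▸ hζ), zero_add,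
        Finset.sum_eq_single_of_mem j (Finset.mem_univ _) fun k _ hk => ?_,
        Finset.sum_eq_single_of_mem i (Finset.mem_univ _) fun k _ hk => ?_, classInner_irr_self hφ, mul_one,
        eq_div_iff hq, ← Complex.conj_natCast (n := Nat.card W₁), ← map_mul, mul_comm, h1, map_intCast]
      · exact classInner_irr_ne (S.side.grid.irr _ _) hφ fun e => hk (S.side.grid.inj _ _ _ _ e).1
      · rw [Finset.sum_eq_zero fun l _ => classInner_irr_ne (S.side.grid.irr _ _) hφ fun e =>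
          hk (S.side.grid.inj _ _ _ _ e).2, mul_zero]
    · push Not at hm
      rw [hother φ hφ hl hm, map_zero, classInner_irr_ne (lin_irr S hζ) hφ fun e => hl (e ▸ hζ), zero_add,
        Finset.sum_eq_zero fun j _ => ?_]
      rw [Finset.sum_eq_zero fun i _ => classInner_irr_ne (S.side.grid.irr i j) hφ (hm i j).symm, mul_zero]

/-- The two cases for the subgroup `Z`. -/
def ZCase (M W₁ W₂ Z : Subgroup G) : Prop :=
  2 * Nat.card W₁ + 1 ≤ Nat.card Z ∨ (Z = W₂ ∧ ∀ a ∈ W₂, ∀ x ∈ M, a * x = x * a)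

/-- The conclusion for a member whose coefficients at the members are the indicator of itself. -/
theorem ti_core (S : VSide M W₁ W₂ μ δ χ) [Fintype (Col W₁ W₂)]
    (hTI : Cfsg.IsTISubset ((⁅M, M⁆ : Subgroup G) : Set G)) (hf : IsLinFamily (M := M) f) (hζ : ζ ∈ linFin M)
    {Z : Subgroup G} (hZ : Z ≤ ⁅M, M⁆) (hZn : M ≤ Subgroup.normalizer (Z : Set G))
    (hZc : ∀ a ∈ Z, ∀ y ∈ ⁅M, M⁆, a * y = y * a) (hcase : ZCase M W₁ W₂ Z) {z : G} (hz : z ∈ Z) (hz1 : z ≠ 1)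
    (hconst : ∀ a ∈ Z, ∀ b ∈ Z, a ≠ 1 → b ≠ 1 → f ζ a = f ζ b)
    (hlin : ∀ b ∈ linFin M, classInner b (gOf M (f ζ) z) = if b = ζ then 1 else 0) :
    phi M ζ = colSum χ (col0 W₁ W₂) - f ζ ∧
      1 - (Nat.card W₁ : ℝ) / Nat.card (derivedIn M) ≤
        muOn (Cfsg.tildeOf M (((⁅M, M⁆ : Subgroup G) : Set G) \ {1})) (fun g => ‖f ζ g‖ ^ 2) := by
  haveI := Fintype.ofFinite (derivedIn M)
  obtain ⟨n, d, hn, hd, hdvd⟩ := exists_congr S hTI hf hζ hZ hZn hZc hconst hz hz1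
  set g := gOf M (f ζ) z with hg
  have hint := fun (θ : derivedIn M → ℂ) (hθ : IsIrrCharacter (derivedIn M) θ) =>
    inner_int (hf.gen hζ) hn hd hdvd hθ
  choose E hE using fun j => (S.side.grid.theta_ind j) ▸ hint _ (S.side.grid.theta_irr j)
  set K := (classInner g g).re with hK
  have hnorm : classInner (f ζ) (f ζ) = 1 := by rw [hf.orth ζ hζ ζ hζ, if_pos rfl]
  have hKZ := gOf_norm_le S hTI (hf.classFun hζ) hnorm hZ hz hz1 hconst
  rw [← hg, ← hK] at hKZ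
  have hqpos : (0 : ℝ) < Nat.card W₁ := Nat.cast_pos.2 Nat.card_pos
  have hq0 : (Nat.card W₁ : ℂ) ≠ 0 := Nat.cast_ne_zero.2 Nat.card_pos.ne'
  have hbud : ∀ t : Finset (M → ℂ), (∀ φ ∈ t, IsIrrCharacter M φ ∧ φ ∉ linFin M ∧ ∀ i j, φ ≠ μ i j) →
      1 + (∑ j, (E j : ℝ) ^ 2) / Nat.card W₁ + ∑ φ ∈ t, ‖classInner φ g‖ ^ 2 ≤ K := by
    intro t ht
    refine le_trans (le_of_eq ?_) (bessel S g t ht)
    congr 2
    · rw [Finset.sum_congr rfl fun b hb => by rw [hlin b hb], Finset.sum_eq_single_of_mem ζ hζ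
        (fun b _ hb => by rw [if_neg hb]; simp), if_pos rfl]
      simp
    · have e : ∀ i j, ‖classInner (μ i j) g‖ ^ 2 = ((E j : ℝ) / Nat.card W₁) ^ 2 := fun i j => by
        have h1 := hE j
        rw [colsum_inner S j, ← mu_inner_eq S i j] at h1
        rw [hg, eq_div_of_mul_eq hq0 ((mul_comm _ _).trans h1),
          show ((E j : ℂ) / (Nat.card W₁ : ℂ)) = (((E j : ℝ) / Nat.card W₁ : ℝ) : ℂ) by push_cast; ring,
          Complex.norm_real, Real.norm_eq_abs, sq_abs]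
      simp only [e, Finset.sum_const, Finset.card_univ, ← Nat.card_eq_fintype_card,
        card_row S.side.typeP.selfNormalizing, nsmul_eq_mul, div_pow, ← Finset.sum_div]
      field_simp
  have hZ3 : (3 : ℝ) ≤ Nat.card Z := by
    exact_mod_cast three_le_card_of_odd S.side.odd fun e => hz1 (Subgroup.mem_bot.1 (e.le hz))
  have hK32 : K ≤ 3 / 2 := by nlinarith
  have hsq : 0 ≤ (∑ j, (E j : ℝ) ^ 2) / Nat.card W₁ :=
    div_nonneg (Finset.sum_nonneg fun j _ => sq_nonneg _) (Nat.cast_nonneg _)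
  have hone : ∀ e : ℤ, e ≠ 0 → (1 : ℝ) ≤ (e : ℝ) ^ 2 := fun e he => by
    exact_mod_cast (show (1 : ℤ) ≤ e ^ 2 by nlinarith [Int.one_le_abs he, sq_abs e, abs_nonneg e])
  have hother : ∀ φ, IsIrrCharacter M φ → φ ∉ linFin M → (∀ i j, φ ≠ μ i j) → classInner φ g = 0 := by
    intro φ hφ hl hm
    rcases irr_cases S hφ with ⟨i, j, e⟩ | ⟨θ, hθ, e⟩
    · exact absurd e (hm i j)
    obtain ⟨e', he'⟩ := hint θ hθ
    rw [← e, ← hg] at he'
    have h := hbud {φ} fun ψ hψ => by rw [Finset.mem_singleton] at hψ; subst hψ; exact ⟨hφ, hl, hm⟩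
    rw [Finset.sum_singleton, he', Complex.norm_intCast, sq_abs] at h
    rw [he', Int.cast_eq_zero]
    by_contra hne
    linarith [hone e' hne]
  have hexp := expansion S hf hζ hlin hother hE
  have hEj : ∀ j, j ≠ col0 W₁ W₂ → E j = 0 := by
    intro j₀ hj₀
    rcases hcase with hbig | ⟨hZW, hcent⟩
    · have h := hbud ∅ (by simp)
      rw [Finset.sum_empty, add_zero] at h
      have hZq : 2 * (Nat.card W₁ : ℝ) + 1 ≤ Nat.card Z := by exact_mod_cast hbig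
      have hKq : (K - 1) * (2 * Nat.card W₁) ≤ 1 := by nlinarith
      have hle : (∑ j, (E j : ℝ) ^ 2) / Nat.card W₁ ≤ K - 1 := by linarith
      rw [div_le_iff₀ hqpos] at hle
      have hlow := Finset.single_le_sum (f := fun j => (E j : ℝ) ^ 2) (fun j _ => sq_nonneg _) (Finset.mem_univ j₀)
      by_contra hne
      nlinarith [hone _ hne]
    · have hval : ∀ w : W₂, ∑ j, ((E j : ℂ) * μ (row0 W₁ W₂) j 1) * (j.1 ⟨w, Subgroup.mem_sup_right w.2⟩ : ℂ) =
          (n : ℂ) - Nat.card W₁ := by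
        intro w
        have hwZ : (w : G) ∈ Z := by rw [hZW]; exact w.2
        have hwd : (w : G) ∈ ⁅M, M⁆ := hZ hwZ
        set x : M := ⟨w, S.derived_le hwd⟩
        have hgx : g x = n := by
          by_cases hx1 : x = 1
          · rw [hg, gOf, if_pos hx1, hn]
          · rw [hg, gOf, if_neg hx1, if_pos (mem_derivedIn.2 hwd),
              hconst _ hwZ z hz (fun e => hx1 (Subtype.ext e)) hz1, hn]
        have hζx : ζ x = Nat.card W₁ := by
          obtain ⟨k, hk, hk2⟩ := S.W₂_le_commutator (x := x) w.2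
          rw [← hk]
          exact lin_apply_commutator S hζ hk2
        have h := congrFun hexp x
        simp only [Pi.add_apply, Finset.sum_apply, Pi.smul_apply, smul_eq_mul] at h
        rw [← hg, hgx, hζx] at h
        rw [h, add_sub_cancel_left]
        refine Finset.sum_congr rfl fun j _ => ?_
        rw [Finset.sum_congr rfl fun i _ => S.side.grid.eq_on i (row0 W₁ W₂) j x (mem_derivedIn.2 hwd),
          Finset.sum_const, Finset.card_univ, ← Nat.card_eq_fintype_card, card_row S.side.typeP.selfNormalizing,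
          nsmul_eq_mul, ← mul_assoc, div_mul_cancel₀ _ hq0, mu_apply_W₂ S hcent j (x := x) w.2, mul_assoc]
      have h := col_coef_zero _ hval hj₀
      exact_mod_cast (mul_eq_zero.1 h).resolve_right (S.side.grid.irr _ _).apply_one_ne_zero
  obtain ⟨a, c, -, -, -, hc, -⟩ := phi_coef S hf hζ
  have hc1 : (c : ℂ) = E (col0 W₁ W₂) := by
    have h := lin_coef S hTI hf hζ z hc hζ
    rw [hlin ζ hζ, if_pos rfl, psi0_eq S, hE] at h
    linear_combination h
  have hX : ∀ j, j ≠ col0 W₁ W₂ → classInner (colX M μ j) (f ζ) = -(μ (row0 W₁ W₂) j 1 * c) := by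
    intro j hj
    rw [colX, tau_inner_gOf S hTI (colSrc_props S j).1 (colSrc_props S j).2.2.1 (colSrc_props S j).2.2.2
      (hf.classFun hζ) z, colSrc, classInner_sub_left, classInner_smul_left, psi0_eq S, hE, hE, hEj j hj, hc1]
    simp
  obtain ⟨j₁, hj₁⟩ : ∃ j : Col W₁ W₂, j ≠ col0 W₁ W₂ := by
    apply Fintype.exists_ne_of_one_lt_card
    rw [← Nat.card_eq_fintype_card, card_col S.side.typeP.selfNormalizing]
    exact S.prime.one_lt
  have hc0 : c = 0 := c_eq_zero S hf hζ hc hj₁ (hX j₁ hj₁)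
  subst hc0
  refine ⟨phi_eq_of_zero S hf hζ (fun b hb => by rw [hc b hb]; simp) fun j hj => by rw [hX j hj]; simp, ?_⟩
  have hgz : g = ζ := by
    rw [hg, hexp, add_eq_left]
    refine Finset.sum_eq_zero fun j _ => ?_
    have : E j = 0 := by
      by_cases hj : j = col0 W₁ W₂
      · subst hj
        exact_mod_cast hc1.symm
      · exact hEj j hj
    rw [this, Int.cast_zero, zero_div, zero_smul]
  obtain ⟨hmu, -⟩ := sum_sq_le_muOn S hTI (hf.classFun hζ)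
  refine le_trans (le_of_eq ?_) hmu
  have hs := gOf_sum (M := M) (f ζ) z
  rw [← hg, hgz] at hs
  have h1 : ∑ x : M, ‖ζ x‖ ^ 2 = Nat.card M := by
    have h := congrArg Complex.re (classInner_irr_self (lin_irr S hζ))
    rw [classInner_self, Complex.ofReal_re, Complex.one_re,
      inv_mul_eq_iff_eq_mul₀ (Nat.cast_ne_zero.2 Nat.card_pos.ne'), mul_one] at h
    exact h
  have h2 : f ζ z = Nat.card W₁ := by
    have h := congrFun hgz 1
    rwa [hg, gOf, if_pos rfl, lin_degree S hζ] at h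
  rw [h1, h2, Complex.norm_natCast, S.card_eq] at hs
  rw [S.card_eq]
  push_cast at hs ⊢
  rw [show (∑ x : M, if x ∈ derivedIn M ∧ x ≠ 1 then ‖f ζ x‖ ^ 2 else 0) =
    (Nat.card (derivedIn M) : ℝ) * Nat.card W₁ - (Nat.card W₁ : ℝ) ^ 2 by linarith]
  have hk0 : (Nat.card (derivedIn M) : ℝ) ≠ 0 := Nat.cast_ne_zero.2 Nat.card_pos.ne'
  field_simp

end Core

section Labelling

/-- The coefficients at the members: the indicator of `ξ`, or of the other member of a family of two, negated. -/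
theorem members_cases (S : VSide M W₁ W₂ μ δ χ) [Fintype (Col W₁ W₂)]
    (hTI : Cfsg.IsTISubset ((⁅M, M⁆ : Subgroup G) : Set G)) (hf : IsLinFamily (M := M) f) (hζ : ζ ∈ linFin M)
    {Z : Subgroup G} (hZ : Z ≤ ⁅M, M⁆) (hZn : M ≤ Subgroup.normalizer (Z : Set G))
    (hZc : ∀ a ∈ Z, ∀ y ∈ ⁅M, M⁆, a * y = y * a) {z : G} (hz : z ∈ Z) (hz1 : z ≠ 1)
    (hconst : ∀ a ∈ Z, ∀ b ∈ Z, a ≠ 1 → b ≠ 1 → f ζ a = f ζ b) :
    (∀ b ∈ linFin M, classInner b (gOf M (f ζ) z) = if b = ζ then 1 else 0) ∨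
      ((linFin M).card = 2 ∧ ∀ b ∈ linFin M, classInner b (gOf M (f ζ) z) = (if b = ζ then 1 else 0) - 1) := by
  haveI := Fintype.ofFinite (derivedIn M)
  obtain ⟨n, d, hn, hd, hdvd⟩ := exists_congr S hTI hf hζ hZ hZn hZc hconst hz hz1
  obtain ⟨E₀, hE₀⟩ := inner_int (hf.gen hζ) hn hd hdvd (S.side.grid.theta_irr (col0 W₁ W₂))
  rw [S.side.grid.theta_ind, ← psi0_eq S] at hE₀
  obtain ⟨a, c, -, -, -, hc, -⟩ := phi_coef S hf hζ
  set c' : ℤ := c - E₀ with hc'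
  set g := gOf M (f ζ) z with hg
  have hb : ∀ b ∈ linFin M, classInner b g = (((if b = ζ then 1 else 0) - c' : ℤ) : ℂ) := fun b hb => by
    have h := lin_coef S hTI hf hζ z hc hb
    rw [← hg, hE₀] at h
    rw [hc', apply_ite (fun v : ℤ => v) (b = ζ)]
    push_cast
    linear_combination h
  have hnorm : classInner (f ζ) (f ζ) = 1 := by rw [hf.orth ζ hζ ζ hζ, if_pos rfl]
  have hKZ := gOf_norm_le S hTI (hf.classFun hζ) hnorm hZ hz hz1 hconst
  rw [← hg] at hKZ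
  have hB := bessel S g ∅ (by simp)
  rw [Finset.sum_empty, add_zero, Finset.sum_congr rfl fun b hb' => by rw [hb b hb', Complex.norm_intCast, sq_abs],
    ← Finset.add_sum_erase _ _ hζ, if_pos rfl, Finset.sum_congr rfl (g := fun _ => ((c' : ℤ) : ℝ) ^ 2) fun b hb' => by
      rw [if_neg (Finset.mem_erase.1 hb').1]; push_cast; ring,
    Finset.sum_const, Finset.card_erase_of_mem hζ, nsmul_eq_mul] at hB
  have hnn : 0 ≤ ∑ i, ∑ j, ‖classInner (μ i j) g‖ ^ 2 := by positivity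
  have hZ3 : (3 : ℝ) ≤ Nat.card Z := by
    exact_mod_cast three_le_card_of_odd S.side.odd fun e => hz1 (Subgroup.mem_bot.1 (e.le hz))
  have h32 : (classInner g g).re ≤ 3 / 2 := by nlinarith
  have hle : (c' - 1) ^ 2 + (((linFin M).card - 1 : ℕ) : ℤ) * c' ^ 2 ≤ 1 := by
    have h : (((c' - 1) ^ 2 + (((linFin M).card - 1 : ℕ) : ℤ) * c' ^ 2 : ℤ) : ℝ) < ((2 : ℤ) : ℝ) := by
      push_cast at hB ⊢
      linarith
    have := Int.cast_lt.1 h
    omega
  have hN : (1 : ℤ) ≤ (((linFin M).card - 1 : ℕ) : ℤ) := by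
    exact_mod_cast (show 1 ≤ (linFin M).card - 1 by have := two_le_card S; omega)
  rcases eq_or_ne c' 0 with h0 | h0
  · left
    intro b hb'
    rw [hb b hb', h0, sub_zero]
    split_ifs <;> simp
  · have hsq : (1 : ℤ) ≤ c' ^ 2 := by nlinarith [Int.one_le_abs h0, sq_abs c', abs_nonneg c']
    have hc1 : c' = 1 := by
      by_contra hne
      nlinarith [Int.one_le_abs (sub_ne_zero.2 hne), sq_abs (c' - 1), abs_nonneg (c' - 1)]
    rw [hc1] at hle
    refine Or.inr ⟨by norm_num at hle; omega, fun b hb' => ?_⟩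
    rw [hb b hb', hc1]
    split_ifs <;> simp

/-- The conclusion for a suitable family and member. -/
theorem exists_member (S : VSide M W₁ W₂ μ δ χ) [Fintype (Col W₁ W₂)]
    (hTI : Cfsg.IsTISubset ((⁅M, M⁆ : Subgroup G) : Set G)) (hf : IsLinFamily (M := M) f) (hζ : ζ ∈ linFin M)
    {Z : Subgroup G} (hZ : Z ≤ ⁅M, M⁆) (hZ1 : Z ≠ ⊥) (hZn : M ≤ Subgroup.normalizer (Z : Set G))
    (hZc : ∀ a ∈ Z, ∀ y ∈ ⁅M, M⁆, a * y = y * a) (hcase : ZCase M W₁ W₂ Z)
    (hconst : ∀ a ∈ Z, ∀ b ∈ Z, a ≠ 1 → b ≠ 1 → f ζ a = f ζ b) :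
    ∃ f' ζ', IsLinFamily (M := M) f' ∧ ζ' ∈ linFin M ∧ phi M ζ' = colSum χ (col0 W₁ W₂) - f' ζ' ∧
      1 - (Nat.card W₁ : ℝ) / Nat.card (derivedIn M) ≤
        muOn (Cfsg.tildeOf M (((⁅M, M⁆ : Subgroup G) : Set G) \ {1})) (fun g => ‖f' ζ' g‖ ^ 2) := by
  obtain ⟨z, hz, hz1⟩ := Z.bot_or_exists_ne_one.resolve_left hZ1
  rcases members_cases S hTI hf hζ hZ hZn hZc hz hz1 hconst with h | ⟨h2, h⟩
  · exact ⟨f, ζ, hf, hζ, ti_core S hTI hf hζ hZ hZn hZc hcase hz hz1 hconst h⟩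
  obtain ⟨hc, hne⟩ := lin_conj S hζ
  refine ⟨_, conjFun ζ, hf.swap S h2, hc,
    ti_core S hTI (hf.swap S h2) hc hZ hZn hZc hcase hz hz1 (fun a ha b hb ha1 hb1 => ?_) fun b hb => ?_⟩
  · simp only [conjFun_conjFun]
    rw [Pi.neg_apply, Pi.neg_apply, hconst a ha b hb ha1 hb1]
  · simp only [conjFun_conjFun]
    rw [gOf_neg, classInner_neg_right, h b hb]
    by_cases hbζ : b = ζ
    · subst hbζ
      simp [hne.symm]
    · rw [eq_conj_of_card_two S h2 hζ hb hbζ]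
      simp [hne]

end Labelling

section Bound

theorem arith_bound {q p k : ℕ} (hq : 3 ≤ q) (hk : p * (2 * q - 1) ^ 2 ≤ k) : 20 * q ^ 2 * p ≤ 11 * k := by
  obtain ⟨r, rfl⟩ := Nat.exists_eq_add_of_le hq
  rw [show 2 * (3 + r) - 1 = 2 * r + 5 by omega] at hk
  nlinarith [Nat.zero_le (p * r), Nat.zero_le (p * r ^ 2)]

/-- `W₂` central: `|M'| ≥ |W₂| (2 |W₁| - 1) ^ 2`. -/
theorem k_bound_central (S : VSide M W₁ W₂ μ δ χ) (hcent : ∀ a ∈ W₂, ∀ x ∈ M, a * x = x * a)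
    {j : Col W₁ W₂} (hj : j ≠ col0 W₁ W₂) :
    Nat.card W₂ * (2 * Nat.card W₁ - 1) ^ 2 ≤ Nat.card (derivedIn M) := by
  haveI := Fintype.ofFinite (derivedIn M)
  obtain ⟨d, hd, hdq⟩ := col_degree S hj
  suffices h : (Nat.card W₂ : ℝ) * (d : ℝ) ^ 2 ≤ Nat.card (derivedIn M) by
    have h' : Nat.card W₂ * d ^ 2 ≤ Nat.card (derivedIn M) := by exact_mod_cast h
    exact le_trans (Nat.mul_le_mul_left _ (Nat.pow_le_pow_left (by omega) 2)) h'
  have h1 : ∑ k : derivedIn M, ‖colTheta M μ j k‖ ^ 2 = Nat.card (derivedIn M) := by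
    have h := congrArg Complex.re (classInner_irr_self (S.side.grid.theta_irr j))
    rw [classInner_self, Complex.ofReal_re, Complex.one_re,
      inv_mul_eq_iff_eq_mul₀ (Nat.cast_ne_zero.2 Nat.card_pos.ne'), mul_one] at h
    exact h
  rw [← h1]
  have hle : W₂ ≤ ⁅M, M⁆ := W₂_le_derived S.side.typeP
  haveI := Fintype.ofFinite W₂
  let ι : W₂ ↪ derivedIn M := ⟨fun w => ⟨⟨w, S.derived_le (hle w.2)⟩, mem_derivedIn.2 (hle w.2)⟩,
    fun a b e => Subtype.ext (congrArg (fun t : derivedIn M => ((t : M) : G)) e)⟩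
  refine le_trans (le_of_eq ?_) (Finset.sum_le_sum_of_subset_of_nonneg
    (Finset.subset_univ (Finset.univ.map ι)) fun k _ _ => by positivity)
  rw [Finset.sum_map, Finset.sum_congr rfl (g := fun _ => (d : ℝ) ^ 2) fun w _ => ?_, Finset.sum_const,
    Finset.card_univ, ← Nat.card_eq_fintype_card, nsmul_eq_mul]
  show ‖μ (row0 W₁ W₂) j ⟨w, _⟩‖ ^ 2 = _
  rw [mu_apply_W₂ S hcent j (x := (⟨w, S.derived_le (hle w.2)⟩ : M)) w.2, hd, norm_mul, Complex.norm_natCast]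
  set v : ↥(W₁ ⊔ W₂) := ⟨((⟨w, S.derived_le (hle w.2)⟩ : M) : G), Subgroup.mem_sup_right w.2⟩
  rw [norm_eq_one_of_pow_orderOf (g := v)
    (by rw [← Units.val_pow_eq_pow_val, ← map_pow, pow_orderOf_eq_one, map_one, Units.val_one]), mul_one]

/-- The fixed point free case: `|Z| ≥ 2 |W₁| + 1`. -/
theorem card_center_ge (S : VSide M W₁ W₂ μ δ χ) {Z : Subgroup G} (hZ : Z ≤ ⁅M, M⁆) (hZ1 : Z ≠ ⊥)
    (hZn : M ≤ Subgroup.normalizer (Z : Set G)) (hWZ : W₂ ⊓ Z = ⊥) :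
    2 * Nat.card W₁ + 1 ≤ Nat.card Z := by
  have hW := S.side.typeP.W₁_compl.2.1
  have hdvd := Cfsg.Lib.FT12.dvd_card_sub_one_of_stab Z (hW.trans hZn) ⊥ fun m hm v hv hv1 => by
    refine ⟨fun e => Subgroup.mem_bot.2 (by_contra fun hm1 => hv1 ?_), fun e => by simp [Subgroup.mem_bot.1 e]⟩
    refine Subgroup.mem_bot.1 (hWZ.le ⟨(S.side.typeP.W₂_centralizer m hm hm1).le ⟨hZ hv, ?_⟩, hv⟩)
    exact Subgroup.mem_centralizer_singleton_iff.2 (mul_inv_eq_iff_eq_mul.1 e).symm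
  rw [Subgroup.relIndex_bot_left] at hdvd
  have h3 := three_le_card_of_odd S.side.odd hZ1
  have hoZ : Odd (Nat.card Z) := S.side.odd.of_dvd_nat (Subgroup.card_subgroup_dvd_card _)
  have hoW : Odd (Nat.card W₁) := S.side.odd.of_dvd_nat (Subgroup.card_subgroup_dvd_card _)
  obtain ⟨a, ha⟩ := hdvd
  obtain ⟨x, hx⟩ := hoZ
  obtain ⟨y, hy⟩ := hoW
  rcases a with _ | _ | a
  · omega
  · omega
  · nlinarith [Nat.sub_add_cancel (show 1 ≤ Nat.card Z by omega), Nat.zero_le (Nat.card W₁ * a)]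

/-- The fixed point free case: `|M'| ≥ |W₂| (2 |W₁| + 1) ^ 2`. -/
theorem k_bound_free (S : VSide M W₁ W₂ μ δ χ) {Z : Subgroup G} (hZ : Z ≤ ⁅⁅M, M⁆, ⁅M, M⁆⁆) (hZ1 : Z ≠ ⊥)
    (hZn : M ≤ Subgroup.normalizer (Z : Set G)) (hWZ : W₂ ⊓ Z = ⊥) :
    Nat.card W₂ * (2 * Nat.card W₁ + 1) ^ 2 ≤ Nat.card (derivedIn M) := by
  have hle : ⁅⁅M, M⁆, ⁅M, M⁆⁆ ≤ ⁅M, M⁆ :=
    Cfsg.Lib.Coprime.commutator_le_of_le_normalizer Subgroup.le_normalizer
  have hZq := card_center_ge S (hZ.trans hle) hZ1 hZn hWZ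
  have hW2n : W₂ ≤ Subgroup.normalizer (Z : Set G) :=
    (le_trans le_sup_right (sup_le_of_typeP S.side.typeP)).trans hZn
  have h1 : Nat.card Z * Nat.card W₂ ≤ Nat.card ↥(⁅⁅M, M⁆, ⁅M, M⁆⁆) := by
    rw [← Cfsg.Lib.Coprime.card_sup_of_disjoint hW2n (disjoint_iff.2 ((inf_comm Z W₂).trans hWZ))]
    exact Subgroup.card_le_of_le (sup_le hZ (S.side.typeP.W₂_le.trans inf_le_right))
  have hmap : (commutator (derivedIn M)).map ((derivedIn M).subtype) = ⁅derivedIn M, derivedIn M⁆ := by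
    rw [_root_.commutator_def, Subgroup.map_commutator, ← MonoidHom.range_eq_map, Subgroup.range_subtype]
  have hmap2 : (⁅derivedIn M, derivedIn M⁆).map M.subtype = ⁅⁅M, M⁆, ⁅M, M⁆⁆ := by
    rw [Subgroup.map_commutator, show (derivedIn M).map M.subtype = ⁅M, M⁆ from
      Subgroup.map_subgroupOf_eq_of_le S.derived_le]
  have h2 : Nat.card ↥(⁅⁅M, M⁆, ⁅M, M⁆⁆) = Nat.card (commutator (derivedIn M)) := by
    rw [← hmap2, Subgroup.card_map_of_injective M.subtype_injective, ← hmap,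
      Subgroup.card_map_of_injective (derivedIn M).subtype_injective]
  have h3 : 2 * Nat.card W₁ + 1 ≤ (commutator (derivedIn M)).index := by
    rw [← card_linFin S]
    exact Nat.add_le_add_right (Nat.mul_le_mul_right _ (two_le_card S)) 1
  rw [← Subgroup.card_mul_index (commutator (derivedIn M)), ← h2]
  calc Nat.card W₂ * (2 * Nat.card W₁ + 1) ^ 2 = (2 * Nat.card W₁ + 1) * Nat.card W₂ * (2 * Nat.card W₁ + 1) := by ring
    _ ≤ Nat.card Z * Nat.card W₂ * (2 * Nat.card W₁ + 1) := Nat.mul_le_mul_right _ (Nat.mul_le_mul_right _ hZq)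
    _ ≤ _ := Nat.mul_le_mul h1 h3

end Bound

/-- The TI case, given that the images of the members are constant on `W₂` and, when `W₂` is not central in
`M'`, on a further central subgroup. -/
theorem ti_exact_of (S : VSide M W₁ W₂ μ δ χ) [Fintype (Col W₁ W₂)]
    (hTI : Cfsg.IsTISubset ((⁅M, M⁆ : Subgroup G) : Set G))
    (hW2 : ∀ (f : (M → ℂ) → (G → ℂ)) (ζ : M → ℂ), IsLinFamily (M := M) f → ζ ∈ linFin M →
      ∀ a ∈ W₂, ∀ b ∈ W₂, a ≠ 1 → b ≠ 1 → f ζ a = f ζ b)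
    (hfree : ¬ W₂ ≤ Subgroup.centralizer ((⁅M, M⁆ : Subgroup G) : Set G) →
      ∀ (f : (M → ℂ) → (G → ℂ)) (ζ : M → ℂ), IsLinFamily (M := M) f → ζ ∈ linFin M →
      ∃ Z : Subgroup G, Z ≠ ⊥ ∧ Z ≤ ⁅⁅M, M⁆, ⁅M, M⁆⁆ ∧ M ≤ Subgroup.normalizer (Z : Set G) ∧
        (∀ z ∈ Z, ∀ y ∈ ⁅M, M⁆, z * y = y * z) ∧ W₂ ⊓ Z = ⊥ ∧
        ∀ z ∈ Z, ∀ z' ∈ Z, z ≠ 1 → z' ≠ 1 → f ζ z = f ζ z') :
    ∃ f ζ, IsLinFamily (M := M) f ∧ ζ ∈ linFin M ∧ phi M ζ = colSum χ (col0 W₁ W₂) - f ζ ∧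
      ∃ k : ℕ, 20 * Nat.card W₁ ^ 2 * Nat.card W₂ ≤ 11 * k ∧
        1 - (Nat.card W₁ : ℝ) / k ≤
          muOn (Cfsg.tildeOf M (((⁅M, M⁆ : Subgroup G) : Set G) \ {1})) (fun g => ‖f ζ g‖ ^ 2) := by
  obtain ⟨f, hf⟩ := exists_linFamily S
  obtain ⟨ζ, hζ⟩ := linFin_nonempty S
  have hq3 : 3 ≤ Nat.card W₁ := three_le_card_of_odd S.side.odd S.side.typeP.W₁_ne
  by_cases hc : W₂ ≤ Subgroup.centralizer ((⁅M, M⁆ : Subgroup G) : Set G)
  · have hcent : ∀ a ∈ W₂, ∀ x ∈ M, a * x = x * a := by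
      intro a ha x hx
      obtain ⟨y, hy, b, hb, rfl⟩ := S.side.typeP.W₁_compl.2.2.2 x hx
      have e1 := Subgroup.mem_centralizer_iff.1 (hc ha) y hy
      have e2 := S.side.typeP.selfNormalizing.2.2.2.1 b hb a ha
      rw [← mul_assoc, ← e1, mul_assoc, ← e2, mul_assoc]
    have hZ := W₂_le_derived S.side.typeP
    obtain ⟨f', ζ', hf', hζ', h1, h2⟩ := exists_member S hTI hf hζ hZ S.side.typeP.selfNormalizing.2.1
      (fun x hx => Cfsg.Lib.OddOrder.mem_normalizer_of_forall fun a ha => by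
        rwa [show x * a * x⁻¹ = a by rw [← hcent a ha x hx, mul_inv_cancel_right]])
      (fun a ha y hy => hcent a ha y (S.derived_le hy)) (Or.inr ⟨rfl, hcent⟩) (hW2 f ζ hf hζ)
    obtain ⟨j, hj⟩ : ∃ j : Col W₁ W₂, j ≠ col0 W₁ W₂ := by
      apply Fintype.exists_ne_of_one_lt_card
      rw [← Nat.card_eq_fintype_card, card_col S.side.typeP.selfNormalizing]
      exact S.prime.one_lt
    exact ⟨f', ζ', hf', hζ', h1, _, arith_bound hq3 (k_bound_central S hcent hj), h2⟩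
  · obtain ⟨Z, hZ1, hZ, hZn, hZc, hWZ, hconst⟩ := hfree hc f ζ hf hζ
    have hZ' : Z ≤ ⁅M, M⁆ := hZ.trans (Cfsg.Lib.Coprime.commutator_le_of_le_normalizer Subgroup.le_normalizer)
    obtain ⟨f', ζ', hf', hζ', h1, h2⟩ := exists_member S hTI hf hζ hZ' hZ1 hZn hZc
      (Or.inl (card_center_ge S hZ' hZ1 hZn hWZ)) hconst
    exact ⟨f', ζ', hf', hζ', h1, _, arith_bound hq3 (le_trans
      (Nat.mul_le_mul_left _ (Nat.pow_le_pow_left (by omega) 2)) (k_bound_free S hZ hZ1 hZn hWZ)), h2⟩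

/-- The TI case, given the constancy on a central subgroup when `W₂` is not central in `M'`. -/
theorem ti_exact_of_free (S : VSide M W₁ W₂ μ δ χ) [Fintype (Col W₁ W₂)]
    (hTI : Cfsg.IsTISubset ((⁅M, M⁆ : Subgroup G) : Set G))
    (hfree : ¬ W₂ ≤ Subgroup.centralizer ((⁅M, M⁆ : Subgroup G) : Set G) →
      ∀ (f : (M → ℂ) → (G → ℂ)) (ζ : M → ℂ), IsLinFamily (M := M) f → ζ ∈ linFin M →
      ∃ Z : Subgroup G, Z ≠ ⊥ ∧ Z ≤ ⁅⁅M, M⁆, ⁅M, M⁆⁆ ∧ M ≤ Subgroup.normalizer (Z : Set G) ∧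
        (∀ z ∈ Z, ∀ y ∈ ⁅M, M⁆, z * y = y * z) ∧ W₂ ⊓ Z = ⊥ ∧
        ∀ z ∈ Z, ∀ z' ∈ Z, z ≠ 1 → z' ≠ 1 → f ζ z = f ζ z') :
    ∃ f ζ, IsLinFamily (M := M) f ∧ ζ ∈ linFin M ∧ phi M ζ = colSum χ (col0 W₁ W₂) - f ζ ∧
      ∃ k : ℕ, 20 * Nat.card W₁ ^ 2 * Nat.card W₂ ≤ 11 * k ∧
        1 - (Nat.card W₁ : ℝ) / k ≤
          muOn (Cfsg.tildeOf M (((⁅M, M⁆ : Subgroup G) : Set G) \ {1})) (fun g => ‖f ζ g‖ ^ 2) :=
  ti_exact_of S hTI (fun _ _ hf hζ => const_on_W₂ S hf hζ) hfree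

/-- The TI case. -/
theorem ti_exact (S : VSide M W₁ W₂ μ δ χ) [Fintype (Col W₁ W₂)]
    (hTI : Cfsg.IsTISubset ((⁅M, M⁆ : Subgroup G) : Set G)) :
    ∃ f ζ, IsLinFamily (M := M) f ∧ ζ ∈ linFin M ∧ phi M ζ = colSum χ (col0 W₁ W₂) - f ζ ∧
      ∃ k : ℕ, 20 * Nat.card W₁ ^ 2 * Nat.card W₂ ≤ 11 * k ∧
        1 - (Nat.card W₁ : ℝ) / k ≤
          muOn (Cfsg.tildeOf M (((⁅M, M⁆ : Subgroup G) : Set G) \ {1})) (fun g => ‖f ζ g‖ ^ 2) :=
  ti_exact_of_free S hTI fun hnc _ _ hf hζ => exists_const_center S hTI hnc hf hζ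

end Cfsg.Lib.OddOrder.NoTypeV
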