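import Cfsg.Agent.Lib.OddOrder.NoTypeV.Phi
import Cfsg.Agent.Lib.Char.FT.Twist
import Cfsg.Agent.Lib.Char.Central

/-!
The images of the characters induced from the columns, and the normal form of `Φ`.
-/

set_option autoImplicit false
set_option linter.unusedSectionVars false
set_option linter.style.haveILetI false

namespace Cfsg.Lib.OddOrder.NoTypeV

open Cfsg Cfsg.Lib.Char Cfsg.Lib.Char.FT
open scoped ComplexConjugate

universe u

variable {G : Type u} [Group G] [Fintype G] {M W₁ W₂ : Subgroup G} [Fintype M] [Fintype (Row W₁ W₂)]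
  {μ : Row W₁ W₂ → Col W₁ W₂ → M → ℂ} {δ : Col W₁ W₂ → ℤ} {χ : (↥(W₁ ⊔ W₂) →* ℂˣ) → (G → ℂ)}
  {f : (M → ℂ) → (G → ℂ)} {ζ : M → ℂ} {j : Col W₁ W₂}

/-- `Ind θ_j - θ_j(1) ψ₀`. -/
noncomputable def colSrc (M : Subgroup G) [Fintype M] (μ : Row W₁ W₂ → Col W₁ W₂ → M → ℂ) (j : Col W₁ W₂) :
    M → ℂ :=
  (∑ i, μ i j) - μ (row0 W₁ W₂) j 1 • psi0 M

/-- Its image. -/
noncomputable def colX (M : Subgroup G) [Fintype M] (μ : Row W₁ W₂ → Col W₁ W₂ → M → ℂ) (j : Col W₁ W₂) :
    G → ℂ :=
  tau M (colSrc M μ j)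

theorem phi_sub (S : VSide M W₁ W₂ μ δ χ) (hf : IsLinFamily (M := M) f) {a : M → ℂ} (hζ : ζ ∈ linFin M)
    (ha : a ∈ linFin M) : phi M a = phi M ζ + (f ζ - f a) := by
  rw [← hf.diff ζ hζ a ha, phi, phi, ← tau_add]
  congr 1
  abel

theorem phi_inner (S : VSide M W₁ W₂ μ δ χ) (hf : IsLinFamily (M := M) f) (hζ : ζ ∈ linFin M) {c : ℤ}
    (hc : ∀ b ∈ linFin M, classInner (phi M ζ) (f b) = (c : ℂ) - if b = ζ then 1 else 0)
    {a b : M → ℂ} (ha : a ∈ linFin M) (hb : b ∈ linFin M) :
    classInner (phi M a) (f b) = (c : ℂ) - if b = a then 1 else 0 := by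
  classical
  rw [phi_sub S hf hζ ha, classInner_add_left, classInner_sub_left, hc b hb, hf.orth ζ hζ b hb, hf.orth a ha b hb]
  simp only [eq_comm (a := b)]
  ring

/-- The degree of a nonprincipal column exceeds `|W₁|`. -/
theorem col_degree (S : VSide M W₁ W₂ μ δ χ) (hj : j ≠ col0 W₁ W₂) :
    ∃ d : ℕ, μ (row0 W₁ W₂) j 1 = d ∧ 2 * Nat.card W₁ ≤ d + 1 := by
  haveI := Fintype.ofFinite (derivedIn M)
  obtain ⟨d, hd0, hd⟩ := (S.side.grid.irr (row0 W₁ W₂) j).exists_degree
  refine ⟨d, hd, ?_⟩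
  have hodd : Odd d := (Cfsg.Lib.Local.Uniq.odd_subgroup S.side.minimal M).of_dvd_nat
    (degree_dvd_card (S.side.grid.irr _ _) hd)
  have hqodd : Odd (Nat.card W₁) := S.side.odd.of_dvd_nat (Subgroup.card_subgroup_dvd_card _)
  have hd1 : d ≠ 1 := by
    rintro rfl
    obtain ⟨l, hl⟩ := exists_hom_of_degree_one (S.side.grid.theta_irr j).isCharacter
      (show colTheta M μ j 1 = 1 by simp [colTheta, hd])
    have hl1 : l ≠ 1 := fun e => hj (S.side.grid.theta_inj (funext fun k => by
      rw [hl, e]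
      simp [colTheta, S.side.grid.map_one]))
    exact (S.ind_linear_irr hl1).2 j (funext fun k => (congrFun hl k).symm)
  obtain ⟨n, hn⟩ := S.side.grid.deg (row0 W₁ W₂) j
  rw [hd] at hn
  have hn' : (d : ℤ) - δ j = n * (Nat.card W₁ : ℤ) := by exact_mod_cast hn
  have hq3 := three_le_card_of_odd S.side.odd S.side.typeP.W₁_ne
  have hd3 : 3 ≤ d := by rcases hodd with ⟨a, ha⟩; omega
  rcases le_or_gt n 1 with h | h
  · exfalso
    rcases le_or_gt n 0 with h0 | h0
    · have : n * (Nat.card W₁ : ℤ) ≤ 0 := mul_nonpos_of_nonpos_of_nonneg h0 (Nat.cast_nonneg _)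
      rcases S.side.grid.sign j with e | e <;> omega
    · obtain rfl : n = 1 := by omega
      obtain ⟨a, ha⟩ := hodd
      obtain ⟨b, hb⟩ := hqodd
      rcases S.side.grid.sign j with e | e <;> omega
  · have : 2 * (Nat.card W₁ : ℤ) ≤ n * (Nat.card W₁ : ℤ) := mul_le_mul_of_nonneg_right (by omega) (Nat.cast_nonneg _)
    rcases S.side.grid.sign j with e | e <;> omega

theorem colSum_mu_one (S : VSide M W₁ W₂ μ δ χ) (j : Col W₁ W₂) :
    (∑ i, μ i j) 1 = (Nat.card W₁ : ℂ) * μ (row0 W₁ W₂) j 1 := by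
  rw [Finset.sum_apply, Finset.sum_congr rfl fun i _ => S.side.grid.eq_on i (row0 W₁ W₂) j 1 (one_mem _),
    Finset.sum_const, Finset.card_univ, ← Nat.card_eq_fintype_card, card_row S.side.typeP.selfNormalizing,
    nsmul_eq_mul]

theorem colSrc_props (S : VSide M W₁ W₂ μ δ χ) (j : Col W₁ W₂) :
    IsClassFunction M (colSrc M μ j) ∧ IsGeneralizedCharacter M (colSrc M μ j) ∧
      (∀ x, x ∉ derivedIn M → colSrc M μ j x = 0) ∧ colSrc M μ j 1 = 0 := by
  obtain ⟨d, -, hd⟩ := (S.side.grid.irr (row0 W₁ W₂) j).exists_degree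
  refine ⟨fun a b => ?_, ?_, fun x hx => ?_, ?_⟩
  · simp only [colSrc, Pi.sub_apply, Pi.smul_apply, Finset.sum_apply, psi0_classFun S a b]
    rw [Finset.sum_congr rfl fun i _ => (S.side.grid.irr i j).isClassFunction a b]
  · refine (IsGeneralizedCharacter.sum _ _ fun i _ => (S.side.grid.irr i j).isCharacter.isGeneralized).sub ?_
    rw [hd, show (d : ℂ) = ((d : ℤ) : ℂ) by simp]
    exact (psi0_gen S).intCast_smul d
  · simp only [colSrc, Pi.sub_apply, Pi.smul_apply]
    rw [Finset.sum_apply, S.side.grid.sum_off j x hx, psi0, indFun_derived_off _ hx]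
    simp
  · simp only [colSrc, Pi.sub_apply, Pi.smul_apply, smul_eq_mul]
    rw [colSum_mu_one S, psi0_apply S (one_mem _)]
    ring

theorem colSrc_supp (S : VSide M W₁ W₂ μ δ χ) (j : Col W₁ W₂) :
    ∀ x : M, (x : G) ∉ Cfsg.typeA0 M → colSrc M μ j x = 0 :=
  S.supp (colSrc_props S j).2.2.1 (colSrc_props S j).2.2.2

theorem colX_gen (S : VSide M W₁ W₂ μ δ χ) (j : Col W₁ W₂) : IsGeneralizedCharacter G (colX M μ j) :=
  isGeneralizedCharacter_dadeIsometry S.side.dade (colSrc_props S j).2.1 (colSrc_supp S j)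

theorem colX_classFun (S : VSide M W₁ W₂ μ δ χ) (j : Col W₁ W₂) : IsClassFunction G (colX M μ j) :=
  isClassFunction_dadeIsometry S.side.dade (colSrc_props S j).1

theorem colX_V (S : VSide M W₁ W₂ μ δ χ) (j : Col W₁ W₂) (w : ↥(W₁ ⊔ W₂)) (h₁ : (w : G) ∉ W₁)
    (h₂ : (w : G) ∉ W₂) : colX M μ j (w : G) = 0 := by
  rw [colX, S.tau_apply_V (colSrc_props S j).1 w h₁ h₂, (colSrc_props S j).2.2.1 _ (S.not_derived h₂)]

theorem inner_colsum_psi0 (S : VSide M W₁ W₂ μ δ χ) (hj : j ≠ col0 W₁ W₂) :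
    classInner (∑ i, μ i j) (psi0 M) = 0 := by
  rw [classInner_sum_left]
  exact Finset.sum_eq_zero fun i _ => classInner_symm_zero (by rw [psi0_inner_mu S, if_neg hj])

theorem inner_colsum_lin (S : VSide M W₁ W₂ μ δ χ) {a : M → ℂ} (ha : a ∈ linFin M) (j : Col W₁ W₂) :
    classInner (∑ i, μ i j) a = 0 := by
  rw [classInner_sum_left]
  exact Finset.sum_eq_zero fun i _ => classInner_irr_ne (S.side.grid.irr _ _) (lin_irr S ha) (lin_ne_mu S ha i j).symm

theorem colSrc_inner_lin (S : VSide M W₁ W₂ μ δ χ) {a : M → ℂ} (ha : a ∈ linFin M) (j : Col W₁ W₂) :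
    classInner (colSrc M μ j) a = 0 := by
  rw [colSrc, classInner_sub_left, classInner_smul_left, inner_colsum_lin S ha,
    classInner_symm_zero (lin_inner_psi0 S ha)]
  simp

theorem colX_inner_diff (S : VSide M W₁ W₂ μ δ χ) (hf : IsLinFamily (M := M) f) {a b : M → ℂ} (ha : a ∈ linFin M)
    (hb : b ∈ linFin M) : classInner (colX M μ j) (f a) = classInner (colX M μ j) (f b) := by
  rw [← sub_eq_zero, ← classInner_sub_right, ← hf.diff a ha b hb, colX,
    classInner_dadeIsometry_dadeIsometry S.side.dade (colSrc_props S j).1 (colSrc_supp S j)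
      (fun x y => by simp [(lin_irr S ha).isClassFunction x y, (lin_irr S hb).isClassFunction x y]),
    classInner_sub_right, colSrc_inner_lin S ha, colSrc_inner_lin S hb, sub_zero]

theorem colX_inner_phi (S : VSide M W₁ W₂ μ δ χ) (hζ : ζ ∈ linFin M) (hj : j ≠ col0 W₁ W₂) :
    classInner (colX M μ j) (phi M ζ) = -(μ (row0 W₁ W₂) j 1 * Nat.card W₁) := by
  rw [colX, phi, classInner_dadeIsometry_dadeIsometry S.side.dade (colSrc_props S j).1 (colSrc_supp S j)
    (phi_src_classFun S hζ), classInner_sub_right, colSrc_inner_lin S hζ, sub_zero, colSrc,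
    classInner_sub_left, classInner_smul_left, inner_colsum_psi0 S hj, psi0_norm S]
  ring

theorem colX_norm (S : VSide M W₁ W₂ μ δ χ) (hj : j ≠ col0 W₁ W₂) {d : ℕ} (hd : μ (row0 W₁ W₂) j 1 = d) :
    classInner (colX M μ j) (colX M μ j) = (((Nat.card W₁ + d * d * Nat.card W₁ : ℕ) : ℤ) : ℂ) := by
  classical
  rw [colX, classInner_dadeIsometry_dadeIsometry S.side.dade (colSrc_props S j).1 (colSrc_supp S j)
    (colSrc_props S j).1, colSrc, hd]
  simp only [classInner_sub_left, classInner_sub_right, classInner_smul_left, classInner_smul_right,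
    inner_colsum_psi0 S hj, classInner_symm_zero (inner_colsum_psi0 S hj), psi0_norm S, Complex.conj_natCast]
  rw [classInner_sum_left]
  simp only [classInner_sum_right]
  rw [Finset.sum_congr rfl (g := fun _ => (1 : ℂ)) fun i _ => by
    rw [Finset.sum_eq_single_of_mem i (Finset.mem_univ _), classInner_irr_self (S.side.grid.irr i j)]
    intro k _ hk
    exact classInner_irr_ne (S.side.grid.irr _ _) (S.side.grid.irr _ _) fun e => hk (S.side.grid.inj _ _ _ _ e).1.symm]
  rw [Finset.sum_const, Finset.card_univ, ← Nat.card_eq_fintype_card, card_row S.side.typeP.selfNormalizing,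
    nsmul_eq_mul, mul_one]
  push_cast
  ring

theorem inner_sum_lin (S : VSide M W₁ W₂ μ δ χ) (hf : IsLinFamily (M := M) f) {a : M → ℂ} (ha : a ∈ linFin M) :
    classInner (∑ b ∈ linFin M, f b) (f a) = 1 ∧
      classInner (∑ b ∈ linFin M, f b) (∑ b ∈ linFin M, f b) = ((linFin M).card : ℂ) := by
  classical
  have h : ∀ c ∈ linFin M, classInner (∑ b ∈ linFin M, f b) (f c) = 1 := fun c hc => by
    rw [classInner_sum_left, Finset.sum_congr rfl fun b hb => hf.orth b hb c hc, Finset.sum_ite_eq', if_pos hc]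
  refine ⟨h a ha, ?_⟩
  rw [classInner_sum_right, Finset.sum_congr rfl h, Finset.sum_const, nsmul_eq_mul, mul_one]

/-- The common coefficient of `Φ` vanishes. -/
theorem c_eq_zero (S : VSide M W₁ W₂ μ δ χ) [Fintype (Col W₁ W₂)] (hf : IsLinFamily (M := M) f)
    (hζ : ζ ∈ linFin M) {c : ℤ}
    (hc : ∀ b ∈ linFin M, classInner (phi M ζ) (f b) = (c : ℂ) - if b = ζ then 1 else 0)
    (hj : j ≠ col0 W₁ W₂) (hX : classInner (colX M μ j) (f ζ) = -(μ (row0 W₁ W₂) j 1 * c)) : c = 0 := by
  classical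
  obtain ⟨d, hd, hdq⟩ := col_degree S hj
  rw [hd] at hX
  set q : ℤ := (Nat.card W₁ : ℤ) with hq
  set N : ℤ := ((linFin M).card : ℤ) with hN
  set m : ℤ := q + 2 * c - N * c ^ 2 with hm
  have hN2 : 2 ≤ N := by simp only [hN]; exact_mod_cast two_le_card S
  have hm0 : 0 ≤ m := by
    obtain ⟨a, c', -, -, -, hc', hle⟩ := phi_coef S hf hζ
    have e : c' = c := by
      have h1 := hc' ζ hζ
      rw [hc ζ hζ, if_pos rfl] at h1
      exact_mod_cast (sub_left_inj.1 h1).symm
    subst e
    have h0 : (0 : ℤ) ≤ ∑ i, ∑ j, a i j ^ 2 := Finset.sum_nonneg fun i _ => Finset.sum_nonneg fun j _ => sq_nonneg _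
    have e' : ((((linFin M).card - 1 : ℕ) : ℤ)) = N - 1 := by
      rw [Nat.cast_sub (by have := two_le_card S; omega)]; rfl
    rw [e'] at hle
    nlinarith
  set F : G → ℂ := ∑ b ∈ linFin M, f b with hF
  have hXa : ∀ b ∈ linFin M, classInner (colX M μ j) (f b) = -((d : ℂ) * c) := fun b hb =>
    (colX_inner_diff S hf hb hζ).trans hX
  have hXF : classInner (colX M μ j) F = -((N : ℂ) * d * c) := by
    rw [hF, classInner_sum_right, Finset.sum_congr rfl hXa, Finset.sum_const, nsmul_eq_mul, hN]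
    push_cast
    ring
  have hPF : classInner (phi M ζ) F = (N : ℂ) * c - 1 := by
    rw [hF, classInner_sum_right, Finset.sum_congr rfl hc, Finset.sum_sub_distrib, Finset.sum_const,
      Finset.sum_ite_eq', if_pos hζ, nsmul_eq_mul, hN]
    push_cast
    ring
  have hFζ : classInner F (f ζ) = 1 := (inner_sum_lin S hf hζ).1
  have hFF : classInner F F = (((linFin M).card : ℕ) : ℂ) := (inner_sum_lin S hf hζ).2
  have hPζ : classInner (phi M ζ) (f ζ) = (c : ℂ) - 1 := by rw [hc ζ hζ, if_pos rfl]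
  have hXP : classInner (colX M μ j) (phi M ζ) = -((d : ℂ) * q) := by
    rw [colX_inner_phi S hζ hj, hd, hq]; push_cast; ring
  have hXX : classInner (colX M μ j) (colX M μ j) = (q : ℂ) + (d : ℂ) * d * q := by
    rw [colX_norm S hj hd, hq]; push_cast; ring
  have hPP : classInner (phi M ζ) (phi M ζ) = (q : ℂ) + 1 := by
    rw [phi_norm S hζ, hq]; push_cast; ring
  have hff : classInner (f ζ) (f ζ) = 1 := by rw [hf.orth ζ hζ ζ hζ, if_pos rfl]
  set K : ℤ := -((d : ℤ) * (q - N * c ^ 2 + c)) with hK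
  set w : G → ℂ := (m : ℂ) • (colX M μ j + ((d : ℂ) * c) • F) - (K : ℂ) • (phi M ζ - (c : ℂ) • F + f ζ) with hw
  have sPX : classInner (phi M ζ) (colX M μ j) = -((d : ℂ) * q) := by
    rw [← classInner_conj_symm, hXP]; simp
  have sFX : classInner F (colX M μ j) = -((N : ℂ) * d * c) := by rw [← classInner_conj_symm, hXF]; simp
  have sFP : classInner F (phi M ζ) = (N : ℂ) * c - 1 := by rw [← classInner_conj_symm, hPF]; simp
  have sζF : classInner (f ζ) F = 1 := by rw [← classInner_conj_symm, hFζ]; simp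
  have sζX : classInner (f ζ) (colX M μ j) = -((d : ℂ) * c) := by rw [← classInner_conj_symm, hX]; simp
  have sζP : classInner (f ζ) (phi M ζ) = (c : ℂ) - 1 := by rw [← classInner_conj_symm, hPζ]; simp
  have hww : classInner w w = ((m * (m * (q * 1) - (d : ℤ) ^ 2 * c ^ 2) : ℤ) : ℂ) := by
    simp only [hw, classInner_sub_left, classInner_sub_right, classInner_add_left, classInner_add_right,
      classInner_smul_left, classInner_smul_right, map_mul, Complex.conj_natCast, map_intCast, hXX, hXP,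
      hXF, hX, sPX, hPP, hPF, hPζ, sFX, sFP, hFF, hFζ, sζX, sζP, sζF, hff, hm, hK, hN]
    push_cast
    ring
  have hnn := classInner_self_nonneg w
  rw [hww, Complex.intCast_re] at hnn
  have hnn' : 0 ≤ m * (m * (q * 1) - (d : ℤ) ^ 2 * c ^ 2) := by exact_mod_cast hnn
  by_contra hne
  have hc1 : 1 ≤ c ^ 2 := by nlinarith [Int.one_le_abs hne, sq_abs c, abs_nonneg c]
  have hs : 0 ≤ N * c ^ 2 - 2 * c := by
    nlinarith [mul_le_mul_of_nonneg_right hN2 (sq_nonneg c), Int.le_self_sq c]
  have hdq' : q < (d : ℤ) := by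
    have := three_le_card_of_odd S.side.odd S.side.typeP.W₁_ne
    omega
  rcases hm0.eq_or_lt with h0 | h0
  · have hw0 : classInner (phi M ζ - (c : ℂ) • F + f ζ) (phi M ζ - (c : ℂ) • F + f ζ) = 0 := by
      simp only [classInner_sub_left, classInner_sub_right, classInner_add_left, classInner_add_right,
        classInner_smul_left, classInner_smul_right, map_intCast, hPP, hPF, hPζ, sFP, hFF, hFζ, sζP, sζF,
        hff, hN]
      have : ((m : ℤ) : ℂ) = 0 := by rw [← h0]; simp
      simp only [hm, hN] at this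
      push_cast at this ⊢
      linear_combination this
    have e : classInner (colX M μ j + ((d : ℂ) * c) • F) (phi M ζ - (c : ℂ) • F + f ζ) = 0 := by
      rw [eq_zero_of_classInner_self hw0]; simp [classInner]
    simp only [classInner_sub_right, classInner_add_left, classInner_add_right, classInner_smul_left,
      classInner_smul_right, map_intCast, hXP, hXF, hX, hFF, sFP, hFζ, hN] at e
    have e' : (d : ℤ) * (q - N * c ^ 2 + c) = 0 := by
      have : (((d : ℤ) * (q - N * c ^ 2 + c) : ℤ) : ℂ) = 0 := by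
        simp only [hN]
        push_cast
        linear_combination -e
      exact_mod_cast this
    have : q - N * c ^ 2 + c = 0 := (mul_eq_zero.1 e').resolve_left (by omega)
    exact hne (by omega)
  · have h1 : (d : ℤ) ^ 2 * c ^ 2 ≤ m * q := by
      have := (mul_nonneg_iff_of_pos_left h0).1 hnn'
      linarith
    have h2 : m ≤ q := by omega
    nlinarith [mul_le_mul hdq'.le hdq'.le (by positivity) (by positivity), mul_le_mul_of_nonneg_right h2
      (show (0 : ℤ) ≤ q by positivity), mul_le_mul_of_nonneg_left hc1 (sq_nonneg (d : ℤ))]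

/-- A nonprincipal column is nonconstant on `M'`. -/
theorem col_nontriv (S : VSide M W₁ W₂ μ δ χ) (hj : j ≠ col0 W₁ W₂) : NontrivOn M (colTheta M μ j) := by
  by_contra hno
  haveI := Fintype.ofFinite (derivedIn M)
  have hconst : ∀ h : derivedIn M, colTheta M μ j h = colTheta M μ j 1 := fun h => by
    by_contra hne
    exact hno ⟨h, S.fitting.ge h.2, hne⟩
  refine hj (S.side.grid.theta_inj ?_)
  by_contra hne
  have h := classInner_irr_ne (S.side.grid.theta_irr j) (S.side.grid.theta_irr (col0 W₁ W₂)) hne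
  rw [classInner, Finset.sum_congr rfl (g := fun _ => colTheta M μ j 1) fun h _ => by
      rw [hconst h]; simp [colTheta, S.side.grid.map_one],
    Finset.sum_const, Finset.card_univ, nsmul_eq_mul, ← Nat.card_eq_fintype_card, ← mul_assoc,
    inv_mul_cancel₀ card_cast_ne_zero, one_mul] at h
  obtain ⟨d, hd0, hd⟩ := (S.side.grid.theta_irr j).exists_degree
  rw [hd, Nat.cast_eq_zero] at h
  omega

/-- A second column with the same sign and degree. -/
theorem exists_twin (S : VSide M W₁ W₂ μ δ χ) (hj : j ≠ col0 W₁ W₂) :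
    ∃ k : Col W₁ W₂, k ≠ col0 W₁ W₂ ∧ k ≠ j ∧ δ k = δ j ∧ μ (row0 W₁ W₂) k 1 = μ (row0 W₁ W₂) j 1 := by
  obtain ⟨a, ha⟩ := S.side.odd
  have hk : (2 * a).Coprime (Nat.card G) := by rw [ha]; simp
  obtain ⟨e1, e2⟩ := S.side.grid.twist_mu S.side.minimal S.side.typeP hk (row0 W₁ W₂) j
  have hpow : ∀ g : G, g ^ (2 * a) = g⁻¹ := fun g =>
    eq_inv_of_mul_eq_one_left (by rw [← pow_succ, ← ha, pow_card_eq_one'])
  have hv : ∀ v : ↥(W₁ ⊔ W₂), (colPow (2 * a) j).1 v = (j.1 v)⁻¹ := fun v => by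
    show j.1 v ^ (2 * a) = _
    rw [← map_pow, ← map_inv]
    exact congrArg j.1 (Subtype.ext (hpow v))
  have hr : rowPow (2 * a) (row0 W₁ W₂) = row0 W₁ W₂ := Subtype.ext (MonoidHom.ext fun v => by simp [rowPow, row0])
  rw [hr] at e1
  refine ⟨colPow (2 * a) j, fun e => hj (Subtype.ext (MonoidHom.ext fun v => ?_)),
    fun e => hj (Subtype.ext (MonoidHom.ext fun v => ?_)), e2, ?_⟩
  · have := hv v
    rw [e] at this
    simpa [col0] using this.symm
  · have h := hv v
    rw [e] at h
    have h2 : j.1 v ^ 2 = 1 := by rw [sq]; nth_rewrite 1 [h]; exact inv_mul_cancel _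
    have h3 : j.1 v ^ Nat.card G = 1 := by
      rw [← map_pow]
      exact (congrArg j.1 (Subtype.ext (by simpa using pow_card_eq_one' (x := (v : G))))).trans (map_one _)
    rw [ha, pow_succ, pow_mul, h2, one_pow, one_mul] at h3
    simpa [col0] using h3
  · rw [← e1]
    simp [twist]

theorem conj_eta (hodd : Odd (Nat.card G)) (hW : IsSelfNormalizingCyclic W₁ W₂) (hχ : IsCyclicTIFamily W₁ W₂ χ)
    {a : ℕ} (ha : Nat.card G = 2 * a + 1) (i : Row W₁ W₂) (j : Col W₁ W₂) :
    conjFun (eta χ i j) = eta χ (rowPow (2 * a) i) (colPow (2 * a) j) := by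
  have hk : (2 * a).Coprime (Nat.card G) := by rw [ha]; simp
  have hpow : ∀ g : G, g ^ (2 * a) = g⁻¹ := fun g =>
    eq_inv_of_mul_eq_one_left (by rw [← pow_succ, ← ha, pow_card_eq_one'])
  rw [show eta χ (rowPow (2 * a) i) (colPow (2 * a) j) = twist (2 * a) (eta χ i j) from
    (twist_eta hodd hW hχ hk i j).symm]
  funext g
  show conj _ = eta χ i j (g ^ (2 * a))
  rw [hpow, (eta_gen hχ i j).apply_inv]

theorem conj_rowPow {a : ℕ} (ha : Nat.card G = 2 * a + 1) (i : Row W₁ W₂) :
    rowPow (2 * a) (rowPow (2 * a) i) = i ∧ (rowPow (2 * a) i = i → i = row0 W₁ W₂) := by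
  have hinv : ∀ (i : Row W₁ W₂) (v : ↥(W₁ ⊔ W₂)), (rowPow (2 * a) i).1 v = (i.1 v)⁻¹ := fun i v => by
    show i.1 v ^ (2 * a) = _
    rw [← map_pow, ← map_inv]
    exact congrArg i.1 (Subtype.ext (eq_inv_of_mul_eq_one_left (by
      rw [SubmonoidClass.coe_pow, ← pow_succ, ← ha, pow_card_eq_one'])))
  refine ⟨Subtype.ext (MonoidHom.ext fun v => by rw [hinv, hinv, inv_inv]), fun e => Subtype.ext (MonoidHom.ext fun v => ?_)⟩
  have h := hinv i v
  rw [e] at h
  have h2 : i.1 v ^ 2 = 1 := by rw [sq]; nth_rewrite 1 [h]; exact inv_mul_cancel _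
  have h3 : i.1 v ^ Nat.card G = 1 := by
    rw [← map_pow]
    exact (congrArg i.1 (Subtype.ext (by simpa using pow_card_eq_one' (x := (v : G))))).trans (map_one _)
  rw [ha, pow_succ, pow_mul, h2, one_pow, one_mul] at h3
  simpa [row0] using h3

/-- An involution with a single fixed point: the sum is the value there modulo two. -/
theorem odd_sum_of_involutive {ι : Type*} [Fintype ι] [DecidableEq ι] (σ : ι → ι) (hσ : ∀ i, σ (σ i) = i) (i₀ : ι)
    (hfix : ∀ i, σ i = i → i = i₀) (h0 : σ i₀ = i₀) (a : ι → ℤ) (ha : ∀ i, a (σ i) = a i) (h1 : Odd (a i₀)) :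
    Odd (∑ i, a i) := by
  rw [← Finset.add_sum_erase _ _ (Finset.mem_univ i₀)]
  refine h1.add_even ?_
  rw [even_iff_two_dvd]
  refine (ZMod.intCast_zmod_eq_zero_iff_dvd _ 2).1 ?_
  rw [Int.cast_sum]
  refine Finset.sum_involution (fun i _ => σ i) (fun i _ => ?_) (fun i hi _ e => ?_) (fun i hi => ?_)
    (fun i _ => hσ i)
  · rw [ha, ← two_mul, show (2 : ZMod 2) = 0 from rfl, zero_mul]
  · exact (Finset.mem_erase.1 hi).1 (hfix i e)
  · refine Finset.mem_erase.2 ⟨fun e => (Finset.mem_erase.1 hi).1 ?_, Finset.mem_univ _⟩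
    rw [← hσ i, e, h0]

set_option maxHeartbeats 800000 in
/-- When the coefficients of `Φ` and of a column at `ξ` vanish, `Φ = Σ η_{i0} - ξ`. -/
theorem phi_eq_of_zero (S : VSide M W₁ W₂ μ δ χ) [Fintype (Col W₁ W₂)] (hf : IsLinFamily (M := M) f)
    (hζ : ζ ∈ linFin M)
    (hc : ∀ b ∈ linFin M, classInner (phi M ζ) (f b) = - if b = ζ then 1 else 0)
    (hX : ∀ j, j ≠ col0 W₁ W₂ → classInner (colX M μ j) (f ζ) = 0) :
    phi M ζ = colSum χ (col0 W₁ W₂) - f ζ := by
  classical
  have hW := S.side.typeP.selfNormalizing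
  obtain ⟨a, c, hadd, h00, ha, hc', hle⟩ := phi_coef S hf hζ
  have hc0 : c = 0 := by
    have h := hc' ζ hζ
    rw [hc ζ hζ, if_pos rfl] at h
    have : ((c : ℤ) : ℂ) = 0 := by linear_combination -h
    exact_mod_cast this
  subst hc0
  suffices hy : ∀ j, j ≠ col0 W₁ W₂ → classInner (phi M ζ) (eta χ (row0 W₁ W₂) j) = 0 by
    rcases phi_cases S hf hζ hy with h | ⟨-, h⟩
    · exact h
    · rw [hc ζ hζ, if_pos rfl] at h
      norm_num at h
  by_cases hall : ∀ k, a (row0 W₁ W₂) k = 1
  swap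
  · intro j hj
    have hc1 := one_le_c_part (two_le_card S) 0
    rw [ha, Int.cast_eq_zero]
    rw [← Finset.add_sum_erase _ _ (Finset.mem_univ (row0 W₁ W₂))] at hle
    have h2 : ((Finset.univ.erase (row0 W₁ W₂)).card : ℤ) ≤ ∑ i ∈ Finset.univ.erase (row0 W₁ W₂), ∑ k, a i k ^ 2 := by
      rw [Finset.card_eq_sum_ones]; push_cast
      refine Finset.sum_le_sum fun i _ => (row_sum_ge hadd h00 (fun _ => rfl) i).resolve_right fun h => hall h.2
    rw [Finset.card_erase_of_mem (Finset.mem_univ _), Finset.card_univ, ← Nat.card_eq_fintype_card, card_row hW,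
      Nat.cast_sub Nat.card_pos] at h2
    rw [← Finset.add_sum_erase _ _ (Finset.mem_univ (col0 W₁ W₂)), h00] at hle
    have h4 : a (row0 W₁ W₂) j ^ 2 ≤ ∑ k ∈ Finset.univ.erase (col0 W₁ W₂), a (row0 W₁ W₂) k ^ 2 :=
      Finset.single_le_sum (f := fun k => a (row0 W₁ W₂) k ^ 2) (fun k _ => sq_nonneg _) (by simp [hj])
    push_cast at h2
    have h5 : a (row0 W₁ W₂) j ^ 2 ≤ 0 := by linarith
    exact pow_eq_zero_iff two_ne_zero |>.1 (le_antisymm h5 (sq_nonneg _))
  exfalso
  have hrow : ∀ i k, a i k = a i (col0 W₁ W₂) := fun i k => by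
    have := hadd i (row0 W₁ W₂) k (col0 W₁ W₂)
    rw [hall k, hall (col0 W₁ W₂)] at this
    omega
  obtain ⟨n, hn⟩ := S.side.odd
  have hconj : ∀ i, a (rowPow (2 * n) i) (col0 W₁ W₂) = a i (col0 W₁ W₂) := by
    intro i
    have hcc : colPow (2 * n) (col0 W₁ W₂) = col0 W₁ W₂ :=
      Subtype.ext (MonoidHom.ext fun v => by simp [colPow, col0])
    have hΦ : conjFun (phi M ζ) = phi M ζ + (f ζ - f (conjFun ζ)) := by
      rw [← phi_sub S hf hζ (lin_conj S hζ).1, phi, tau_conj, phi]
      congr 1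
      funext x
      have hr : ∀ y, conj (psi0 M y) = psi0 M y := fun y => by
        by_cases hy : y ∈ derivedIn M
        · rw [psi0_apply S hy, Complex.conj_natCast]
        · rw [psi0, indFun_derived_off _ hy, map_zero]
      simp [conjFun, hr x]
    have h1 : classInner (conjFun (phi M ζ)) (conjFun (eta χ i (col0 W₁ W₂))) =
        conj (classInner (phi M ζ) (eta χ i (col0 W₁ W₂))) := by
      simp [classInner, conjFun, map_mul, map_sum]
    rw [conj_eta S.side.odd hW S.side.family hn, hcc, hΦ, classInner_add_left, classInner_sub_left,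
      hf.orth_eta S hζ, hf.orth_eta S (lin_conj S hζ).1, ha, ha, map_intCast] at h1
    simp only [sub_zero, add_zero, Int.cast_inj] at h1
    exact h1
  have hoddsum : Odd (∑ i, a i (col0 W₁ W₂)) :=
    odd_sum_of_involutive (rowPow (2 * n)) (fun i => (conj_rowPow hn i).1) (row0 W₁ W₂)
      (fun i e => (conj_rowPow hn i).2 e) (Subtype.ext (MonoidHom.ext fun v => by simp [rowPow, row0]))
      (fun i => a i (col0 W₁ W₂)) hconj (by rw [h00]; exact odd_one)
  obtain ⟨j, hj⟩ : ∃ j : Col W₁ W₂, j ≠ col0 W₁ W₂ := by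
    apply Fintype.exists_ne_of_one_lt_card
    rw [← Nat.card_eq_fintype_card, card_col hW]
    exact S.prime.one_lt
  obtain ⟨k, hk, hkj, hδ, hdeg⟩ := exists_twin S hj
  obtain ⟨d, hd, -⟩ := col_degree S hj
  set P : G → ℂ := phi M ζ + f ζ with hP
  have hPP : classInner P P = (Nat.card W₁ : ℂ) := by
    rw [hP]
    simp only [classInner_add_left, classInner_add_right, phi_norm S hζ, hc ζ hζ, if_pos, hf.orth ζ hζ ζ hζ,
      show classInner (f ζ) (phi M ζ) = -1 by rw [← classInner_conj_symm, hc ζ hζ, if_pos rfl]; simp]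
    push_cast
    ring
  have hPa : ∀ i l, classInner P (eta χ i l) = a i l := fun i l => by
    rw [hP, classInner_add_left, ha, hf.orth_eta S hζ, add_zero]
  have key : ∀ m, m ≠ col0 W₁ W₂ → μ (row0 W₁ W₂) m 1 = d → ∃ F : G → ℂ, F = colX M μ m + (d : ℂ) • P ∧
      classInner F F = (Nat.card W₁ : ℂ) ∧ classInner F P = 0 ∧
      ∃ b : Row W₁ W₂ → Col W₁ W₂ → ℤ, Additive b ∧ ∀ i l, classInner F (eta χ i l) = b i l := by
    intro m hm hdm
    obtain ⟨x, hx⟩ := exists_coef S.side.family (colX_gen S m)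
    have hXP : classInner (colX M μ m) P = -((d : ℂ) * Nat.card W₁) := by
      rw [hP, classInner_add_right, colX_inner_phi S hζ hm, hdm, hX m hm, add_zero]
    have hPX : classInner P (colX M μ m) = -((d : ℂ) * Nat.card W₁) := by
      rw [← classInner_conj_symm, hXP]; simp
    refine ⟨_, rfl, ?_, ?_, fun i l => x i l + d * a i l, ?_, fun i l => ?_⟩
    · simp only [classInner_add_left, classInner_add_right, classInner_smul_left, classInner_smul_right,
        colX_norm S hm hdm, hXP, hPX, hPP, Complex.conj_natCast]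
      push_cast
      ring
    · rw [classInner_add_left, classInner_smul_left, hXP, hPP]; ring
    · intro i i' l l'
      have h1 := additive_coef hW S.side.family (colX_classFun S m) (colX_V S m) hx i i' l l'
      have h2 := hadd i i' l l'
      linear_combination h1 + (d : ℤ) * h2
    · rw [classInner_add_left, classInner_smul_left, hx, hPa]
      push_cast
      ring
  obtain ⟨F, hF, hFF, hFP, b, hbadd, hb⟩ := key j hj hd
  obtain ⟨F', hF', hFF', hFP', b', hbadd', hb'⟩ := key k hk (hdeg.trans hd)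
  have hdiff : F - F' = (δ j : ℂ) • (colSum χ j - colSum χ k) := by
    rw [hF, hF', add_sub_add_right_eq_sub, colX, colX, ← tau_sub, colSrc, colSrc, hdeg, sub_sub_sub_cancel_right,
      ← Finset.sum_sub_distrib, tau_sum, colSum, colSum, ← Finset.sum_sub_distrib, Finset.smul_sum]
    refine Finset.sum_congr rfl fun i _ => (S.side.tau_mu_sub i hkj.symm hδ.symm ?_ (col_nontriv S hj)
      (col_nontriv S hk)).2
    rw [S.side.grid.eq_on i (row0 W₁ W₂) j 1 (one_mem _), S.side.grid.eq_on i (row0 W₁ W₂) k 1 (one_mem _), hdeg]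
  have hcol : ∀ (i : Row W₁ W₂) (l m : Col W₁ W₂), classInner (colSum χ m) (eta χ i l) = if l = m then 1 else 0 := by
    intro i l m
    rw [colSum, classInner_sum_left]
    simp only [eta_orthonormal S.side.family]
    by_cases h : l = m
    · simp [h]
    · simp [h, Ne.symm h]
  set x : Row W₁ W₂ → Col W₁ W₂ → ℤ := fun i l => δ j * b i l - if l = j then 1 else 0 with hx
  have hx' : ∀ i l, x i l = δ j * b' i l - if l = k then 1 else 0 := by
    intro i l
    have h := congrArg (fun T => classInner T (eta χ i l)) hdiff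
    simp only [classInner_sub_left, classInner_smul_left, hb, hb', hcol] at h
    have h' : b i l - b' i l = δ j * ((if l = j then 1 else 0) - if l = k then 1 else 0) := by
      have : ((b i l - b' i l : ℤ) : ℂ) =
          ((δ j * ((if l = j then 1 else 0) - if l = k then 1 else 0) : ℤ) : ℂ) := by
        push_cast
        simpa using h
      exact_mod_cast this
    simp only [hx]
    rcases S.side.grid.sign j with e | e <;> rw [e] at h' ⊢ <;> omega
  have hxadd : Additive x := fun i i' l l' => by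
    have := hbadd i i' l l'
    simp only [hx]
    linear_combination (δ j) * this
  have hsq : ∀ (s : Col W₁ W₂) (e : Row W₁ W₂ → Col W₁ W₂ → ℤ), (∀ i l, x i l = δ j * e i l - if l = s then 1 else 0) →
      ∑ i, ∑ l, ((if l = s then 1 else 0) + x i l) ^ 2 = ∑ i, ∑ l, e i l ^ 2 := fun s e he =>
    Finset.sum_congr rfl fun i _ => Finset.sum_congr rfl fun l _ => by
      rw [he]
      rcases S.side.grid.sign j with h | h <;> rw [h] <;> ring
  have hI : (Fintype.card (Row W₁ W₂) : ℤ) = Nat.card W₁ := by rw [← Nat.card_eq_fintype_card, card_row hW]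
  have hb1 : ∀ {T : G → ℂ} {e : Row W₁ W₂ → Col W₁ W₂ → ℤ}, classInner T T = (Nat.card W₁ : ℂ) →
      (∀ i l, classInner T (eta χ i l) = e i l) → ∑ i, ∑ l, e i l ^ 2 ≤ (Fintype.card (Row W₁ W₂) : ℤ) :=
    fun hT he => by rw [hI]; exact coef_norm_le' S.side.family he (by rw [hT]; simp)
  have hJ : 3 ≤ Fintype.card (Col W₁ W₂) := by
    rw [← Nat.card_eq_fintype_card, card_col hW]
    exact three_le_card_of_odd S.side.odd hW.2.1
  have hIpos : 0 < Fintype.card (Row W₁ W₂) := Fintype.card_pos_iff.2 ⟨row0 W₁ W₂⟩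
  -- `F` is a signed column
  have hzero : ∀ (m : Col W₁ W₂) (ε : ℤ), ε = 1 ∨ ε = -1 → (∀ i l, b i l = ε * if l = m then 1 else 0) →
      ∑ i, a i m = 0 := by
    intro m ε hε hbm
    have h1 : classInner F (colSum χ m) = (ε : ℂ) * Nat.card W₁ := by
      rw [colSum, classInner_sum_right]
      simp only [hb, hbm, if_pos, mul_one, Finset.sum_const, Finset.card_univ, ← Nat.card_eq_fintype_card,
        card_row hW, nsmul_eq_mul]
      ring
    have h1' : classInner (colSum χ m) F = (ε : ℂ) * Nat.card W₁ := by rw [← classInner_conj_symm, h1]; simp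
    have h3 : classInner (colSum χ m) (colSum χ m) = (Nat.card W₁ : ℂ) := by
      rw [colSum, classInner_sum_right, ← colSum]
      simp [hcol, ← Nat.card_eq_fintype_card, card_row hW]
    have hFe : F = (ε : ℂ) • colSum χ m := by
      refine sub_eq_zero.1 (eq_zero_of_classInner_self ?_)
      simp only [classInner_sub_left, classInner_sub_right, classInner_smul_left, classInner_smul_right,
        map_intCast, hFF, h1, h1', h3]
      rcases hε with rfl | rfl <;> push_cast <;> ring
    rw [hFe, classInner_smul_left, mul_eq_zero] at hFP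
    have h4 := hFP.resolve_left (by rcases hε with rfl | rfl <;> simp)
    rw [colSum, classInner_sum_left] at h4
    have h5 : ∀ i, classInner (eta χ i m) P = a i m := fun i => by rw [← classInner_conj_symm, hPa]; simp
    simp only [h5] at h4
    exact_mod_cast h4
  have hfin : ∃ m : Col W₁ W₂, ∑ i, a i m = 0 := by
    rcases col_cases hxadd hIpos hkj.symm hJ ((hsq j b fun i l => rfl).le.trans (hb1 hFF hb))
      ((hsq k b' hx').le.trans (hb1 hFF' hb')) with h | h
    · refine ⟨j, hzero j (δ j) (S.side.grid.sign j) fun i l => ?_⟩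
      have h0 := congrFun (congrFun h i) l
      simp only [hx, Pi.zero_apply] at h0
      rcases S.side.grid.sign j with e | e <;> rw [e] at h0 ⊢ <;> omega
    · refine ⟨k, hzero k (-δ j) (by rcases S.side.grid.sign j with e | e <;> simp [e]) fun i l => ?_⟩
      have h0 := h i l
      simp only [hx] at h0
      have hjk : ¬ (l = j ∧ l = k) := fun h => hkj (h.2.symm.trans h.1)
      by_cases h1 : l = j
      · subst h1
        rw [if_pos (Or.inl rfl), if_pos rfl] at h0
        rw [if_neg fun h => hjk ⟨rfl, h⟩]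
        rcases S.side.grid.sign l with e | e <;> rw [e] at h0 ⊢ <;> omega
      by_cases h2 : l = k
      · subst h2
        rw [if_pos (Or.inr rfl), if_neg h1] at h0
        rw [if_pos rfl]
        rcases S.side.grid.sign j with e | e <;> rw [e] at h0 ⊢ <;> omega
      rw [if_neg (not_or.2 ⟨h1, h2⟩), if_neg h1] at h0
      rw [if_neg h2]
      rcases S.side.grid.sign j with e | e <;> rw [e] at h0 ⊢ <;> omega
  obtain ⟨m, hm⟩ := hfin
  rw [Finset.sum_congr rfl fun i _ => hrow i m] at hm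
  rw [hm] at hoddsum
  simp at hoddsum

end Cfsg.Lib.OddOrder.NoTypeV
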