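import Cfsg.Agent.Lib.OddOrder.NoTypeV.Coef

/-!
The images of the linear family are constant on `W₂#`.
-/

set_option autoImplicit false
set_option linter.unusedSectionVars false
set_option linter.style.haveILetI false

namespace Cfsg.Lib.OddOrder.NoTypeV

open Cfsg Cfsg.Lib.Char Cfsg.Lib.Char.FT
open scoped ComplexConjugate

universe u

/-- Galois conjugation commutes with induction. -/
theorem twist_indFun {X : Type u} [Group X] [Fintype X] (H : Subgroup X) (θ : H → ℂ) {k : ℕ}
    (hk : k.Coprime (Nat.card X)) : twist k (indFun H θ) = indFun H (twist k θ) := by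
  funext x
  simp only [twist, indFun]
  congr 1
  refine Finset.sum_congr rfl fun g _ => ?_
  rw [show g⁻¹ * x ^ k * g = (g⁻¹ * x * g) ^ k from by
    simpa using (conj_pow (i := k) (a := g⁻¹) (b := x)).symm]
  by_cases hy : g⁻¹ * x * g ∈ H
  · rw [extendByZero_of_mem H θ (pow_mem hy k), extendByZero_of_mem H _ hy]
    rfl
  · rw [extendByZero_of_notMem H _ hy, extendByZero_of_notMem H θ fun h => hy ?_]
    obtain ⟨j, hj⟩ := exists_pow_eq_self_of_coprime
      (hk.coprime_dvd_right (orderOf_dvd_natCard (g⁻¹ * x * g)))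
    exact hj ▸ pow_mem h j

/-- Galois conjugates of generalized characters of norm one with the same difference. -/
theorem eq_or_eq_neg_of_sub_eq {X : Type u} [Group X] [Fintype X] {u w p r : X → ℂ}
    (hu : IsGeneralizedCharacter X u) (hp : IsGeneralizedCharacter X p) (hr : IsGeneralizedCharacter X r)
    (huu : classInner u u = 1) (huw : classInner u w = 0) (hpp : classInner p p = 1) (hrr : classInner r r = 1)
    (hpr : classInner p r = 0) (e : u - w = p - r) : u = p ∨ u = -r := by
  obtain ⟨s, hs⟩ := hu.exists_int_classInner hp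
  obtain ⟨t, ht⟩ := hu.exists_int_classInner hr
  have hst : ((s - t : ℤ) : ℂ) = 1 := by
    have h := congrArg (classInner u) e
    rw [classInner_sub_right, classInner_sub_right, huu, huw, hs, ht, sub_zero] at h
    push_cast
    exact h.symm
  have hst' : s - t = 1 := by exact_mod_cast hst
  have hrp : classInner r p = 0 := classInner_symm_zero hpr
  have hs' : classInner p u = s := by rw [← classInner_conj_symm, hs]; simp
  have ht' : classInner r u = t := by rw [← classInner_conj_symm, ht]; simp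
  have hnn := classInner_self_nonneg (u - (s : ℂ) • p - (t : ℂ) • r)
  simp only [classInner_sub_left, classInner_sub_right, classInner_smul_left, classInner_smul_right, map_intCast,
    huu, hpp, hrr, hpr, hrp, hs, ht, hs', ht', mul_zero, mul_one, sub_zero, sub_self] at hnn
  rw [show (1 : ℂ) - s * s - t * t = ((1 - s * s - t * t : ℤ) : ℂ) by push_cast; ring, Complex.intCast_re] at hnn
  have hle : 0 ≤ 1 - s * s - t * t := by exact_mod_cast hnn
  have hcases : s = 1 ∨ t = -1 := by
    by_contra h
    rw [not_or] at h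
    rcases lt_or_gt_of_ne h.1 with h1 | h1
    · have : t ≤ -2 := by omega
      nlinarith [mul_self_nonneg s]
    · nlinarith [mul_self_nonneg t]
  rcases hcases with rfl | rfl
  · refine Or.inl (sub_eq_zero.1 (eq_zero_of_classInner_self ?_))
    simp only [classInner_sub_left, classInner_sub_right, huu, hpp, hs, hs']
    push_cast; ring
  · refine Or.inr (eq_neg_of_add_eq_zero_left (eq_zero_of_classInner_self ?_))
    simp only [classInner_add_left, classInner_add_right, huu, hrr, ht, ht']
    push_cast; ring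

variable {G : Type u} [Group G] [Fintype G] {M W₁ W₂ : Subgroup G} [Fintype M] [Fintype (Row W₁ W₂)]
  {μ : Row W₁ W₂ → Col W₁ W₂ → M → ℂ} {δ : Col W₁ W₂ → ℤ} {χ : (↥(W₁ ⊔ W₂) →* ℂˣ) → (G → ℂ)}
  {f : (M → ℂ) → (G → ℂ)} {ζ : M → ℂ}

theorem twist_psi0 {k : ℕ} (hk : k.Coprime (Nat.card M)) : twist k (psi0 M) = psi0 M := by
  rw [psi0, twist_indFun _ _ hk]
  rfl

/-- Galois conjugates of members are members. -/
theorem twist_mem_linFin {a : M → ℂ} (ha : a ∈ linFin M) {k : ℕ} (hk : k.Coprime (Nat.card M)) :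
    twist k a ∈ linFin M := by
  obtain ⟨l, hl, rfl⟩ := mem_linFin.1 ha
  refine mem_linFin.2 ⟨l ^ k, fun e => hl (MonoidHom.ext fun x => ?_), ?_⟩
  · obtain ⟨j, hj⟩ := exists_pow_eq_self_of_coprime (x := x)
      (hk.coprime_dvd_right ((orderOf_dvd_natCard x).trans (Subgroup.card_subgroup_dvd_card _)))
    have h : l x ^ k = 1 := by simpa using DFunLike.congr_fun e x
    rw [← hj, map_pow, map_pow, h, one_pow, MonoidHom.one_apply]
  · rw [twist_indFun _ _ hk]
    congr 1
    funext x
    simp [twist, map_pow]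

/-- Members agree on `W₂#`. -/
theorem eq_on_W₂ (S : VSide M W₁ W₂ μ δ χ) (hf : IsLinFamily (M := M) f) {a b : M → ℂ} (ha : a ∈ linFin M)
    (hb : b ∈ linFin M) {z : G} (hz : z ∈ W₂) (hz1 : z ≠ 1) : f a z = f b z := by
  let x : M := ⟨z, sup_le_of_typeP S.side.typeP (Subgroup.mem_sup_right hz)⟩
  obtain ⟨k, hk, hkc⟩ := S.W₂_le_commutator (x := x) hz
  have hxd : x ∈ derivedIn M := hk ▸ k.2
  have hx1 : x ≠ 1 := fun e => hz1 (congrArg Subtype.val e)
  have h : tau M (a - b) z = (a - b) x := S.side.tau_apply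
    (fun y w => by simp [(lin_irr S ha).isClassFunction y w, (lin_irr S hb).isClassFunction y w]) x (S.mem_A0 hxd hx1)
  rw [Pi.sub_apply, ← hk, lin_apply_commutator S ha hkc, lin_apply_commutator S hb hkc, sub_self,
    hf.diff a ha b hb, Pi.sub_apply, sub_eq_zero] at h
  exact h

/-- The images of the members are constant on `W₂#`. -/
theorem const_on_W₂ (S : VSide M W₁ W₂ μ δ χ) [Fintype (Col W₁ W₂)] (hf : IsLinFamily (M := M) f)
    (hζ : ζ ∈ linFin M) : ∀ z ∈ W₂, ∀ z' ∈ W₂, z ≠ 1 → z' ≠ 1 → f ζ z = f ζ z' := by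
  classical
  intro z hz z' hz' hz1 hz1'
  haveI : Fact (Nat.card W₂).Prime := ⟨S.prime⟩
  have hord : orderOf z = Nat.card W₂ := by
    rcases (Nat.dvd_prime S.prime).1 ((W₂.orderOf_mk z hz).symm.dvd.trans (orderOf_dvd_natCard _)) with h | h
    · exact absurd (orderOf_eq_one_iff.1 h) hz1
    · exact h
  obtain ⟨m, hm⟩ : ∃ m : ℕ, z ^ m = z' := by
    have h := mem_powers_of_prime_card (G := W₂) (g := ⟨z, hz⟩) (g' := ⟨z', hz'⟩) rfl
      (fun e => hz1 (congrArg Subtype.val e))
    obtain ⟨m, hm⟩ := h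
    exact ⟨m, congrArg Subtype.val hm⟩
  have hmp : m.Coprime (Nat.card W₂) := ((S.prime.coprime_iff_not_dvd).2 fun h => hz1' (by
    rw [← hm, orderOf_dvd_iff_pow_eq_one.1 (hord ▸ h)])).symm
  obtain ⟨k, hk, hkm, -⟩ := exists_coprime_crt (a := Nat.card W₂) (b := 1) (Nat.coprime_one_right _)
    (Nat.card_pos (α := G)).ne' hmp (Nat.coprime_one_right 1)
  have hzk : z ^ k = z' := by
    rw [← hm]
    exact pow_eq_pow_iff_modEq.2 (hord.symm ▸ hkm)
  have hkM : k.Coprime (Nat.card M) := hk.coprime_dvd_right (Subgroup.card_subgroup_dvd_card _)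
  obtain ⟨hb, hbne⟩ := lin_conj S hζ
  set b := conjFun ζ with hbdef
  have ha' := twist_mem_linFin hζ hkM
  have hb' := twist_mem_linFin hb hkM
  have hne : twist k ζ ≠ twist k b := by
    intro e
    have h := classInner_twist hkM ζ b
    rw [← e, classInner_irr_self (lin_irr S ha'), classInner_irr_ne (lin_irr S hζ) (lin_irr S hb) hbne.symm] at h
    exact one_ne_zero h
  have hgen : IsGeneralizedCharacter G (twist k (f ζ)) := by
    rcases hf.irr ζ hζ with h | h
    · exact (isIrrCharacter_comp_pow hk h).isCharacter.isGeneralized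
    · have h' := (isIrrCharacter_comp_pow hk h).isCharacter.isGeneralized.neg
      convert h' using 1
      funext g
      simp [twist]
  have hdiff : twist k (f ζ) - twist k (f b) = f (twist k ζ) - f (twist k b) := by
    rw [← hf.diff _ ha' _ hb', ← twist_sub, ← twist_sub, ← hf.diff ζ hζ b hb]
    exact twist_dadeIsometry ((lin_irr S hζ).isCharacter.isGeneralized.sub (lin_irr S hb).isCharacter.isGeneralized)
      (isGeneralizedCharacter_dadeIsometry S.side.dade
        ((lin_irr S hζ).isCharacter.isGeneralized.sub (lin_irr S hb).isCharacter.isGeneralized)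
        (lin_diff_supp S hζ hb)) hk
  have hu : twist k (f ζ) = f (twist k ζ) := by
    refine (eq_or_eq_neg_of_sub_eq hgen (hf.gen ha') (hf.gen hb')
      (by rw [classInner_twist hk, hf.orth ζ hζ ζ hζ, if_pos rfl])
      (by rw [classInner_twist hk, hf.orth ζ hζ b hb, if_neg hbne.symm])
      (by rw [hf.orth _ ha' _ ha', if_pos rfl]) (by rw [hf.orth _ hb' _ hb', if_pos rfl])
      (by rw [hf.orth _ ha' _ hb', if_neg hne]) hdiff).resolve_right fun e => ?_
    obtain ⟨a, c, -, -, -, hc, -⟩ := phi_coef S hf hζ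
    have hφ : twist k (phi M ζ) = phi M (twist k ζ) := by
      rw [phi, phi, ← twist_psi0 hkM, ← twist_sub, twist_psi0 hkM]
      exact twist_dadeIsometry ((psi0_gen S).sub (lin_irr S hζ).isCharacter.isGeneralized) (phi_gen S hζ) hk
    have h := phi_inner S hf hζ hc ha' hb'
    rw [if_neg hne.symm, sub_zero] at h
    have h' : classInner (phi M (twist k ζ)) (twist k (f ζ)) = (c : ℂ) - 1 := by
      rw [← hφ, classInner_twist hk, hc ζ hζ, if_pos rfl]
    rw [e, classInner_neg_right, h] at h'
    have h2 : ((2 * c : ℤ) : ℂ) = ((1 : ℤ) : ℂ) := by push_cast; linear_combination -h'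
    have h3 : 2 * c = 1 := by exact_mod_cast h2
    omega
  calc f ζ z = f (twist k ζ) z := eq_on_W₂ S hf hζ ha' hz hz1
    _ = twist k (f ζ) z := by rw [hu]
    _ = f ζ z' := by rw [twist, hzk]

end Cfsg.Lib.OddOrder.NoTypeV
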