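import Cfsg.Agent.Lib.OddOrder.NoTypeV.Setup
import Cfsg.Agent.Lib.Char.CoherenceSibley
import Cfsg.Agent.Lib.Char.FT.Twist

/-!
The family of characters induced from the nontrivial linear characters of `M'`, and its image in `G`.
-/

set_option autoImplicit false
set_option linter.unusedSectionVars false
set_option linter.style.haveILetI false

namespace Cfsg.Lib.OddOrder.NoTypeV

open Cfsg Cfsg.Lib.Char Cfsg.Lib.Char.FT Cfsg.Lib.Local.Sigma
open scoped commutatorElement ComplexConjugate Classical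

universe u

variable {G : Type u} [Group G] [Fintype G] {M W₁ W₂ : Subgroup G}

variable [Fintype M]

instance finite_hom' {X : Type u} [Group X] [Finite X] : Finite (X →* ℂˣ) :=
  Finite.of_injective _ (linearCharEquiv (G := X)).injective

/-- The characters induced from the nontrivial linear characters of `M'`. -/
def linSet (M : Subgroup G) [Fintype M] : Set (M → ℂ) :=
  {ζ | ∃ l : derivedIn M →* ℂˣ, l ≠ 1 ∧ ζ = indFun (derivedIn M) fun k => (l k : ℂ)}

theorem linSet_finite (M : Subgroup G) [Fintype M] : (linSet M).Finite :=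
  (Set.finite_range fun l : derivedIn M →* ℂˣ => indFun (derivedIn M) fun k => (l k : ℂ)).subset
    fun _ ⟨l, _, e⟩ => ⟨l, e.symm⟩

/-- The members as a finite set. -/
noncomputable def linFin (M : Subgroup G) [Fintype M] : Finset (M → ℂ) := (linSet_finite M).toFinset

theorem mem_linFin {ζ : M → ℂ} :
    ζ ∈ linFin M ↔ ∃ l : derivedIn M →* ℂˣ, l ≠ 1 ∧ ζ = indFun (derivedIn M) fun k => (l k : ℂ) :=
  (linSet_finite M).mem_toFinset

/-- The principal character induced from `M'`. -/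
noncomputable def psi0 (M : Subgroup G) [Fintype M] : M → ℂ := indFun (derivedIn M) fun _ => 1

theorem tau_add (α β : M → ℂ) : tau M (α + β) = tau M α + tau M β := by
  funext g
  simp only [dadeIsometry, Pi.add_apply]
  split_ifs <;> simp

theorem tau_sub (α β : M → ℂ) : tau M (α - β) = tau M α - tau M β := by
  funext g
  simp only [dadeIsometry, Pi.sub_apply]
  split_ifs <;> simp

theorem tau_smul (c : ℂ) (α : M → ℂ) : tau M (c • α) = c • tau M α := by
  funext g
  simp only [dadeIsometry, Pi.smul_apply, smul_eq_mul]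
  split_ifs <;> simp

theorem tau_zsmul (n : ℤ) (α : M → ℂ) : tau M (n • α) = n • tau M α := by
  rw [← Int.cast_smul_eq_zsmul ℂ, tau_smul, Int.cast_smul_eq_zsmul]

theorem tau_zero : tau M (0 : M → ℂ) = 0 := by
  have := tau_smul (M := M) 0 0
  simpa using this

theorem tau_sum {ι : Type*} (s : Finset ι) (f : ι → M → ℂ) : tau M (∑ i ∈ s, f i) = ∑ i ∈ s, tau M (f i) := by
  induction s using Finset.induction with
  | empty => simp [tau_zero]
  | insert a s ha ih => rw [Finset.sum_insert ha, Finset.sum_insert ha, tau_add, ih]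

theorem tau_conj (α : M → ℂ) : conjFun (tau M α) = tau M (conjFun α) := by
  funext g
  simp only [conjFun, dadeIsometry]
  split_ifs <;> simp

variable [Fintype (Row W₁ W₂)] {μ : Row W₁ W₂ → Col W₁ W₂ → M → ℂ} {δ : Col W₁ W₂ → ℤ}
  {χ : (↥(W₁ ⊔ W₂) →* ℂˣ) → (G → ℂ)}

/-- Inside `W` the derived group is `W₂`. -/
theorem VSide.mem_W₂ (S : VSide M W₁ W₂ μ δ χ) {x : M} (hx : (x : G) ∈ W₁ ⊔ W₂) (hd : x ∈ derivedIn M) :
    (x : G) ∈ W₂ :=
  Subgroup.mem_subgroupOf.1 ((primeCompl S.side.minimal S.side.typeP).inter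
    ((mem_sup_subgroupOf S.side.typeP).2 hx) hd
    (fun a ha b hb => Subtype.ext (S.side.typeP.selfNormalizing.2.2.2.1 _ ha _ hb))
    (eq_bot_iff.2 fun z hz => Subgroup.mem_bot.2 (Subtype.ext
      (Subgroup.mem_bot.1 (S.side.typeP.selfNormalizing.2.2.1.le (Subgroup.mem_inf.2 ⟨hz.1, hz.2⟩))))))

theorem VSide.not_derived (S : VSide M W₁ W₂ μ δ χ) {w : ↥(W₁ ⊔ W₂)} (h₂ : (w : G) ∉ W₂) :
    (⟨w, sup_le_of_typeP S.side.typeP w.2⟩ : M) ∉ derivedIn M := fun hd => h₂ (S.mem_W₂ w.2 hd)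

/-- The elements of `W ∖ (W₁ ∪ W₂)` as elements of `A₀`. -/
theorem VSide.tau_apply_V (S : VSide M W₁ W₂ μ δ χ) {α : M → ℂ} (hα : IsClassFunction M α) (w : ↥(W₁ ⊔ W₂))
    (h₁ : (w : G) ∉ W₁) (h₂ : (w : G) ∉ W₂) :
    tau M α (w : G) = α ⟨w, sup_le_of_typeP S.side.typeP w.2⟩ :=
  S.side.tau_apply hα ⟨w, sup_le_of_typeP S.side.typeP w.2⟩
    (by simpa using S.side.outer_mem (one_mem M) w.2 h₁ h₂)

theorem psi0_eq (S : VSide M W₁ W₂ μ δ χ) : psi0 M = ∑ i, μ i (col0 W₁ W₂) := by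
  rw [← S.side.grid.theta_ind]
  unfold psi0
  congr 1
  funext k
  exact (congrFun S.side.grid.map_one (k : M)).symm

theorem psi0_apply (S : VSide M W₁ W₂ μ δ χ) {x : M} (hx : x ∈ derivedIn M) : psi0 M x = Nat.card W₁ := by
  classical
  rw [psi0_eq S, Finset.sum_apply, Finset.sum_congr rfl fun i _ => S.side.grid.eq_on i (row0 W₁ W₂) _ x hx,
    S.side.grid.map_one, Finset.sum_const, Finset.card_univ, ← Nat.card_eq_fintype_card,
    card_row S.side.typeP.selfNormalizing, nsmul_eq_mul, mul_one]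

theorem psi0_inner_mu (S : VSide M W₁ W₂ μ δ χ) (i : Row W₁ W₂) (j : Col W₁ W₂) :
    classInner (psi0 M) (μ i j) = if j = col0 W₁ W₂ then 1 else 0 := by
  classical
  rw [psi0_eq S, classInner_sum_left, Finset.sum_eq_single_of_mem i (Finset.mem_univ _)]
  · split_ifs with h
    · rw [h, classInner_irr_self (S.side.grid.irr _ _)]
    · exact classInner_irr_ne (S.side.grid.irr _ _) (S.side.grid.irr _ _) fun e => h (S.side.grid.inj _ _ _ _ e).2.symm
  · intro k _ hk
    exact classInner_irr_ne (S.side.grid.irr _ _) (S.side.grid.irr _ _) fun e => hk (S.side.grid.inj _ _ _ _ e).1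

theorem psi0_norm (S : VSide M W₁ W₂ μ δ χ) : classInner (psi0 M) (psi0 M) = (Nat.card W₁ : ℂ) := by
  classical
  conv_lhs => arg 2; rw [psi0_eq S]
  rw [classInner_sum_right]
  simp only [psi0_inner_mu S, if_true, Finset.sum_const, Finset.card_univ, ← Nat.card_eq_fintype_card,
    card_row S.side.typeP.selfNormalizing, nsmul_eq_mul, mul_one]

theorem lin_irr (S : VSide M W₁ W₂ μ δ χ) {ζ : M → ℂ} (hζ : ζ ∈ linFin M) : IsIrrCharacter M ζ := by
  haveI := Fintype.ofFinite (derivedIn M)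
  obtain ⟨l, hl, rfl⟩ := mem_linFin.1 hζ
  exact (S.ind_linear_irr hl).1

theorem lin_off {ζ : M → ℂ} (hζ : ζ ∈ linFin M) {x : M} (hx : x ∉ derivedIn M) : ζ x = 0 := by
  obtain ⟨l, -, rfl⟩ := mem_linFin.1 hζ
  exact indFun_derived_off _ hx

theorem lin_degree (S : VSide M W₁ W₂ μ δ χ) {ζ : M → ℂ} (hζ : ζ ∈ linFin M) : ζ 1 = Nat.card W₁ := by
  obtain ⟨l, -, rfl⟩ := mem_linFin.1 hζ
  rw [indFun_apply_one, S.index_eq, map_one, Units.val_one, mul_one]

theorem lin_apply_commutator (S : VSide M W₁ W₂ μ δ χ) {ζ : M → ℂ} (hζ : ζ ∈ linFin M) {k : derivedIn M}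
    (hk : k ∈ commutator (derivedIn M)) : ζ k = Nat.card W₁ := by
  haveI := normal_derivedIn M
  haveI : Fintype (derivedIn M) := Fintype.ofFinite _
  obtain ⟨l, -, rfl⟩ := mem_linFin.1 hζ
  have hc : ∀ y : M, (l ⟨y * (k : M) * y⁻¹, (normal_derivedIn M).conj_mem _ k.2 y⟩ : ℂ) = 1 := fun y => by
    have hm : (⟨y * (k : M) * y⁻¹, (normal_derivedIn M).conj_mem _ k.2 y⟩ : derivedIn M) ∈
        commutator (derivedIn M) := by
      have := (inferInstance : (commutator (derivedIn M)).Characteristic).fixed (MulAut.conjNormal y)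
      rw [← this, Subgroup.mem_comap] at hk
      convert hk using 1
      exact Subtype.ext (by simp)
    rw [show l _ = 1 from MonoidHom.mem_ker.mp (Abelianization.commutator_subset_ker l hm), Units.val_one]
  rw [indFun_normal_apply _ _ k]
  simp only [hc, Finset.sum_const, Finset.card_univ, nsmul_eq_mul, mul_one]
  rw [← Nat.card_eq_fintype_card, ← Subgroup.card_mul_index (derivedIn M), Nat.cast_mul, ← mul_assoc,
    inv_mul_cancel₀ card_cast_ne_zero, one_mul, S.index_eq]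

theorem lin_ne_mu (S : VSide M W₁ W₂ μ δ χ) {ζ : M → ℂ} (hζ : ζ ∈ linFin M) (i : Row W₁ W₂) (j : Col W₁ W₂) :
    ζ ≠ μ i j := by
  classical
  haveI : Finite W₁ := inferInstance
  intro e
  obtain ⟨w, hw, hw1⟩ := W₁.bot_or_exists_ne_one.resolve_left S.side.typeP.W₁_ne
  have hw2 : w ∉ W₂ := fun h =>
    hw1 (Subgroup.mem_bot.1 (S.side.typeP.selfNormalizing.2.2.1.le ⟨hw, h⟩))
  have h := congrFun e ⟨w, sup_le_of_typeP S.side.typeP (Subgroup.mem_sup_left hw)⟩
  rw [lin_off hζ (fun hd => hw2 (S.mem_W₂ (Subgroup.mem_sup_left hw) hd)),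
    S.side.grid.apply_off i j _ (Subgroup.mem_sup_left hw) hw2] at h
  rcases S.side.grid.sign j with hs | hs <;> simp [hs] at h

theorem lin_inner_psi0 (S : VSide M W₁ W₂ μ δ χ) {ζ : M → ℂ} (hζ : ζ ∈ linFin M) :
    classInner ζ (psi0 M) = 0 := by
  rw [psi0_eq S, classInner_sum_right]
  exact Finset.sum_eq_zero fun i _ => classInner_irr_ne (lin_irr S hζ) (S.side.grid.irr _ _) (lin_ne_mu S hζ i _)

theorem lin_conj (S : VSide M W₁ W₂ μ δ χ) {ζ : M → ℂ} (hζ : ζ ∈ linFin M) :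
    conjFun ζ ∈ linFin M ∧ conjFun ζ ≠ ζ := by
  obtain ⟨l, hl, e⟩ := mem_linFin.1 hζ
  constructor
  · refine mem_linFin.2 ⟨l⁻¹, fun h => hl (by rw [← inv_inv l, h]; ext x; simp), ?_⟩
    rw [e, conjFun_indFun]
    congr 1
    funext k
    simp only [conjFun, MonoidHom.inv_apply]
    rw [← (isIrrCharacter_linear l).isCharacter.apply_inv k, map_inv]
  · intro hc
    have := real_irr_eq_one (Cfsg.Lib.Local.Uniq.odd_subgroup S.side.minimal M) ⟨ζ, lin_irr S hζ⟩
      (fun x => Complex.conj_eq_iff_im.1 (congrFun hc x))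
    have h1 : ζ = fun _ => 1 := this
    exact lin_ne_mu S hζ (row0 W₁ W₂) (col0 W₁ W₂) (h1.trans S.side.grid.map_one.symm)

/-- The linear characters inducing a given member. -/
theorem card_fiber (S : VSide M W₁ W₂ μ δ χ) [Fintype (derivedIn M →* ℂˣ)] {ζ : M → ℂ} (hζ : ζ ∈ linFin M) :
    (Finset.univ.filter fun l : derivedIn M →* ℂˣ => indFun (derivedIn M) (fun k => (l k : ℂ)) = ζ).card =
      Nat.card W₁ := by
  haveI := Fintype.ofFinite (derivedIn M)
  have h := S.sum_ind_linear (φ := ζ) (lin_irr S hζ).isClassFunction fun k hk => by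
    rw [lin_apply_commutator S hζ hk, lin_degree S hζ]
  rw [Finset.sum_congr rfl (g := fun l => if indFun (derivedIn M) (fun k => (l k : ℂ)) = ζ then (1 : ℂ) else 0)
    fun l _ => ?_, Finset.sum_boole, lin_degree S hζ, Complex.conj_natCast] at h
  · exact_mod_cast h
  by_cases hl : l = 1
  · subst hl
    have e : indFun (derivedIn M) (fun k => ((1 : derivedIn M →* ℂˣ) k : ℂ)) = psi0 M := by simp [psi0]
    rw [e, classInner_symm_zero (lin_inner_psi0 S hζ), if_neg]
    intro e'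
    exact one_ne_zero ((classInner_irr_self (lin_irr S hζ)).symm.trans (by
      conv_lhs => arg 2; rw [← e']
      exact lin_inner_psi0 S hζ))
  · exact classInner_irr (lin_irr S (mem_linFin.2 ⟨l, hl, rfl⟩)) (lin_irr S hζ)

/-- `|linFin M| |W₁| + 1 = |M' : M''|`. -/
theorem card_linFin (S : VSide M W₁ W₂ μ δ χ) :
    (linFin M).card * Nat.card W₁ + 1 = (commutator (derivedIn M)).index := by
  haveI := Fintype.ofFinite (derivedIn M →* ℂˣ)
  rw [← card_linear_eq_index, Nat.card_eq_fintype_card (α := derivedIn M →* ℂˣ),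
    ← Finset.card_univ (α := derivedIn M →* ℂˣ),
    ← Finset.card_erase_add_one (Finset.mem_univ (1 : derivedIn M →* ℂˣ)),
    Finset.card_eq_sum_card_fiberwise (f := fun l : derivedIn M →* ℂˣ => indFun (derivedIn M) fun k => (l k : ℂ))
      (t := linFin M) fun l hl => mem_linFin.2 ⟨l, (Finset.mem_erase.1 hl).1, rfl⟩]
  rw [Finset.sum_congr rfl fun ζ hζ => ?_, Finset.sum_const, smul_eq_mul]
  rw [← card_fiber S hζ]
  congr 1
  ext l
  simp only [Finset.mem_filter, Finset.mem_erase, Finset.mem_univ, and_true, true_and]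
  refine ⟨fun h => h.2, fun h => ⟨fun h1 => ?_, h⟩⟩
  subst h1
  have e : psi0 M = ζ := by simpa [psi0] using h
  exact one_ne_zero ((classInner_irr_self (lin_irr S hζ)).symm.trans (by
    conv_lhs => arg 2; rw [← e]
    exact lin_inner_psi0 S hζ))

theorem linFin_nonempty (S : VSide M W₁ W₂ μ δ χ) : (linFin M).Nonempty := by
  rw [← Finset.card_pos]
  by_contra h
  have h1 := card_linFin S
  rw [show (linFin M).card = 0 by omega, zero_mul, zero_add] at h1
  have htop : commutator (derivedIn M) = ⊤ := Subgroup.index_eq_one.1 h1.symm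
  haveI : Group.IsSolvable M := S.side.minimal.2.2.2 M S.side.coatom.1
  have hne : derivedIn M ≠ ⊥ := fun e => S.side.typeP.selfNormalizing.2.1 (eq_bot_iff.2 fun x hx => by
    have hxd : (⟨x, sup_le_of_typeP S.side.typeP (Subgroup.mem_sup_right hx)⟩ : M) ∈ derivedIn M :=
      mem_derivedIn.2 (W₂_le_derived S.side.typeP hx)
    rw [e, Subgroup.mem_bot] at hxd
    exact Subgroup.mem_bot.2 (congrArg Subtype.val hxd))
  haveI := (Subgroup.nontrivial_iff_ne_bot _).2 hne
  exact (Group.IsSolvable.commutator_lt_top_of_nontrivial (derivedIn M)).ne htop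

theorem two_le_card (S : VSide M W₁ W₂ μ δ χ) : 2 ≤ (linFin M).card := by
  obtain ⟨ζ, hζ⟩ := linFin_nonempty S
  exact Finset.one_lt_card.2 ⟨_, (lin_conj S hζ).1, ζ, hζ, (lin_conj S hζ).2⟩

theorem lin_diff_supp (S : VSide M W₁ W₂ μ δ χ) {a b : M → ℂ} (ha : a ∈ linFin M) (hb : b ∈ linFin M) :
    ∀ x : M, (x : G) ∉ Cfsg.typeA0 M → (a - b) x = 0 :=
  S.supp (fun x hx => by simp [lin_off ha hx, lin_off hb hx]) (by simp [lin_degree S ha, lin_degree S hb])

theorem phi_supp (S : VSide M W₁ W₂ μ δ χ) {ζ : M → ℂ} (hζ : ζ ∈ linFin M) :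
    ∀ x : M, (x : G) ∉ Cfsg.typeA0 M → (psi0 M - ζ) x = 0 :=
  S.supp (fun x hx => by
    simp only [Pi.sub_apply, lin_off hζ hx, sub_zero, psi0_eq S, Finset.sum_apply, S.side.grid.sum_off _ x hx])
    (by simp [psi0_apply S (one_mem _), lin_degree S hζ])

/-- The images of the family. -/
structure IsLinFamily (f : (M → ℂ) → (G → ℂ)) : Prop where
  irr : ∀ a ∈ linFin M, IsIrrCharacter G (f a) ∨ IsIrrCharacter G (-f a)
  orth : ∀ a ∈ linFin M, ∀ b ∈ linFin M, classInner (f a) (f b) = if a = b then 1 else 0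
  diff : ∀ a ∈ linFin M, ∀ b ∈ linFin M, tau M (a - b) = f a - f b
  deg : ∀ a ∈ linFin M, ∀ b ∈ linFin M, f a 1 = f b 1

theorem VSide.tau_one (S : VSide M W₁ W₂ μ δ χ) {α : M → ℂ} : tau M α 1 = 0 := by
  refine dadeIsometry_eq_zero fun a ha x u hu e => ?_
  rw [mul_one, mul_inv_cancel] at e
  have hu' : u = ((a : G))⁻¹ := by rw [eq_inv_iff_mul_eq_one]; exact (mul_eq_one_comm.1 e.symm)
  have h1 : (a : G) ∈ Cfsg.supportR M (a : G) := by simpa [hu'] using hu
  have h2 : (a : G) ∈ Cfsg.supportR M (a : G) ⊓ M := ⟨h1, a.2⟩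
  have h3 := S.side.dade.inf_eq_bot (a : G) ha
  refine S.side.dade.one_not_mem ?_
  have : (a : G) = 1 := by
    refine Subgroup.mem_bot.1 (h3.le ?_)
    first
      | exact h2
      | exact ⟨h1, Subgroup.mem_inf.2 ⟨a.2, Subgroup.mem_centralizer_singleton_iff.2 rfl⟩⟩
  rwa [← this]

theorem exists_linFamily (S : VSide M W₁ W₂ μ δ χ) : ∃ f, IsLinFamily (M := M) f := by
  classical
  have hmem : ∀ α ∈ zspan (↑(linFin M) : Set (M → ℂ)),
      IsClassFunction M α ∧ IsGeneralizedCharacter M α ∧ ∀ x, x ∉ derivedIn M → α x = 0 := by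
    intro α hα
    refine Submodule.span_induction (fun a ha => ?_) ?_ (fun a b _ _ ha hb => ?_) (fun z a _ ha => ?_) hα
    · exact ⟨(lin_irr S ha).isClassFunction, (lin_irr S ha).isCharacter.isGeneralized, fun x hx => lin_off ha hx⟩
    · exact ⟨fun _ _ => rfl, isGeneralizedCharacter_zero, fun _ _ => rfl⟩
    · exact ⟨isClassFunction_add ha.1 hb.1, ha.2.1.add hb.2.1, fun x hx => by simp [ha.2.2 x hx, hb.2.2 x hx]⟩
    · rw [← Int.cast_smul_eq_zsmul ℂ]
      exact ⟨fun x y => by simp [ha.1 x y], ha.2.1.intCast_smul z, fun x hx => by simp [ha.2.2 x hx]⟩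
  have hsupp : ∀ α ∈ zspanOn (↑(linFin M) : Set (M → ℂ)) {1}ᶜ, ∀ x : M, (x : G) ∉ Cfsg.typeA0 M → α x = 0 :=
    fun α hα => S.supp (hmem α hα.1).2.2 (mem_zspanOn_one.1 hα).2
  have hτ : IsLinearIsometryOn (zspanOn (↑(linFin M) : Set (M → ℂ)) {1}ᶜ) (tau M) :=
    ⟨fun α _ β _ => tau_add α β, fun α _ n => tau_zsmul n α, fun α hα β hβ =>
      classInner_dadeIsometry_dadeIsometry S.side.dade (hmem α hα.1).1 (hsupp α hα) (hmem β hβ.1).1,
      fun α hα => isGeneralizedCharacter_dadeIsometry S.side.dade (hmem α hα.1).2.1 (hsupp α hα)⟩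
  obtain ⟨a, ha, b, hb, hab⟩ := Finset.one_lt_card.1 (two_le_card S)
  obtain ⟨-, τ₁, hτ₁, hagree⟩ := coherent_of_equal_degree (linFin M) (fun φ hφ => lin_irr S hφ) ⟨a, ha, b, hb, hab⟩
    (fun φ hφ ψ hψ => by rw [lin_degree S hφ, lin_degree S hψ]) hτ (fun α _ => S.tau_one)
  have hd : ∀ a ∈ linFin M, ∀ b ∈ linFin M, tau M (a - b) = τ₁ a - τ₁ b := fun a ha b hb => by
    rw [← hagree _ (mem_zspanOn_one.2 ⟨zspan_sub (mem_zspan_self ha) (mem_zspan_self hb),
      by simp [lin_degree S ha, lin_degree S hb]⟩), hτ₁.map_sub' (mem_zspan_self ha) (mem_zspan_self hb) (zspan_intCast_smul (mem_zspan_self hb) (-1) |> fun h => by simpa using h)]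
  have ho : ∀ a ∈ linFin M, ∀ b ∈ linFin M, classInner (τ₁ a) (τ₁ b) = if a = b then 1 else 0 :=
    fun a ha b hb => by
      rw [hτ₁.2.2.1 _ (mem_zspan_self ha) _ (mem_zspan_self hb), classInner_irr (lin_irr S ha) (lin_irr S hb)]
  refine ⟨τ₁, fun a ha => ?_, ho, hd, fun a ha b hb => ?_⟩
  · obtain ⟨ε, ν, hε, hν⟩ := exists_signed_irr_of_norm_one (hτ₁.2.2.2 _ (mem_zspan_self ha))
      (by rw [ho a ha a ha, if_pos rfl])
    rcases hε with rfl | rfl
    · exact Or.inl (by rw [hν]; simpa using ν.2)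
    · exact Or.inr (by rw [hν]; simpa using ν.2)
  · have h := congrFun (hd a ha b hb) 1
    rw [S.tau_one, Pi.sub_apply] at h
    exact sub_eq_zero.1 h.symm

namespace IsLinFamily

variable {f : (M → ℂ) → (G → ℂ)}

theorem gen (hf : IsLinFamily (M := M) f) {a : M → ℂ} (ha : a ∈ linFin M) : IsGeneralizedCharacter G (f a) := by
  rcases hf.irr a ha with h | h
  · exact h.isCharacter.isGeneralized
  · simpa using h.isCharacter.isGeneralized.neg

theorem classFun (hf : IsLinFamily (M := M) f) {a : M → ℂ} (ha : a ∈ linFin M) : IsClassFunction G (f a) := by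
  rcases hf.irr a ha with h | h
  · exact h.isClassFunction
  · intro x y
    simpa using h.isClassFunction x y

/-- The members are orthogonal to the cyclic TI family. -/
theorem orth_eta (hf : IsLinFamily (M := M) f) (S : VSide M W₁ W₂ μ δ χ) {a : M → ℂ} (ha : a ∈ linFin M)
    (i : Row W₁ W₂) (j : Col W₁ W₂) : classInner (f a) (eta χ i j) = 0 := by
  obtain ⟨hb, hne⟩ := lin_conj S ha
  refine orth_constituent S.side.odd S.side.typeP.selfNormalizing S.side.family (hf.gen ha) (hf.gen hb)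
    (hf.classFun ha) (hf.classFun hb) (by rw [hf.orth a ha a ha, if_pos rfl])
    (by rw [hf.orth _ hb _ hb, if_pos rfl]) (by rw [hf.orth a ha _ hb, if_neg hne.symm]) (hf.irr a ha) ?_ i j
  intro w h1 h2
  have hv : tau M (a - conjFun a) (w : G) = 0 := by
    rw [S.tau_apply_V (fun x y => by
      simp [(lin_irr S ha).isClassFunction x y, (lin_irr S hb).isClassFunction x y]) w h1 h2]
    simp [lin_off ha (S.not_derived h2), lin_off hb (S.not_derived h2)]
  rw [hf.diff a ha _ hb, Pi.sub_apply, sub_eq_zero] at hv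
  exact hv

theorem orth_one (hf : IsLinFamily (M := M) f) (S : VSide M W₁ W₂ μ δ χ) {a : M → ℂ} (ha : a ∈ linFin M) :
    classInner (f a) (fun _ => 1) = 0 := by
  rw [← eta_zero S.side.family]; exact hf.orth_eta S ha _ _

end IsLinFamily

end Cfsg.Lib.OddOrder.NoTypeV
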