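import Mathlib
import Cfsg.Agent.Lib.Coprime.Action
import Cfsg.Agent.Lib.OddOrder.SideData

/-!
An abelian group acting coprimely without fixed points: the product of the orders of the centralizers, and
the orbits of an operator on an abelian group of rank two.
-/

set_option autoImplicit false
set_option linter.style.haveILetI false

namespace Cfsg.Lib.OddOrder.NoTypeV

open Subgroup
open scoped commutatorElement

universe u

section Prod

variable {G : Type u} [Group G] [Finite G]

/-- If no subgroup of `U` with fixed points on `H` contains more than `b / m` of the elements of `s`, then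
the product of the orders of their centralizers is at most `|H| ^ (b / m)`. -/
theorem centralizer_prod {U : Subgroup G} (hab : ∀ a ∈ U, ∀ b ∈ U, a * b = b * a) (s : Finset G)
    (hs : ∀ u ∈ s, u ∈ U) (b m : ℕ) :
    ∀ (H : Subgroup G), U ≤ normalizer (H : Set G) → Group.IsSolvable H → (Nat.card U).Coprime (Nat.card H) →
      H ⊓ centralizer (U : Set G) = ⊥ →
      (∀ A : Subgroup G, A ≤ U → H ⊓ centralizer (A : Set G) ≠ ⊥ → ∀ t ⊆ s, (∀ u ∈ t, u ∈ A) → t.card * m ≤ b) →
      (∏ u ∈ s, Nat.card ↥(H ⊓ centralizer ({u} : Set G))) ^ m ≤ Nat.card H ^ b := by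
  classical
  intro H
  induction hn : Nat.card H using Nat.strong_induction_on generalizing H with
  | _ n ih =>
  subst hn
  intro hUH hsol hcop hfix hb
  by_cases hH : H = ⊥
  · subst hH
    simp
  haveI := hsol
  have hder : ⁅H, H⁆ < H := by
    haveI := (nontrivial_iff_ne_bot H).2 hH
    have h := Group.IsSolvable.commutator_lt_top_of_nontrivial H
    refine lt_of_le_of_ne (Cfsg.Lib.Coprime.commutator_le_of_le_normalizer Subgroup.le_normalizer) fun e => h.ne ?_
    apply map_injective H.subtype_injective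
    rw [map_subtype_commutator, e, ← MonoidHom.range_eq_map, range_subtype]
  let T : Set (Subgroup G) := {Y | ⁅H, H⁆ ≤ Y ∧ Y < H ∧ U ≤ normalizer (Y : Set G)}
  obtain ⟨K, hK⟩ := (Set.toFinite T).exists_maximal ⟨⁅H, H⁆, le_rfl, hder,
    hUH.trans (Cfsg.Lib.Local.FreeAction.normalizer_le_normalizer_commutator H)⟩
  obtain ⟨hKd, hKH, hUK⟩ := hK.1
  have hHK : H ≤ normalizer (K : Set G) := fun g hg => Cfsg.Lib.OddOrder.mem_normalizer_of_forall fun x hx => by
    rw [show g * x * g⁻¹ = ⁅g, x⁆ * x by simp [commutatorElement_def, mul_assoc]]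
    exact mul_mem (hKd (commutator_mem_commutator hg (hKH.le hx))) hx
  set A : Subgroup G := U ⊓ Cfsg.Lib.OddOrder.chiefKer H K with hA
  have hstep : ∀ u ∈ s, H ⊓ centralizer ({u} : Set G) ≤ K ∨ u ∈ A := by
    intro u hu
    refine or_iff_not_imp_left.2 fun hnle => ⟨hs u hu, ⟨hUH (hs u hu), hUK (hs u hu)⟩, fun h hh => ?_⟩
    have hUC : U ≤ normalizer ((H ⊓ centralizer ({u} : Set G) : Subgroup G) : Set G) := fun v hv =>
      Cfsg.Lib.OddOrder.mem_normalizer_of_forall fun c hc => ⟨(mem_normalizer_iff.1 (hUH hv) c).1 hc.1,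
        mem_centralizer_singleton_iff.2 (by
          have e1 := mem_centralizer_singleton_iff.1 hc.2
          have e2 := hab v hv u (hs u hu)
          have e3 : v⁻¹ * u = u * v⁻¹ := hab _ (inv_mem hv) u (hs u hu)
          calc v * c * v⁻¹ * u = v * (c * (v⁻¹ * u)) := by group
            _ = v * ((c * u) * v⁻¹) := by rw [e3]; group
            _ = (v * u) * c * v⁻¹ := by rw [e1]; group
            _ = u * (v * c * v⁻¹) := by rw [e2]; group)⟩
    have hY : K ⊔ (H ⊓ centralizer ({u} : Set G)) = H := by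
      rcases eq_or_ne (K ⊔ (H ⊓ centralizer ({u} : Set G))) H with e | e
      · exact e
      exfalso
      refine hnle (le_trans le_sup_right (hK.2 (show _ ∈ T from ⟨hKd.trans le_sup_left,
        lt_of_le_of_ne (sup_le hKH.le inf_le_left) e, ?_⟩) le_sup_left))
      exact fun v hv => Cfsg.Lib.OddOrder.mem_normalizer_of_forall fun x hx => by
        obtain ⟨k, hk, c, hc, rfl⟩ := Cfsg.Lib.Coprime.exists_mul_of_mem_sup (inf_le_left.trans hHK) hx
        rw [show v * (k * c) * v⁻¹ = v * k * v⁻¹ * (v * c * v⁻¹) by group]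
        exact mul_mem (mem_sup_left ((mem_normalizer_iff.1 (hUK hv) k).1 hk))
          (mem_sup_right ((mem_normalizer_iff.1 (hUC hv) c).1 hc))
    obtain ⟨k, hk, c, hc, rfl⟩ := Cfsg.Lib.Coprime.exists_mul_of_mem_sup
      (inf_le_left.trans hHK) (hY.ge hh)
    have e1 : u * c = c * u := (mem_centralizer_singleton_iff.1 hc.2).symm
    have e2 : ⁅u, k * c⁆ = u * k * u⁻¹ * k⁻¹ := by
      rw [commutatorElement_def, show u * (k * c) * u⁻¹ * (k * c)⁻¹ = u * k * (c * u⁻¹) * c⁻¹ * k⁻¹ by group,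
        show c * u⁻¹ = u⁻¹ * c from (Commute.inv_right (e1.symm : Commute c u)).eq]
      group
    rw [e2]
    exact mul_mem ((mem_normalizer_iff.1 (hUK (hs u hu)) k).1 hk) (inv_mem hk)
  set t := s.filter fun u => u ∈ A with ht
  have hbA : t.card * m ≤ b := by
    rcases t.eq_empty_or_nonempty with e | ⟨u, hu⟩
    · simp [e]
    refine hb A inf_le_left (fun hbot => ?_) t (Finset.filter_subset _ _) fun v hv => (Finset.mem_filter.1 hv).2
    obtain ⟨x, hx, hxK⟩ := SetLike.exists_of_lt hKH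
    obtain ⟨n, hn, c, hc, hxe⟩ := Cfsg.Lib.Coprime.exists_mul_centralizer_of_commutator_mem
      (inf_le_left.trans hUH) (hcop.coprime_dvd_left (card_dvd_of_le inf_le_left)) (Or.inr hsol) hKH.le
      (inf_le_left.trans hUK) hx fun v hv => by
        rw [← commutatorElement_inv]
        exact inv_mem ((Cfsg.Lib.OddOrder.mem_chiefKer.1 (mem_inf.1 hv).2).2 x hx)
    rw [hbot, mem_bot] at hc
    exact hxK (by rw [hxe, hc, mul_one]; exact hn)
  have hKfix : K ⊓ centralizer (U : Set G) = ⊥ := eq_bot_iff.2 ((inf_le_inf_right _ hKH.le).trans hfix.le)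
  have hlt : Nat.card K < Nat.card H :=
    Nat.lt_of_not_le fun hle => hKH.ne (eq_of_le_of_card_ge hKH.le hle)
  have hIH := ih _ hlt K rfl hUK (Cfsg.Lib.Coprime.isSolvable_of_le hKH.le hsol)
    (hcop.coprime_dvd_right (card_dvd_of_le hKH.le)) hKfix fun B hB hne t' ht' ht'B =>
      hb B hB (fun e => hne (eq_bot_iff.2 ((inf_le_inf_right _ hKH.le).trans e.le))) t' ht' ht'B
  have hpt : ∀ u ∈ s, Nat.card ↥(H ⊓ centralizer ({u} : Set G)) ≤
      Nat.card ↥(K ⊓ centralizer ({u} : Set G)) * (if u ∈ A then K.relIndex H else 1) := by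
    intro u hu
    split_ifs with hA'
    · rw [← Cfsg.Lib.Core.card_mul_relIndex (show K ⊓ centralizer ({u} : Set G) ≤ H ⊓ centralizer ({u} : Set G) from
        inf_le_inf_right _ hKH.le)]
      refine Nat.mul_le_mul_left _ ?_
      have : (K ⊓ centralizer ({u} : Set G)).relIndex (H ⊓ centralizer ({u} : Set G)) =
          K.relIndex (H ⊓ centralizer ({u} : Set G)) := by
        rw [show K ⊓ centralizer ({u} : Set G) = K ⊓ (H ⊓ centralizer ({u} : Set G)) by
          rw [← inf_assoc, inf_eq_left.2 hKH.le], inf_relIndex_right]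
      rw [this]
      refine relIndex_le_of_le_right inf_le_left ?_
      intro h0
      have := Cfsg.Lib.Core.card_mul_relIndex hKH.le
      rw [h0, mul_zero] at this
      exact Nat.card_pos.ne' this.symm
    · rw [mul_one]
      exact le_of_eq (congrArg (fun Y : Subgroup G => Nat.card Y) (le_antisymm (le_inf ((hstep u hu).resolve_right hA')
        inf_le_right) (inf_le_inf_right _ hKH.le)))
  calc (∏ u ∈ s, Nat.card ↥(H ⊓ centralizer ({u} : Set G))) ^ m
      ≤ (∏ u ∈ s, Nat.card ↥(K ⊓ centralizer ({u} : Set G)) * (if u ∈ A then K.relIndex H else 1)) ^ m :=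
        Nat.pow_le_pow_left (Finset.prod_le_prod' hpt) m
    _ = (∏ u ∈ s, Nat.card ↥(K ⊓ centralizer ({u} : Set G))) ^ m * K.relIndex H ^ (t.card * m) := by
        rw [Finset.prod_mul_distrib, mul_pow, ← Finset.prod_filter, ← ht, Finset.prod_const, ← pow_mul]
    _ ≤ Nat.card K ^ b * K.relIndex H ^ b := by
        refine Nat.mul_le_mul hIH (Nat.pow_le_pow_right ?_ hbA)
        exact Nat.pos_of_ne_zero fun h0 => by
          have := Cfsg.Lib.Core.card_mul_relIndex hKH.le
          rw [h0, mul_zero] at this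
          exact Nat.card_pos.ne' this.symm
    _ = Nat.card H ^ b := by rw [← mul_pow, Cfsg.Lib.Core.card_mul_relIndex hKH.le]

end Prod

section Rank

variable {V : Type u} [CommGroup V] [Finite V] {t : ℕ}

/-- An abelian `t`-group with at most `t ^ 2` elements killed by `t` has two generators. -/
theorem exists_two_generators (ht : t.Prime) (hV : IsPGroup t V)
    (hrank : Nat.card (powMonoidHom t : V →* V).ker ≤ t ^ 2) : ∃ a b : V, closure {a, b} = ⊤ := by
  haveI : Fact t.Prime := ⟨ht⟩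
  set R := (powMonoidHom t : V →* V).range
  have hidx : R.index ≤ t ^ 2 := by
    refine le_of_eq_of_le ?_ hrank
    refine Nat.eq_of_mul_eq_mul_left (Nat.card_pos (α := R)) ?_
    rw [card_mul_index, ← card_mul_index (powMonoidHom t : V →* V).ker, index_ker, mul_comm]
  have step : ∀ S : Subgroup V, R ≤ S → ∀ x : V, x ∉ S → t * (S ⊔ zpowers x).index ≤ S.index := by
    intro S _ x hx
    have h1 := relIndex_mul_index (show S ≤ S ⊔ zpowers x from le_sup_left)
    obtain ⟨k, hk⟩ := IsPGroup.index hV S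
    have h2 : S.relIndex (S ⊔ zpowers x) ∣ t ^ k := hk ▸ Dvd.intro _ h1
    obtain ⟨i, -, hi⟩ := (Nat.dvd_prime_pow ht).1 h2
    have hi0 : i ≠ 0 := by
      rintro rfl
      rw [pow_zero, relIndex_eq_one] at hi
      exact hx (hi (mem_sup_right (mem_zpowers x)))
    rw [← h1]
    exact Nat.mul_le_mul_right _ (hi ▸ Nat.le_self_pow hi0 t)
  obtain ⟨a, b, hab⟩ : ∃ a b : V, R ⊔ closure {a, b} = ⊤ := by
    by_cases hR : R = ⊤
    · exact ⟨1, 1, by rw [hR, top_sup_eq]⟩
    obtain ⟨a, -, ha⟩ := SetLike.exists_of_lt (lt_top_iff_ne_top.2 hR)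
    have hz : ∀ y z : V, zpowers y ⊔ zpowers z = closure {y, z} := fun y z => by
      rw [Set.insert_eq, Subgroup.closure_union, zpowers_eq_closure, zpowers_eq_closure]
    by_cases hS : R ⊔ zpowers a = ⊤
    · exact ⟨a, a, eq_top_iff.2 (hS.ge.trans (sup_le_sup_left (le_sup_left.trans (hz a a).le) _))⟩
    obtain ⟨b, -, hb⟩ := SetLike.exists_of_lt (lt_top_iff_ne_top.2 hS)
    refine ⟨a, b, ?_⟩
    rw [← hz, ← sup_assoc]
    refine index_eq_one.1 ?_
    have h1 := step R le_rfl a ha
    have h2 := step (R ⊔ zpowers a) le_sup_left b hb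
    have h3 : t * (t * (R ⊔ zpowers a ⊔ zpowers b).index) ≤ t ^ 2 :=
      (Nat.mul_le_mul_left t h2).trans (h1.trans hidx)
    have h4 : 0 < (R ⊔ zpowers a ⊔ zpowers b).index := Nat.pos_of_ne_zero index_ne_zero_of_finite
    rw [← mul_assoc, sq] at h3
    have h5 : (R ⊔ zpowers a ⊔ zpowers b).index ≤ 1 :=
      Nat.le_of_mul_le_mul_left (h3.trans (mul_one _).ge) (Nat.mul_pos ht.pos ht.pos)
    omega
  refine ⟨a, b, ?_⟩
  set S := closure {a, b}
  have hk : ∀ k : ℕ, ∀ m : V, ∃ s ∈ S, ∃ r : V, m = s * r ^ (t ^ k) := by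
    intro k
    induction k with
    | zero => exact fun m => ⟨1, one_mem _, m, by simp⟩
    | succ k ih =>
      intro m
      obtain ⟨_, ⟨r, rfl⟩, s, hs, rfl⟩ := Subgroup.mem_sup.1 (hab.ge (mem_top m))
      obtain ⟨s', hs', r', rfl⟩ := ih r
      refine ⟨s * s' ^ t, mul_mem hs (pow_mem hs' t), r', ?_⟩
      simp only [powMonoidHom_apply, mul_pow, ← pow_mul, pow_succ]
      ac_rfl
  refine eq_top_iff.2 fun m _ => ?_
  obtain ⟨n, hn⟩ := IsPGroup.iff_card.1 hV
  obtain ⟨s, hs, r, rfl⟩ := hk n m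
  rw [← hn, pow_card_eq_one', mul_one]
  exact hs

/-- The subgroup of an element and its image is invariant under the automorphism. -/
theorem sq_mem_closure (ht : t.Prime) (hV : IsPGroup t V)
    (hrank : Nat.card (powMonoidHom t : V →* V).ker ≤ t ^ 2) (φ : MulAut V) (u : V) :
    φ (φ u) ∈ closure {u, φ u} := by
  obtain ⟨a, b, hab⟩ := exists_two_generators ht hV hrank
  obtain ⟨α, β, ha⟩ := mem_closure_pair.1 (hab.ge (mem_top (φ a)))
  obtain ⟨γ, ε, hb⟩ := mem_closure_pair.1 (hab.ge (mem_top (φ b)))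
  obtain ⟨i, j, hu⟩ := mem_closure_pair.1 (hab.ge (mem_top u))
  rw [mem_closure_pair]
  refine ⟨β * γ - α * ε, α + ε, ?_⟩
  subst hu
  simp only [map_mul, map_zpow, ← ha, ← hb, mul_zpow, ← zpow_mul]
  rw [show ∀ A B C D E F : V, A * B * (C * D * (E * F)) = (A * (C * E)) * (B * (D * F)) from fun A B C D E F => by
      ac_rfl,
    show ∀ A B C D E F G H : V, A * B * (C * D) * (E * F * (G * H)) = (A * (C * (E * G))) * (B * (D * (F * H))) from
      fun A B C D E F G H => by ac_rfl]
  simp only [← zpow_add]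
  congr 2 <;> ring

end Rank

section Log

/-- A sum is at least `γ` times the number of terms if the product is at least `γ` to that power. -/
theorem sum_ge_of_prod_ge {ι : Type*} (s : Finset ι) (x : ι → ℝ) (hx : ∀ i ∈ s, 0 < x i) {γ : ℝ} (hγ : 0 < γ)
    (h : γ ^ s.card ≤ ∏ i ∈ s, x i) : γ * s.card ≤ ∑ i ∈ s, x i := by
  have h1 : (s.card : ℝ) * Real.log γ ≤ ∑ i ∈ s, Real.log (x i) := by
    rw [← Real.log_prod fun i hi => (hx i hi).ne', ← Real.log_pow]
    exact Real.log_le_log (pow_pos hγ _) h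
  have h2 : ∀ i ∈ s, Real.log (x i) - Real.log γ ≤ x i / γ - 1 := fun i hi => by
    rw [← Real.log_div (hx i hi).ne' hγ.ne']
    exact Real.log_le_sub_one_of_pos (div_pos (hx i hi) hγ)
  have h3 := Finset.sum_le_sum h2
  simp only [Finset.sum_sub_distrib, Finset.sum_const, nsmul_eq_mul, mul_one] at h3
  have h4 : (s.card : ℝ) ≤ (∑ i ∈ s, x i) / γ := by rw [Finset.sum_div]; linarith
  rw [le_div_iff₀ hγ] at h4
  linarith

end Log

end Cfsg.Lib.OddOrder.NoTypeV
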