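import Cfsg.Agent.Lib.OddOrder.NoTypeV.Setup
import Cfsg.Agent.Lib.OddOrder.NoTypeV.PartnerDef
import Cfsg.Agent.Lib.OddOrder.TIMean
import Cfsg.Agent.Lib.OddOrder.PairData
import Cfsg.Agent.Lib.Local.Sigma.P2Core
import Cfsg.Agent.Lib.OddOrder12.Orbit
import Cfsg.Agent.S1545

/-!
The partner of a maximal subgroup of type V and the measure of the quiet set.
-/

set_option autoImplicit false
set_option linter.unusedSectionVars false
set_option linter.style.haveILetI false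

namespace Cfsg.Lib.OddOrder.NoTypeV

open Subgroup Cfsg.Lib.Local Cfsg.Lib.Local.Sigma Cfsg.Lib.Char Cfsg.Lib.Char.FT Cfsg.Lib.OddOrder
open scoped commutatorElement

universe u

variable {G : Type u} [Group G]

/-- What the count needs from the partner. -/
structure PartnerData (W₁ W₂ H U : Subgroup G) : Prop where
  one_lt : 1 < Nat.card W₁
  comm : ∀ a ∈ U, ∀ b ∈ U, a * b = b * a
  ne : U ≠ ⊥
  normal : U ≤ normalizer (H : Set G)
  normalW : W₂ ≤ normalizer (H : Set G)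
  normalU : W₂ ≤ normalizer (U : Set G)
  fpf : ∀ w ∈ W₂, w ≠ 1 → ∀ u ∈ U, w * u = u * w → u = 1
  solvable : Group.IsSolvable H
  coprimeU : (Nat.card H).Coprime (Nat.card U)
  coprimeW : (Nat.card H).Coprime (Nat.card W₂)
  fix : H ⊓ centralizer (U : Set G) = ⊥
  card : Nat.card H = Nat.card W₁ ^ Nat.card W₂
  fixW : Nat.card ↥(H ⊓ centralizer (W₂ : Set G)) = Nat.card W₁
  rank : ∀ t : ℕ, t.Prime → Nat.card {u : U // u ^ t = 1} ≤ t ^ 2
  free : ∀ u ∈ U, ∀ t : ℕ, t.Prime → t ∣ Nat.card U →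
    t ∣ Nat.card ↥(H ⊓ centralizer ({u} : Set G)) - 1

/-- The facts about the partner itself. -/
structure PartnerGroup (T W₁ W₂ H U : Subgroup G) : Prop where
  coatom : IsCoatom T
  core : H = Cfsg.sigmaCore T
  decomp : Cfsg.IsSigmaDecomposition T W₂ U
  typeP : Cfsg.IsTypePWith T W₂ U W₁
  derived : (⁅T, T⁆ : Subgroup G) = U ⊔ H
  ti : ∀ x ∈ H, x ≠ 1 → centralizer ({x} : Set G) ≤ T

variable [Finite G] {M W₁ W₂ : Subgroup G}

theorem exists_partner (hG : Cfsg.IsMinSimpleOddOrder G) (hM : IsCoatom M)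
    (hP : Cfsg.IsTypePWith M W₁ ⊥ W₂) (hc : Cfsg.sigmaCore M = ⁅M, M⁆) :
    ∃ T H U : Subgroup G, PartnerGroup T W₁ W₂ H U ∧ PartnerData W₁ W₂ H U := by
  obtain ⟨hall, hks⟩ := hall_of_typeP hG hM hP
  have hK1 : W₁ ≠ ⊥ := hP.W₁_ne
  obtain ⟨U₀, hU₀⟩ := exists_decomp hG hM hall
  have hU₀1 : U₀ = ⊥ := by
    refine eq_bot_of_card_eq _ ?_
    have e1 := decomp_card hU₀
    rw [card_sup_sigmaCore hU₀, hc] at e1
    have e2 := card_of_isComplIn hP.W₁_compl
    have hpos : 0 < Nat.card W₁ * Nat.card ↥(⁅M, M⁆) := Nat.mul_pos Nat.card_pos Nat.card_pos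
    refine Nat.eq_of_mul_eq_mul_right hpos ?_
    rw [one_mul, e1, ← e2, mul_comm]
  obtain ⟨T, hT, -, -⟩ := exists_pair hG hM hall hK1
  have hW2 : W₂ ≠ ⊥ := hP.selfNormalizing.2.1
  have hThall := hT.hall
  have hTeq := hT.eq
  rw [hks] at hThall hTeq
  obtain ⟨U, hTU⟩ := exists_decomp hG hT.coatom hThall
  have h13 := (Cfsg.Agent.S1369.result hG M hM W₁ U₀ hU₀ hK1 T hT.coatom hT.eq hT.hall).1
  have hU1 : U ≠ ⊥ := h13.elim (fun e => absurd hU₀1 e) fun e => e U (by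
    rw [show Cfsg.sigmaCore M ⊓ centralizer (W₁ : Set G) = W₂ from hks]; exact hTU)
  have hTF := fittingHallOf_eq_of_ne_bot hG hT.coatom hTU hU1
  have hTP : Cfsg.IsTypePWith T W₂ U W₁ := by
    have h := typeP_of_compl hG hT.coatom hTU hW2 (compl_of_eq hG hT.coatom hTU hW2 hTF) hTU.normal
    rwa [← hTeq] at h
  set H := Cfsg.sigmaCore T with hH
  have hder : (⁅T, T⁆ : Subgroup G) = U ⊔ H := derived_eq_decomp hG hT.coatom hTU hW2
  have hTIc : ∀ x ∈ H, x ≠ 1 → centralizer ({x} : Set G) ≤ T := fun x hx hx1 =>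
    centralizer_le_of_fitting_ti hG hT.coatom hTP (P2.fitting_ti hG hT.coatom hTU hW2 hU1) (hTF.ge hx) hx1
  haveI := decomp_abelian hG hT.coatom hTU hW2
  have hcomm : ∀ a ∈ U, ∀ b ∈ U, a * b = b * a := fun a ha b hb =>
    congrArg Subtype.val (mul_comm' (⟨a, ha⟩ : U) ⟨b, hb⟩)
  have hUH : U ≤ normalizer (H : Set G) := hTU.compl.1.trans (le_normalizer_sigmaCore T)
  have hWH : W₂ ≤ normalizer (H : Set G) := hThall.1.trans (le_normalizer_sigmaCore T)
  have hsol : Group.IsSolvable H :=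
    Cfsg.Lib.Coprime.isSolvable_of_le (sigmaCore_le T) (hG.2.2.2 T hT.coatom.1)
  have hUpr := decomp_hall hG hT.coatom hTU
  have hcopU : (Nat.card H).Coprime (Nat.card U) := Nat.coprime_of_dvd fun t ht h1 h2 =>
    (hUpr.2.1 t ht h2).2.2 (sigmaCore_isPiSub T t ht h1)
  have hcopW : (Nat.card H).Coprime (Nat.card W₂) := Nat.coprime_of_dvd fun t ht h1 h2 =>
    (hThall.2.1 t ht h2).2.2.1 (sigmaCore_isPiSub T t ht h1)
  have hcopUW : (Nat.card U).Coprime (Nat.card W₂) := Nat.coprime_of_dvd fun t ht h1 h2 =>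
    (hUpr.2.1 t ht h1).2.1 (hThall.2.1 t ht h2)
  obtain ⟨V₀, hV₀, hexp, hfree⟩ := exists_free_decomp hG hT.coatom hTU
  have hfree' : ∀ u ∈ U, ∀ t : ℕ, t.Prime → t ∣ Nat.card U →
      t ∣ Nat.card ↥(H ⊓ centralizer ({u} : Set G)) - 1 := by
    intro u hu t ht hd
    haveI : Fact t.Prime := ⟨ht⟩
    obtain ⟨a, ha⟩ := exists_prime_orderOf_dvd_card' (G := U) t hd
    have hdV : t ∣ Monoid.exponent V₀ := by
      rw [hexp, ← ha]; exact Monoid.order_dvd_exponent a
    obtain ⟨v, hv⟩ := exists_prime_orderOf_dvd_card' (G := V₀) t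
      (hdV.trans (Group.exponent_dvd_nat_card))
    have hv1 : (v : G) ≠ 1 := fun e => ht.ne_one (by
      rw [← hv, show v = 1 from Subtype.ext e, orderOf_one])
    have hvG : orderOf (v : G) = t := (orderOf_coe v).trans hv
    set C := H ⊓ centralizer ({u} : Set G) with hC
    have hvu : (v : G) * u = u * v := hcomm _ (hV₀ v.2) _ hu
    have hnorm : zpowers (v : G) ≤ normalizer (C : Set G) := by
      rw [zpowers_le]
      refine Cfsg.Lib.OddOrder.mem_normalizer_of_forall fun c hc => ⟨(mem_normalizer_iff.1 (hUH (hV₀ v.2)) c).1 hc.1, ?_⟩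
      refine mem_centralizer_singleton_iff.2 ?_
      have h1 : Commute c u := mem_centralizer_singleton_iff.1 hc.2
      have h2 : Commute (v : G) u := hvu
      exact ((h2.mul_left h1).mul_left h2.inv_left).eq
    have h := Cfsg.Lib.FT12.dvd_card_sub_one_of_stab C hnorm ⊥ fun m hm c hc hc1 => by
      rw [mem_bot]
      refine ⟨fun e => ?_, fun e => by rw [e]; group⟩
      by_contra hm1
      refine hc1 (mem_bot.1 ((hfree m (zpowers_le.2 v.2 hm) hm1).le ⟨hc.1, mem_centralizer_singleton_iff.2 ?_⟩))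
      exact (mul_inv_eq_iff_eq_mul.1 e).symm
    rwa [relIndex_bot_left, Nat.card_zpowers, hvG] at h
  have hfix : H ⊓ centralizer (U : Set G) = ⊥ := by
    obtain ⟨t, u, ht, hu, -, hu1, huo⟩ := exists_prime_elem hU1
    haveI : Fact t.Prime := ⟨ht⟩
    have hdV : t ∣ Monoid.exponent V₀ := by
      rw [hexp, ← huo, ← orderOf_mk u hu]; exact Monoid.order_dvd_exponent _
    obtain ⟨v, hv⟩ := exists_prime_orderOf_dvd_card' (G := V₀) t (hdV.trans (Group.exponent_dvd_nat_card))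
    have hv1 : (v : G) ≠ 1 := fun e => ht.ne_one (by
      rw [← hv, show v = 1 from Subtype.ext e, orderOf_one])
    exact le_bot_iff.1 ((inf_le_inf_left _ (centralizer_le (Set.singleton_subset_iff.2 (hV₀ v.2)))).trans
      (hfree v v.2 hv1).le)
  have hfpf : ∀ w ∈ W₂, w ≠ 1 → ∀ u ∈ U, w * u = u * w → u = 1 := fun w hw hw1 u hu e =>
    mem_bot.1 ((decomp_fixed_free hG hT.coatom hTU hw hw1).le ⟨hu, mem_centralizer_singleton_iff.2 e.symm⟩)
  have hfixW : H ⊓ centralizer (W₂ : Set G) = W₁ := hTeq.symm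
  have hcard : Nat.card H = Nat.card W₁ ^ Nat.card W₂ := by
    have hUW : U ⊓ W₂ = ⊥ := inf_eq_bot_of_coprime hcopUW
    have hcopUW' : (Nat.card H).Coprime (Nat.card ↥(U ⊔ W₂)) := by
      refine (Nat.Coprime.mul_right hcopU hcopW).coprime_dvd_right ?_
      exact card_sup_dvd hTU.normal
    have hsup : H ⊓ (U ⊔ W₂) = ⊥ := inf_eq_bot_of_coprime hcopUW'
    have h := Cfsg.Agent.S1545.result U W₂ H hU1 hW2 hUW
      (fun e he u hu => (mem_normalizer_iff.1 (hTU.normal he) u).1 hu) hfpf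
      (fun x hx y hy => (mem_normalizer_iff.1 (sup_le hUH hWH hx) y).1 hy) hsup hsol hcopUW'
    have hbot : H ⊓ centralizer ((U ⊔ W₂ : Subgroup G) : Set G) = ⊥ :=
      le_bot_iff.1 ((inf_le_inf_left _ (centralizer_le (show (U : Set G) ⊆ _ from
        SetLike.coe_subset_coe.2 le_sup_left))).trans hfix.le)
    rwa [hbot, hfix, hfixW, card_bot, one_pow, one_mul, mul_one] at h
  refine ⟨T, H, U, ⟨hT.coatom, rfl, hTU, hTP, hder, hTIc⟩, ⟨?_, hcomm, hU1, hUH, hWH, hTU.normal, hfpf, hsol,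
    hcopU, hcopW, hfix, hcard, by rw [hfixW], fun t ht => ?_, hfree'⟩⟩
  · exact Finite.one_lt_card_iff_nontrivial.2 ((nontrivial_iff_ne_bot W₁).2 hK1)
  · haveI : Fact t.Prime := ⟨ht⟩
    let A : Subgroup G :=
      { carrier := {u | u ∈ U ∧ u ^ t = 1}
        one_mem' := ⟨one_mem _, one_pow _⟩
        mul_mem' := fun {a b} ha hb => ⟨mul_mem ha.1 hb.1, by
          rw [(show Commute a b from hcomm a ha.1 b hb.1).mul_pow, ha.2, hb.2, one_mul]⟩
        inv_mem' := fun {a} ha => ⟨inv_mem ha.1, by rw [inv_pow, ha.2, inv_one]⟩ }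
    have hA : Nat.card {u : U // u ^ t = 1} = Nat.card A := Nat.card_congr
      { toFun := fun u => ⟨u.1, u.1.2, by simpa using congrArg Subtype.val u.2⟩
        invFun := fun a => ⟨⟨a.1, a.2.1⟩, Subtype.ext (by simpa using a.2.2)⟩
        left_inv := fun _ => rfl
        right_inv := fun _ => rfl }
    rw [hA]
    by_cases hd : t ∣ Nat.card U
    · have hnσ : t ∉ Cfsg.sigma T := (hUpr.2.1 t ht hd).2.2
      have hr : Cfsg.PRankLE t 2 T := by_contra fun h => hnσ (alpha_sub_sigma hG hT.coatom h)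
      have hAT : A ≤ T := fun x hx => hTU.compl.1 hx.1
      rw [← Nat.card_congr (subgroupOfEquivOfLe hAT).toEquiv]
      refine hr _ ⟨⟨fun x y => Subtype.ext (Subtype.ext (hcomm _ x.2.1 _ y.2.1))⟩⟩
        fun a ha => Subtype.ext (by simpa using ha.2)
    · have : A = ⊥ := eq_bot_iff.2 fun x hx => mem_bot.2 (by
        by_contra hx1
        refine hd ?_
        rw [← orderOf_eq_prime hx.2 hx1]
        exact Subgroup.orderOf_dvd_natCard _ hx.1)
      rw [this, card_bot]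
      exact Nat.one_le_pow _ _ ht.pos

end Cfsg.Lib.OddOrder.NoTypeV
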