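import Cfsg.Agent.Lib.OddOrder.NoTypeV.Family

/-!
The image `Φ` of `1_{M'}^M - ζ` and its coefficients.
-/

set_option autoImplicit false
set_option linter.unusedSectionVars false
set_option linter.style.haveILetI false

namespace Cfsg.Lib.OddOrder.NoTypeV

open Cfsg Cfsg.Lib.Char Cfsg.Lib.Char.FT Cfsg.Lib.Local.Sigma
open scoped commutatorElement ComplexConjugate Classical

universe u

variable {G : Type u} [Group G] [Fintype G] {M W₁ W₂ : Subgroup G} [Fintype M] [Fintype (Row W₁ W₂)]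
  {μ : Row W₁ W₂ → Col W₁ W₂ → M → ℂ} {δ : Col W₁ W₂ → ℤ} {χ : (↥(W₁ ⊔ W₂) →* ℂˣ) → (G → ℂ)}
  {f : (M → ℂ) → (G → ℂ)} {ζ : M → ℂ}

/-- `Φ`. -/
noncomputable def phi (M : Subgroup G) [Fintype M] (ζ : M → ℂ) : G → ℂ := tau M (psi0 M - ζ)

theorem psi0_classFun (S : VSide M W₁ W₂ μ δ χ) : IsClassFunction M (psi0 M) := isClassFunction_indFun _ _

theorem psi0_gen (S : VSide M W₁ W₂ μ δ χ) : IsGeneralizedCharacter M (psi0 M) := by
  haveI := Fintype.ofFinite (derivedIn M)
  exact (isCharacter_indFun (derivedIn M) (isIrrCharacter_one (G := derivedIn M)).isCharacter).isGeneralized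

theorem phi_src_classFun (S : VSide M W₁ W₂ μ δ χ) (hζ : ζ ∈ linFin M) : IsClassFunction M (psi0 M - ζ) :=
  fun x y => by simp [psi0_classFun S x y, (lin_irr S hζ).isClassFunction x y]

theorem phi_classFun (S : VSide M W₁ W₂ μ δ χ) (hζ : ζ ∈ linFin M) : IsClassFunction G (phi M ζ) :=
  isClassFunction_dadeIsometry S.side.dade (phi_src_classFun S hζ)

theorem phi_gen (S : VSide M W₁ W₂ μ δ χ) (hζ : ζ ∈ linFin M) : IsGeneralizedCharacter G (phi M ζ) :=
  isGeneralizedCharacter_dadeIsometry S.side.dade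
    ((psi0_gen S).sub (lin_irr S hζ).isCharacter.isGeneralized) (phi_supp S hζ)

theorem phi_norm (S : VSide M W₁ W₂ μ δ χ) (hζ : ζ ∈ linFin M) :
    classInner (phi M ζ) (phi M ζ) = ((Nat.card W₁ + 1 : ℕ) : ℤ) := by
  rw [phi, classInner_dadeIsometry_dadeIsometry S.side.dade (phi_src_classFun S hζ) (phi_supp S hζ)
    (phi_src_classFun S hζ), classInner_sub_left, classInner_sub_right, classInner_sub_right, psi0_norm S,
    lin_inner_psi0 S hζ, classInner_symm_zero (lin_inner_psi0 S hζ), classInner_irr_self (lin_irr S hζ)]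
  push_cast
  ring

theorem phi_V (S : VSide M W₁ W₂ μ δ χ) (hζ : ζ ∈ linFin M) (w : ↥(W₁ ⊔ W₂)) (h₁ : (w : G) ∉ W₁)
    (h₂ : (w : G) ∉ W₂) : phi M ζ (w : G) = 0 := by
  rw [phi, S.tau_apply_V (phi_src_classFun S hζ) w h₁ h₂, Pi.sub_apply, lin_off hζ (S.not_derived h₂), sub_zero,
    psi0_eq S, Finset.sum_apply, S.side.grid.sum_off _ _ (S.not_derived h₂)]

theorem tau_inner_one (S : VSide M W₁ W₂ μ δ χ) {α : M → ℂ} (hα : IsClassFunction M α)
    (hs : ∀ x : M, (x : G) ∉ Cfsg.typeA0 M → α x = 0) :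
    classInner (tau M α) (fun _ => 1) = classInner α (fun _ => 1) := by
  rw [classInner_dade_proj S.side.dade hα hs (isIrrCharacter_one (G := G)).isClassFunction, classInner, classInner]
  congr 1
  refine Finset.sum_congr rfl fun x _ => ?_
  by_cases hx : (x : G) ∈ Cfsg.typeA0 M
  · rw [dadeProj_one hx]
  · rw [hs x hx, zero_mul, zero_mul]

theorem phi_one (S : VSide M W₁ W₂ μ δ χ) (hζ : ζ ∈ linFin M) :
    classInner (phi M ζ) (eta χ (row0 W₁ W₂) (col0 W₁ W₂)) = 1 := by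
  rw [eta_zero S.side.family, phi, tau_inner_one S (phi_src_classFun S hζ) (phi_supp S hζ),
    ← S.side.grid.map_one, classInner_sub_left, psi0_inner_mu S, if_pos rfl,
    classInner_irr_ne (lin_irr S hζ) (S.side.grid.irr _ _) (lin_ne_mu S hζ _ _), sub_zero]

theorem phi_inner_diff (S : VSide M W₁ W₂ μ δ χ) (hf : IsLinFamily (M := M) f) (hζ : ζ ∈ linFin M) {a b : M → ℂ}
    (ha : a ∈ linFin M) (hb : b ∈ linFin M) :
    classInner (phi M ζ) (f a) - classInner (phi M ζ) (f b) =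
      (if ζ = b then 1 else 0) - (if ζ = a then 1 else 0) := by
  rw [← classInner_sub_right, ← hf.diff a ha b hb, phi,
    classInner_dadeIsometry_dadeIsometry S.side.dade (phi_src_classFun S hζ) (phi_supp S hζ)
      (fun x y => by simp [(lin_irr S ha).isClassFunction x y, (lin_irr S hb).isClassFunction x y]),
    classInner_sub_left, classInner_sub_right, classInner_sub_right, classInner_symm_zero (lin_inner_psi0 S ha),
    classInner_symm_zero (lin_inner_psi0 S hb), classInner_irr (lin_irr S hζ) (lin_irr S ha),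
    classInner_irr (lin_irr S hζ) (lin_irr S hb)]
  ring

/-- The coefficients of `Φ`. -/
theorem phi_coef (S : VSide M W₁ W₂ μ δ χ) [Fintype (Col W₁ W₂)] (hf : IsLinFamily (M := M) f)
    (hζ : ζ ∈ linFin M) :
    ∃ (a : Row W₁ W₂ → Col W₁ W₂ → ℤ) (c : ℤ), Additive a ∧ a (row0 W₁ W₂) (col0 W₁ W₂) = 1 ∧
      (∀ i j, classInner (phi M ζ) (eta χ i j) = a i j) ∧
      (∀ b ∈ linFin M, classInner (phi M ζ) (f b) = (c : ℂ) - if b = ζ then 1 else 0) ∧
      ∑ i, ∑ j, a i j ^ 2 + ((c - 1) ^ 2 + ((linFin M).card - 1 : ℕ) * c ^ 2) ≤ (Nat.card W₁ : ℤ) + 1 := by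
  obtain ⟨a, ha⟩ := exists_coef S.side.family (phi_gen S hζ)
  obtain ⟨d, hd⟩ := (phi_gen S hζ).exists_int_classInner (hf.gen hζ)
  have hc : ∀ b ∈ linFin M, classInner (phi M ζ) (f b) = ((d + 1 : ℤ) : ℂ) - if b = ζ then 1 else 0 := by
    intro b hb
    by_cases h : b = ζ
    · subst h
      rw [if_pos rfl, hd]; push_cast; ring
    · have := phi_inner_diff S hf hζ hb hζ
      rw [if_pos rfl, if_neg (Ne.symm h), hd] at this
      rw [if_neg h]; push_cast
      linear_combination this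
  refine ⟨a, d + 1, additive_coef S.side.typeP.selfNormalizing S.side.family (phi_classFun S hζ) (phi_V S hζ) ha,
    ?_, ha, hc, ?_⟩
  · have := ha (row0 W₁ W₂) (col0 W₁ W₂)
    rw [phi_one S hζ] at this
    exact_mod_cast this.symm
  · have h := coef_norm_le S.side.family ha (ι := {b // b ∈ linFin M}) (fun b => f b.1)
      (fun b => (d + 1) - if b.1 = ζ then 1 else 0) (fun b => by rw [hc _ b.2]; split_ifs <;> push_cast <;> ring)
      (fun b b' => by rw [hf.orth _ b.2 _ b'.2]; simp only [Subtype.ext_iff])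
      (fun b i j => hf.orth_eta S b.2 i j) (phi_norm S hζ)
    push_cast at h
    refine le_trans (le_of_eq ?_) h
    congr 1
    rw [← Finset.sum_subtype (linFin M) (fun _ => Iff.rfl) (fun b => ((d + 1) - if b = ζ then 1 else 0 : ℤ) ^ 2),
      ← Finset.add_sum_erase _ _ hζ, if_pos rfl, Finset.sum_congr rfl (g := fun _ => (d + 1) ^ 2) fun b hb => by
        rw [if_neg (Finset.mem_erase.1 hb).1, sub_zero], Finset.sum_const, Finset.card_erase_of_mem hζ, nsmul_eq_mul]

/-- The rows of `Φ`. -/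
theorem row_sum_ge {y : Col W₁ W₂ → ℤ} [Fintype (Col W₁ W₂)] {a : Row W₁ W₂ → Col W₁ W₂ → ℤ} (hadd : Additive a)
    (h00 : a (row0 W₁ W₂) (col0 W₁ W₂) = 1) (hy : ∀ j, y j = a (row0 W₁ W₂) j) (i : Row W₁ W₂) :
    1 ≤ ∑ j, a i j ^ 2 ∨ (a i (col0 W₁ W₂) = 0 ∧ ∀ j, y j = 1) := by
  by_cases h0 : ∀ j, a i j = 0
  · refine Or.inr ⟨h0 _, fun j => ?_⟩
    have := hadd i (row0 W₁ W₂) j (col0 W₁ W₂)
    rw [h0, h0, h00] at this
    rw [hy]; omega
  · push Not at h0
    obtain ⟨j, hj⟩ := h0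
    refine Or.inl (le_trans ?_ (Finset.single_le_sum (f := fun j => a i j ^ 2) (fun k _ => sq_nonneg _)
      (Finset.mem_univ j)))
    nlinarith [Int.one_le_abs hj, sq_abs (a i j), abs_nonneg (a i j)]

theorem one_le_c_part {N : ℕ} (hN : 2 ≤ N) (c : ℤ) : 1 ≤ (c - 1) ^ 2 + ((N - 1 : ℕ) : ℤ) * c ^ 2 := by
  have hN' : (1 : ℤ) ≤ ((N - 1 : ℕ) : ℤ) := by exact_mod_cast (show 1 ≤ N - 1 by omega)
  rcases eq_or_ne c 0 with rfl | hc
  · simp
  · nlinarith [Int.one_le_abs hc, sq_abs c, abs_nonneg c, sq_nonneg (c - 1)]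

/-- For `|W₂| > |W₁|` the coefficients at the row of the principal character vanish. -/
theorem row0_eq_zero_of_lt (S : VSide M W₁ W₂ μ δ χ) [Fintype (Col W₁ W₂)] (hf : IsLinFamily (M := M) f)
    (hζ : ζ ∈ linFin M) (hlt : Nat.card W₁ < Nat.card W₂) {j : Col W₁ W₂} (hj : j ≠ col0 W₁ W₂) :
    classInner (phi M ζ) (eta χ (row0 W₁ W₂) j) = 0 := by
  obtain ⟨a, c, hadd, h00, ha, -, hle⟩ := phi_coef S hf hζ
  have hc1 := one_le_c_part (two_le_card S) c
  rw [ha, Int.cast_eq_zero]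
  rw [← Finset.add_sum_erase _ _ (Finset.mem_univ (row0 W₁ W₂))] at hle
  have hW := S.side.typeP.selfNormalizing
  by_cases hall : ∀ k, a (row0 W₁ W₂) k = 1
  · exfalso
    have h1 : ∑ k, a (row0 W₁ W₂) k ^ 2 = (Nat.card W₂ : ℤ) := by
      rw [← card_col (G := G) hW, Nat.card_eq_fintype_card]
      simp [hall]
    have h2 : (0 : ℤ) ≤ ∑ i ∈ Finset.univ.erase (row0 W₁ W₂), ∑ k, a i k ^ 2 :=
      Finset.sum_nonneg fun i _ => Finset.sum_nonneg fun k _ => sq_nonneg _
    have h3 : (Nat.card W₁ : ℤ) < Nat.card W₂ := by exact_mod_cast hlt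
    omega
  · have h2 : ((Finset.univ.erase (row0 W₁ W₂)).card : ℤ) ≤ ∑ i ∈ Finset.univ.erase (row0 W₁ W₂), ∑ k, a i k ^ 2 := by
      rw [Finset.card_eq_sum_ones]; push_cast
      refine Finset.sum_le_sum fun i _ => (row_sum_ge hadd h00 (fun _ => rfl) i).resolve_right fun h => hall h.2
    rw [Finset.card_erase_of_mem (Finset.mem_univ _), Finset.card_univ, ← Nat.card_eq_fintype_card, card_row hW,
      Nat.cast_sub Nat.card_pos] at h2
    rw [← Finset.add_sum_erase _ _ (Finset.mem_univ (col0 W₁ W₂)), h00] at hle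
    have h4 : a (row0 W₁ W₂) j ^ 2 ≤ ∑ k ∈ Finset.univ.erase (col0 W₁ W₂), a (row0 W₁ W₂) k ^ 2 :=
      Finset.single_le_sum (f := fun k => a (row0 W₁ W₂) k ^ 2) (fun k _ => sq_nonneg _) (by simp [hj])
    push_cast at h2
    have h5 : a (row0 W₁ W₂) j ^ 2 ≤ 0 := by linarith
    exact pow_eq_zero_iff two_ne_zero |>.1 (le_antisymm h5 (sq_nonneg _))

/-- When the first row vanishes, `Φ` is determined up to the labelling of a family of two. -/
theorem phi_cases (S : VSide M W₁ W₂ μ δ χ) [Fintype (Col W₁ W₂)] (hf : IsLinFamily (M := M) f)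
    (hζ : ζ ∈ linFin M) (hy : ∀ j, j ≠ col0 W₁ W₂ → classInner (phi M ζ) (eta χ (row0 W₁ W₂) j) = 0) :
    phi M ζ = colSum χ (col0 W₁ W₂) - f ζ ∨
      ((linFin M).card = 2 ∧ classInner (phi M ζ) (f ζ) = 0) := by
  obtain ⟨a, c, hadd, h00, ha, hcv, hle⟩ := phi_coef S hf hζ
  have hy' : ∀ j, j ≠ col0 W₁ W₂ → a (row0 W₁ W₂) j = 0 := fun j hj => by
    have := hy j hj
    rw [ha] at this
    exact_mod_cast this
  have hW := S.side.typeP.selfNormalizing
  obtain ⟨j₁, hj₁⟩ : ∃ j : Col W₁ W₂, j ≠ col0 W₁ W₂ := by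
    apply Fintype.exists_ne_of_one_lt_card
    rw [← Nat.card_eq_fintype_card, card_col hW]
    exact S.prime.one_lt
  have hrow : ∀ i, 1 ≤ ∑ j, a i j ^ 2 := fun i =>
    (row_sum_ge hadd h00 (fun _ => rfl) i).resolve_right fun h => by
      have := h.2 j₁
      rw [hy' j₁ hj₁] at this
      omega
  have hq : ∑ _i : Row W₁ W₂, (1 : ℤ) = Nat.card W₁ := by
    rw [← card_row (G := G) hW, Nat.card_eq_fintype_card]
    simp
  have hc1 := one_le_c_part (two_le_card S) c
  have hsum : (Nat.card W₁ : ℤ) ≤ ∑ i, ∑ j, a i j ^ 2 := hq.symm.le.trans (Finset.sum_le_sum fun i _ => hrow i)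
  have hrow1 : ∀ i, ∑ j, a i j ^ 2 = 1 := fun i =>
    ((Finset.sum_eq_sum_iff_of_le fun i _ => hrow i).1 (le_antisymm (Finset.sum_le_sum fun i _ => hrow i)
      (by rw [hq]; linarith)) i (Finset.mem_univ i)).symm
  have hb : ∀ i, a i (col0 W₁ W₂) = 1 := by
    intro i
    have hk : ∀ k, k ≠ col0 W₁ W₂ → a i k = a i (col0 W₁ W₂) - 1 := fun k hk => by
      have := hadd i (row0 W₁ W₂) k (col0 W₁ W₂)
      rw [hy' k hk, h00] at this
      omega
    have h1 := hrow1 i
    rw [← Finset.add_sum_erase _ _ (Finset.mem_univ (col0 W₁ W₂)),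
      Finset.sum_congr rfl (g := fun _ => (a i (col0 W₁ W₂) - 1) ^ 2) fun k hk' => by rw [hk k (Finset.mem_erase.1 hk').1],
      Finset.sum_const, Finset.card_erase_of_mem (Finset.mem_univ _), Finset.card_univ, ← Nat.card_eq_fintype_card,
      card_col hW, nsmul_eq_mul, Nat.cast_sub Nat.card_pos] at h1
    have hp : (3 : ℤ) ≤ Nat.card W₂ := by exact_mod_cast three_le_card_of_odd S.side.odd hW.2.1
    push_cast at h1
    by_contra hne
    nlinarith [Int.one_le_abs (sub_ne_zero.2 hne), sq_abs (a i (col0 W₁ W₂) - 1),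
      abs_nonneg (a i (col0 W₁ W₂) - 1), sq_nonneg (a i (col0 W₁ W₂))]
  have hceq : (c - 1) ^ 2 + (((linFin M).card - 1 : ℕ) : ℤ) * c ^ 2 = 1 := le_antisymm (by linarith) hc1
  have hN : (1 : ℤ) ≤ (((linFin M).card - 1 : ℕ) : ℤ) := by
    exact_mod_cast (show 1 ≤ (linFin M).card - 1 by have := two_le_card S; omega)
  rcases eq_or_ne c 0 with hc0 | hc0
  · left
    have h1 : classInner (phi M ζ) (colSum χ (col0 W₁ W₂)) = (Nat.card W₁ : ℂ) := by
      rw [colSum, classInner_sum_right]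
      simp only [ha, hb, Int.cast_one, Finset.sum_const, Finset.card_univ, ← Nat.card_eq_fintype_card, card_row hW,
        nsmul_eq_mul, mul_one]
    have h2 : classInner (phi M ζ) (f ζ) = -1 := by rw [hcv ζ hζ, if_pos rfl, hc0]; simp
    have h3 : classInner (colSum χ (col0 W₁ W₂)) (colSum χ (col0 W₁ W₂)) = (Nat.card W₁ : ℂ) := by
      rw [colSum, classInner_sum_right]
      simp only [classInner_sum_left, eta_orthonormal S.side.family, and_true, Finset.sum_ite_eq', Finset.mem_univ,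
        if_true, Finset.sum_const, Finset.card_univ, ← Nat.card_eq_fintype_card, card_row hW, nsmul_eq_mul, mul_one]
    have h4 : classInner (colSum χ (col0 W₁ W₂)) (f ζ) = 0 := by
      rw [colSum, classInner_sum_left]
      exact Finset.sum_eq_zero fun i _ => classInner_symm_zero (hf.orth_eta S hζ i _)
    refine sub_eq_zero.1 (eq_zero_of_classInner_self ?_)
    have h1' : classInner (colSum χ (col0 W₁ W₂)) (phi M ζ) = (Nat.card W₁ : ℂ) := by
      rw [← classInner_conj_symm, h1, Complex.conj_natCast]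
    have h2' : classInner (f ζ) (phi M ζ) = -1 := by rw [← classInner_conj_symm, h2]; simp
    simp only [classInner_sub_left, classInner_sub_right, phi_norm S hζ, h1, h2, h1', h2', h3, h4,
      classInner_symm_zero h4, hf.orth ζ hζ ζ hζ, if_true]
    push_cast
    ring
  · right
    have hsq : (1 : ℤ) ≤ c ^ 2 := by nlinarith [Int.one_le_abs hc0, sq_abs c, abs_nonneg c]
    have hc1' : c = 1 := by
      by_contra hne
      nlinarith [Int.one_le_abs (sub_ne_zero.2 hne), sq_abs (c - 1), abs_nonneg (c - 1)]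
    subst hc1'
    refine ⟨?_, by rw [hcv ζ hζ, if_pos rfl]; simp⟩
    norm_num at hceq
    omega

theorem eq_conj_of_card_two (S : VSide M W₁ W₂ μ δ χ) (h2 : (linFin M).card = 2) {a b : M → ℂ}
    (ha : a ∈ linFin M) (hb : b ∈ linFin M) (hne : b ≠ a) : b = conjFun a := by
  by_contra hbc
  obtain ⟨hc, hcne⟩ := lin_conj S ha
  have := Finset.card_le_card (show ({a, b, conjFun a} : Finset (M → ℂ)) ⊆ linFin M by
    simp [Finset.insert_subset_iff, ha, hb, hc])
  rw [Finset.card_eq_three.2 ⟨a, b, conjFun a, hne.symm, hcne.symm, hbc, rfl⟩] at this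
  omega

/-- The other labelling of a family of two. -/
theorem IsLinFamily.swap (S : VSide M W₁ W₂ μ δ χ) (hf : IsLinFamily (M := M) f) (h2 : (linFin M).card = 2) :
    IsLinFamily (M := M) fun a => -f (conjFun a) := by
  have hm : ∀ a ∈ linFin M, conjFun a ∈ linFin M := fun a ha => (lin_conj S ha).1
  refine ⟨fun a ha => ?_, fun a ha b hb => ?_, fun a ha b hb => ?_, fun a ha b hb => ?_⟩
  · rcases hf.irr _ (hm a ha) with h | h
    · exact Or.inr (by simpa using h)
    · exact Or.inl h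
  · rw [classInner_neg_left, classInner_neg_right, neg_neg, hf.orth _ (hm a ha) _ (hm b hb)]
    by_cases h : a = b
    · simp [h]
    · rw [if_neg h, if_neg fun e => h (by rw [← conjFun_conjFun a, e, conjFun_conjFun])]
  · by_cases h : b = a
    · subst h; simp [tau_zero]
    · rw [hf.diff a ha b hb, eq_conj_of_card_two S h2 ha hb h, conjFun_conjFun]
      abel
  · simp [hf.deg _ (hm a ha) _ (hm b hb)]

/-- When the first row vanishes, `Φ = Σ η_{i0} - ξ` for a suitable labelling. -/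
theorem exists_phi_eq (S : VSide M W₁ W₂ μ δ χ) [Fintype (Col W₁ W₂)]
    (hζ : ζ ∈ linFin M) (hy : ∀ j, j ≠ col0 W₁ W₂ → classInner (phi M ζ) (eta χ (row0 W₁ W₂) j) = 0) :
    ∃ g, IsLinFamily (M := M) g ∧ phi M ζ = colSum χ (col0 W₁ W₂) - g ζ := by
  obtain ⟨f, hf⟩ := exists_linFamily S
  rcases phi_cases S hf hζ hy with h | ⟨h2, h0⟩
  · exact ⟨f, hf, h⟩
  rcases phi_cases S (hf.swap S h2) hζ hy with h | ⟨-, h0'⟩
  · exact ⟨_, hf.swap S h2, h⟩
  · exfalso
    obtain ⟨hc, hne⟩ := lin_conj S hζ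
    have := phi_inner_diff S hf hζ hc hζ
    rw [h0, if_pos rfl, if_neg hne.symm] at this
    simp only [classInner_neg_right, neg_eq_zero] at h0'
    rw [h0'] at this
    norm_num at this

end Cfsg.Lib.OddOrder.NoTypeV
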