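import Cfsg.Agent.Lib.OddOrder.NoTypeV.Coef
import Cfsg.Agent.Lib.OddOrder.Ctx
import Cfsg.Agent.Lib.OddOrder.Eta

/-!
The contradiction from `Φ = Σ η_{i0} - ξ`: the mass of `ξ` on the support of `M` and on a quiet set.
-/

set_option autoImplicit false
set_option linter.unusedSectionVars false
set_option linter.style.haveILetI false

namespace Cfsg.Lib.OddOrder.NoTypeV

open Cfsg Cfsg.Lib.Char Cfsg.Lib.Char.FT
open scoped ComplexConjugate commutatorElement Classical

universe u

variable {G : Type u} [Group G] [Fintype G] {M W₁ W₂ : Subgroup G}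

/-- The support of the images of the functions on `M' ∖ 1`. -/
def hitM (M : Subgroup G) : Set G := Cfsg.tildeOf M (((⁅M, M⁆ : Subgroup G) : Set G) \ {1})

variable [Fintype M]

theorem tau_off_hitM {v : M → ℂ} (hoff : ∀ x, x ∉ derivedIn M → v x = 0) (h1 : v 1 = 0) {g : G}
    (hg : g ∉ hitM M) : tau M v g = 0 := by
  rw [tau, dadeIsometry]
  split_ifs with h
  · obtain ⟨-, x, u, hu, e⟩ := Classical.choose_spec h
    by_cases hd : Classical.choose h ∈ derivedIn M
    · by_cases he : Classical.choose h = 1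
      · rw [he, h1]
      · refine absurd ⟨_, ⟨hd, fun e' => he (Subtype.ext e')⟩, u, hu, x⁻¹, ?_⟩ hg
        rw [show M.subtype (Classical.choose h) = ((Classical.choose h : M) : G) from rfl, ← e]
        group
    · exact hoff _ hd
  · rfl

/-- If `⟨F, τ v⟩ = ‖v‖²` then `F` has at least this mass on the support. -/
theorem le_muOn_hit [Fintype (Row W₁ W₂)] {μ : Row W₁ W₂ → Col W₁ W₂ → M → ℂ} {δ : Col W₁ W₂ → ℤ}
    {χ : (↥(W₁ ⊔ W₂) →* ℂˣ) → (G → ℂ)} (S : VSide M W₁ W₂ μ δ χ) {v : M → ℂ} (hv : IsClassFunction M v)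
    (hoff : ∀ x, x ∉ derivedIn M → v x = 0) (h1 : v 1 = 0) {F : G → ℂ} {r : ℝ}
    (hF : classInner F (tau M v) = r) (hn : classInner v v = r) : r ≤ muOn (hitM M) fun g => ‖F g‖ ^ 2 := by
  set F₀ : G → ℂ := fun g => if g ∈ hitM M then F g else 0 with hF₀
  have h0 : classInner F₀ (tau M v) = r := by
    rw [← hF, classInner, classInner]
    congr 1
    refine Finset.sum_congr rfl fun g _ => ?_
    by_cases hg : g ∈ hitM M
    · simp [hF₀, hg]
    · simp [hF₀, hg, tau_off_hitM hoff h1 hg]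
  have h0' : classInner (tau M v) F₀ = r := by rw [← classInner_conj_symm, h0, Complex.conj_ofReal]
  have hT : classInner (tau M v) (tau M v) = r := by
    rw [classInner_dadeIsometry_dadeIsometry S.side.dade hv (S.supp hoff h1) hv, hn]
  have hm : (classInner F₀ F₀).re = muOn (hitM M) fun g => ‖F g‖ ^ 2 := by
    rw [classInner_self, Complex.ofReal_re, muOn]
    congr 1
    refine Finset.sum_congr rfl fun g _ => ?_
    simp only [hF₀]
    split_ifs <;> simp
  have hnn := classInner_self_nonneg (F₀ - tau M v)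
  rw [classInner_sub_left, classInner_sub_right, classInner_sub_right, h0, h0', hT] at hnn
  simp only [Complex.sub_re, Complex.ofReal_re] at hnn
  rw [← hm]
  linarith

variable [Fintype (Row W₁ W₂)] {μ : Row W₁ W₂ → Col W₁ W₂ → M → ℂ} {δ : Col W₁ W₂ → ℤ}
  {χ : (↥(W₁ ⊔ W₂) →* ℂˣ) → (G → ℂ)} {f : (M → ℂ) → (G → ℂ)} {ζ : M → ℂ}

/-- The projection on the linear characters. -/
theorem hit_ge_lin (S : VSide M W₁ W₂ μ δ χ) [Fintype (Col W₁ W₂)] (hf : IsLinFamily (M := M) f) (hζ : ζ ∈ linFin M)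
    (hΦ : phi M ζ = colSum χ (col0 W₁ W₂) - f ζ) :
    1 - (Nat.card W₁ : ℝ) / (((linFin M).card * Nat.card W₁ + 1 : ℕ) : ℝ) ≤
      muOn (hitM M) fun g => ‖f ζ g‖ ^ 2 := by
  set q := Nat.card W₁ with hq
  set N := (linFin M).card with hN
  set r : ℝ := (q : ℝ) / ((N * q + 1 : ℕ) : ℝ) with hr
  have hrP : (r : ℂ) * ((N : ℂ) * q + 1) = q := by
    have : r * ((N : ℝ) * q + 1) = q := by
      rw [hr]; push_cast; field_simp
    exact_mod_cast this
  have hc : ∀ b ∈ linFin M, classInner (phi M ζ) (f b) = ((0 : ℤ) : ℂ) - if b = ζ then 1 else 0 := fun b hb => by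
    rw [hΦ, classInner_sub_left, colSum, classInner_sum_left, hf.orth ζ hζ b hb,
      Finset.sum_eq_zero fun i _ => classInner_symm_zero (hf.orth_eta S hb i _)]
    simp only [eq_comm (a := b)]
    simp
  set v : M → ℂ := (r : ℂ) • (∑ b ∈ linFin M, (psi0 M - b)) - (psi0 M - ζ) with hv
  have hA : ∀ b ∈ linFin M, IsClassFunction M (psi0 M - b) ∧ (∀ x, x ∉ derivedIn M → (psi0 M - b) x = 0) ∧
      (psi0 M - b) 1 = 0 := fun b hb => ⟨phi_src_classFun S hb, fun x hx => by
      simp [lin_off hb hx, psi0, indFun_derived_off _ hx],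
    by simp [psi0_apply S (one_mem _), lin_degree S hb]⟩
  refine le_muOn_hit S (v := v) (fun x y => ?_) (fun x hx => ?_) ?_ ?_ ?_
  · simp only [hv, Pi.sub_apply, Pi.smul_apply, Finset.sum_apply]
    rw [Finset.sum_congr rfl fun b hb => show psi0 M (y * x * y⁻¹) - b (y * x * y⁻¹) = psi0 M x - b x from
      (hA b hb).1 x y, show psi0 M (y * x * y⁻¹) - ζ (y * x * y⁻¹) = psi0 M x - ζ x from (hA ζ hζ).1 x y]
  · simp only [hv, Pi.sub_apply, Pi.smul_apply, Finset.sum_apply]
    rw [Finset.sum_eq_zero fun b hb => show psi0 M x - b x = 0 from (hA b hb).2.1 x hx, show psi0 M x - ζ x = 0 from (hA ζ hζ).2.1 x hx]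
    simp
  · simp only [hv, Pi.sub_apply, Pi.smul_apply, Finset.sum_apply]
    rw [Finset.sum_eq_zero fun b hb => show psi0 M 1 - b 1 = 0 from (hA b hb).2.2, show psi0 M 1 - ζ 1 = 0 from (hA ζ hζ).2.2]
    simp
  · rw [hv, tau_sub, tau_smul, tau_sum, classInner_sub_right, classInner_smul_right, classInner_sum_right,
      Complex.conj_ofReal, Finset.sum_congr rfl (g := fun b => -(if ζ = b then (1 : ℂ) else 0)) fun b hb => ?_,
      Finset.sum_neg_distrib, Finset.sum_ite_eq, if_pos hζ]
    · have h := hc ζ hζ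
      rw [if_pos rfl] at h
      rw [← classInner_conj_symm, ← phi, h]
      push_cast
      simp only [zero_sub, map_neg, map_one]
      ring
    · rw [← classInner_conj_symm, ← phi, phi_inner S hf hζ hc hb hζ]
      split_ifs with h1 <;> simp
  · have hAA : ∀ a ∈ linFin M, ∀ b ∈ linFin M,
        classInner (psi0 M - a) (psi0 M - b) = (q : ℂ) + if a = b then 1 else 0 := fun a ha b hb => by
      rw [classInner_sub_left, classInner_sub_right, classInner_sub_right, psi0_norm S,
        classInner_symm_zero (lin_inner_psi0 S hb), lin_inner_psi0 S ha, classInner_irr (lin_irr S ha) (lin_irr S hb)]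
      ring
    have h1 : ∀ a ∈ linFin M, classInner (∑ b ∈ linFin M, (psi0 M - b)) (psi0 M - a) = (N : ℂ) * q + 1 := fun a ha => by
      rw [classInner_sum_left, Finset.sum_congr rfl fun b hb => hAA b hb a ha, Finset.sum_add_distrib,
        Finset.sum_const, Finset.sum_ite_eq', if_pos ha, nsmul_eq_mul]
    have h2 : classInner (∑ b ∈ linFin M, (psi0 M - b)) (∑ b ∈ linFin M, (psi0 M - b)) =
        (N : ℂ) * ((N : ℂ) * q + 1) := by
      rw [classInner_sum_right, Finset.sum_congr rfl h1, Finset.sum_const, nsmul_eq_mul]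
    have h3 : classInner (psi0 M - ζ) (∑ b ∈ linFin M, (psi0 M - b)) = (N : ℂ) * q + 1 := by
      rw [← classInner_conj_symm, h1 ζ hζ]; simp
    have h4 := hAA ζ hζ ζ hζ
    rw [if_pos rfl] at h4
    have h5 := h1 ζ hζ
    rw [hv]
    generalize (∑ b ∈ linFin M, (psi0 M - b)) = B at h2 h3 h5 ⊢
    generalize psi0 M - ζ = A at h3 h4 h5 ⊢
    rw [classInner_sub_left, classInner_sub_right, classInner_sub_right, classInner_smul_left,
      classInner_smul_left, classInner_smul_right, classInner_smul_right, Complex.conj_ofReal, h2, h5, h3, h4]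
    push_cast
    linear_combination ((r : ℂ) * N - 1) * hrP

/-- At an element of order prime to `|W₁|` the column sum is an odd integer. -/
theorem colSum_odd (S : VSide M W₁ W₂ μ δ χ) {g : G} (hg : (orderOf g).Coprime (Nat.card W₁)) :
    ∃ n : ℤ, Odd n ∧ colSum χ (col0 W₁ W₂) g = n := by
  have hW := S.side.typeP.selfNormalizing
  have hodd := S.side.odd
  have hchi := S.side.family
  have hint : ∀ i : Row W₁ W₂, ∃ n : ℤ, eta χ i (col0 W₁ W₂) g = n := by
    intro i
    have hinv : ∀ k : ℕ, k.Coprime (Nat.card G) → eta χ i (col0 W₁ W₂) (g ^ k) = eta χ i (col0 W₁ W₂) g := by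
      intro k hk
      obtain ⟨l, hl, hlo, hlq⟩ := exists_coprime_crt (c := k) (d := 1) (n := Nat.card G) hg Nat.card_pos.ne'
        (hk.coprime_dvd_right (orderOf_dvd_natCard g)) (Nat.coprime_one_left _)
      rw [← pow_eq_pow_iff_modEq.2 hlo,
        show eta χ i (col0 W₁ W₂) (g ^ l) = twist l (eta χ i (col0 W₁ W₂)) g from rfl,
        twist_eta hodd hW hchi hl]
      congr 2
      · refine MonoidHom.ext fun v => ?_
        have hv : i.1 v ^ Nat.card W₁ = 1 := by
          rw [← map_pow]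
          refine i.2 _ ?_
          obtain ⟨b, hb, a, ha, e⟩ := Cfsg.Lib.Coprime.exists_mul_of_mem_sup (N := W₂) (A := W₁) (fun a ha =>
            Subgroup.centralizer_le_normalizer _ (Subgroup.mem_centralizer_iff.2 fun x hx => (hW.2.2.2.1 a ha x hx).symm)) (by rw [sup_comm]; exact v.2)
          rw [SubmonoidClass.coe_pow, e, ((show Commute b a from (hW.2.2.2.1 a ha b hb).symm).mul_pow _),
            orderOf_dvd_iff_pow_eq_one.1 (W₁.orderOf_dvd_natCard ha), mul_one]
          exact pow_mem hb _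
        show i.1 v ^ l = i.1 v
        have : i.1 v ^ l = i.1 v ^ 1 :=
          pow_eq_pow_iff_modEq.2 (hlq.of_dvd (orderOf_dvd_of_pow_eq_one hv))
        rw [this, pow_one]
      · exact MonoidHom.ext fun v => one_pow (M := ℂˣ) l
    rcases hchi.irr_or_neg (i.1 * (col0 W₁ W₂).1) with h | h
    · exact exists_int_of_pow_invariant h.isCharacter g hinv
    · obtain ⟨m, hm⟩ := exists_int_of_pow_invariant h.isCharacter g (fun k hk => by
        have := hinv k hk
        simp only [eta] at this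
        simp [this])
      exact ⟨-m, by push_cast; rw [← hm]; simp [eta]⟩
  choose n hn using hint
  refine ⟨∑ i, n i, ?_, by simp [colSum, Finset.sum_apply, hn]⟩
  obtain ⟨a, ha⟩ := S.side.odd
  refine odd_sum_of_involutive (rowPow (2 * a)) (fun i => (conj_rowPow ha i).1) (row0 W₁ W₂)
    (fun i e => (conj_rowPow ha i).2 e) (Subtype.ext (MonoidHom.ext fun v => by simp [rowPow, row0])) n
    (fun i => ?_) ?_
  · have h := congrFun (conj_eta hodd hW hchi ha i (col0 W₁ W₂)) g
    rw [show colPow (2 * a) (col0 W₁ W₂) = col0 W₁ W₂ from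
      Subtype.ext (MonoidHom.ext fun v => by simp [colPow, col0])] at h
    simp only [conjFun, hn, map_intCast, Int.cast_inj] at h
    exact h.symm
  · have h := hn (row0 W₁ W₂)
    rw [eta_zero hchi] at h
    have : n (row0 W₁ W₂) = 1 := by simpa using h.symm
    rw [this]; exact odd_one

/-- The contradiction. -/
theorem false_of_mass (S : VSide M W₁ W₂ μ δ χ) (hf : IsLinFamily (M := M) f) (hζ : ζ ∈ linFin M)
    (hΦ : phi M ζ = colSum χ (col0 W₁ W₂) - f ζ) {Y : Set G}
    (hY : ∀ g ∈ Y, g ∉ hitM M ∧ (orderOf g).Coprime (Nat.card W₁)) {x : ℝ}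
    (hx : 1 - x ≤ muOn (hitM M) fun g => ‖f ζ g‖ ^ 2) (hxY : x < muOn Y fun _ => 1) : False := by
  have h1 : muOn Y (fun _ => (1 : ℝ)) ≤ muOn Y fun g => ‖f ζ g‖ ^ 2 := by
    rw [muOn, muOn]
    refine mul_le_mul_of_nonneg_left (Finset.sum_le_sum fun g _ => ?_) (by positivity)
    split_ifs with hg
    · have h0 : phi M ζ g = 0 := tau_off_hitM (fun x hx => by
        simp [lin_off hζ hx, psi0, indFun_derived_off _ hx])
        (by simp [psi0_apply S (one_mem _), lin_degree S hζ]) (hY g hg).1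
      obtain ⟨n, hn, e⟩ := colSum_odd S (hY g hg).2
      rw [hΦ, Pi.sub_apply, sub_eq_zero, e] at h0
      rw [← h0, Complex.norm_intCast, sq_abs]
      have hn0 : n ≠ 0 := fun e => by simp [e] at hn
      have : (1 : ℤ) ≤ n ^ 2 := by nlinarith [Int.one_le_abs hn0, sq_abs n, abs_nonneg n]
      exact_mod_cast this
    · exact le_rfl
  have h2 : muOn (hitM M ∪ Y) (fun g => ‖f ζ g‖ ^ 2) ≤ muOn Set.univ fun g => ‖f ζ g‖ ^ 2 :=
    muOn_mono (Set.subset_univ _) fun g _ => by positivity
  rw [muOn_union (Set.eq_empty_iff_forall_notMem.2 fun g hg => (hY g hg.2).1 hg.1), (muOn_univ _).1,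
    hf.orth ζ hζ ζ hζ, if_pos rfl, Complex.one_re] at h2
  linarith

end Cfsg.Lib.OddOrder.NoTypeV
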