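import Cfsg.Agent.Lib.OddOrder.NoTypeV.PartnerMeasure

/-!
The quiet set of a maximal subgroup of type V and its measure.
-/

set_option autoImplicit false
set_option linter.unusedSectionVars false
set_option linter.style.haveILetI false

namespace Cfsg.Lib.OddOrder.NoTypeV

open Subgroup Cfsg.Lib.Local Cfsg.Lib.Local.Sigma Cfsg.Lib.Char Cfsg.Lib.Char.FT Cfsg.Lib.OddOrder
open scoped commutatorElement Classical

universe u

variable {G : Type u} [Group G]

section Count

variable [Fintype G]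

theorem muOn_one_eq (S : Set G) : muOn S (fun _ => (1 : ℝ)) = (S.ncard : ℝ) / Nat.card G := by
  rw [muOn, ← Finset.sum_filter, Finset.sum_const, nsmul_eq_mul, mul_one, div_eq_inv_mul]
  congr
  rw [Set.ncard_eq_toFinset_card' S]
  congr 1
  ext g
  simp

/-- The conjugates of a subset of `T` normalized by `T`. -/
def conjClosure (B : Set G) : Set G := {g | ∃ x : G, x * g * x⁻¹ ∈ B}

theorem ncard_conjClosure_le {T : Subgroup G} {B : Set G} (hB : ∀ t ∈ T, ∀ b ∈ B, t * b * t⁻¹ ∈ B) :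
    (conjClosure B).ncard ≤ T.index * B.ncard := by
  have hsub : conjClosure B ⊆
      ⋃ c : G ⧸ T, (fun b => c.out * b * c.out⁻¹) '' B := by
    rintro g ⟨x, hx⟩
    refine Set.mem_iUnion.2 ⟨QuotientGroup.mk x⁻¹, ?_⟩
    obtain ⟨t, ht⟩ := QuotientGroup.mk_out_eq_mul T x⁻¹
    refine ⟨(t : G)⁻¹ * (x * g * x⁻¹) * t, by simpa using hB _ (inv_mem t.2) _ hx, ?_⟩
    show (Quotient.out (QuotientGroup.mk x⁻¹ : G ⧸ T)) * _ * _ = g
    rw [show Quotient.out (QuotientGroup.mk x⁻¹ : G ⧸ T) = x⁻¹ * t from ht]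
    group
  refine (Set.ncard_le_ncard hsub (Set.toFinite _)).trans ((Set.ncard_iUnion_le_of_fintype _).trans ?_)
  refine (Finset.sum_le_sum fun c _ => Set.ncard_image_le (Set.toFinite B)).trans ?_
  rw [Finset.sum_const, smul_eq_mul, Finset.card_univ, ← Nat.card_eq_fintype_card]
  exact le_rfl

theorem muOn_conjClosure_le {T : Subgroup G} {B : Set G} (hB : ∀ t ∈ T, ∀ b ∈ B, t * b * t⁻¹ ∈ B) :
    muOn (conjClosure B) (fun _ => (1 : ℝ)) ≤ (B.ncard : ℝ) / Nat.card T := by
  rw [muOn_one_eq, ← T.index_mul_card]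
  have h : ((conjClosure B).ncard : ℝ) ≤ (T.index : ℝ) * B.ncard := by
    exact_mod_cast ncard_conjClosure_le hB
  have h1 : (0 : ℝ) < T.index := by exact_mod_cast Nat.pos_of_ne_zero T.index_ne_zero_of_finite
  have h2 : (0 : ℝ) < Nat.card T := by exact_mod_cast Nat.card_pos
  push_cast
  rw [div_le_div_iff₀ (by positivity) h2]
  nlinarith

/-- The elements of `U H` of order not prime to `|H|` are few. -/
theorem ncard_singular_le {H U : Subgroup G} (hUH : U ≤ normalizer (H : Set G))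
    (hcop : (Nat.card H).Coprime (Nat.card U)) :
    (({x | x ∈ U ⊔ H ∧ ¬ (orderOf x).Coprime (Nat.card H)} : Set G).ncard : ℝ) ≤
      (Nat.card U : ℝ) * Nat.card H * (1 - avgFix U H) := by
  set C : U → Subgroup H := fun u => (centralizer ({(u : G)} : Set G)).subgroupOf H with hC
  let f : (Σ u : U, H ⧸ C u) → G := fun z => (z.2.out : G) * z.1 * (z.2.out : G)⁻¹
  have hdisj : U ⊓ H = ⊥ := inf_eq_bot_of_coprime hcop.symm
  have hinj : Function.Injective f := by
    rintro ⟨u, c⟩ ⟨v, d⟩ e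
    have e' : (c.out : G) * u * (c.out : G)⁻¹ = (d.out : G) * v * (d.out : G)⁻¹ := e
    have hnu : ∀ x : U, ∀ h ∈ H, (x : G) * h * (x : G)⁻¹ ∈ H := fun x h hh =>
      (mem_normalizer_iff.1 (hUH x.2) h).1 hh
    have huv : u = v := by
      have h1 : (u : G) * (v : G)⁻¹ ∈ H := by
        have e1 : (u : G) * (v : G)⁻¹ =
            (c.out : G)⁻¹ * (d.out : G) * ((v : G) * ((d.out : G)⁻¹ * (c.out : G)) * (v : G)⁻¹) := by
          calc (u : G) * (v : G)⁻¹
              = (c.out : G)⁻¹ * ((c.out : G) * u * (c.out : G)⁻¹) * (c.out : G) * (v : G)⁻¹ := by group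
            _ = _ := by rw [e']; group
        rw [e1]
        exact mul_mem (mul_mem (inv_mem c.out.2) d.out.2) (hnu v _ (mul_mem (inv_mem d.out.2) c.out.2))
      exact Subtype.ext (mul_inv_eq_one.1 (mem_bot.1 (hdisj.le ⟨U.mul_mem u.2 (U.inv_mem v.2), h1⟩)))
    subst huv
    congr 1
    rw [← QuotientGroup.out_eq' c, ← QuotientGroup.out_eq' d, QuotientGroup.eq]
    show ((c.out⁻¹ * d.out : H) : G) ∈ centralizer ({(u : G)} : Set G)
    rw [mem_centralizer_singleton_iff]
    push_cast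
    calc (c.out : G)⁻¹ * d.out * u = (c.out : G)⁻¹ * ((d.out : G) * u * (d.out : G)⁻¹) * d.out := by group
      _ = (c.out : G)⁻¹ * ((c.out : G) * u * (c.out : G)⁻¹) * d.out := by rw [e']
      _ = _ := by group
  have hrange : Set.range f ⊆ {x | x ∈ U ⊔ H ∧ (orderOf x).Coprime (Nat.card H)} := by
    rintro _ ⟨⟨u, c⟩, rfl⟩
    refine ⟨mul_mem (mul_mem (SetLike.le_def.1 (le_sup_right (a := U) (b := H)) c.out.2) (mem_sup_left u.2)) (inv_mem (SetLike.le_def.1 (le_sup_right (a := U) (b := H)) c.out.2)), ?_⟩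
    rw [orderOf_conj]
    exact (hcop.coprime_dvd_right (Subgroup.orderOf_dvd_natCard _ u.2)).symm
  set B : Set G := {x | x ∈ U ⊔ H ∧ ¬ (orderOf x).Coprime (Nat.card H)} with hB
  have hdj : Disjoint B (Set.range f) := Set.disjoint_left.2 fun x h1 h2 => h1.2 (hrange h2).2
  have hcard : B.ncard + (Set.range f).ncard ≤ Nat.card U * Nat.card H := by
    rw [← Set.ncard_union_eq hdj (Set.toFinite _) (Set.toFinite _),
      ← Cfsg.Lib.Coprime.card_sup_of_disjoint hUH (disjoint_iff.2 (by rw [inf_comm]; exact hdisj)) |>.trans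
        (mul_comm _ _), sup_comm H U]
    exact (Set.ncard_le_ncard (Set.union_subset (fun x hx => hx.1) fun x hx => (hrange hx).1)
      (Set.toFinite _)).trans (Nat.card_coe_set_eq _).ge
  have hr : (Set.range f).ncard = ∑ u : U, (C u).index := by
    rw [← Nat.card_coe_set_eq, Nat.card_congr (Equiv.ofInjective f hinj).symm, Nat.card_sigma]
    rfl
  have hone : ∀ u : U, ((C u).index : ℝ) =
      (Nat.card H : ℝ) * ((1 : ℝ) / Nat.card ↥(H ⊓ centralizer ({(u : G)} : Set G))) := by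
    intro u
    have h := (C u).card_mul_index
    rw [hC] at h
    have e : Nat.card ((centralizer ({(u : G)} : Set G)).subgroupOf H) =
        Nat.card ↥(H ⊓ centralizer ({(u : G)} : Set G)) := by
      rw [← inf_subgroupOf_left]
      exact Nat.card_congr (subgroupOfEquivOfLe inf_le_left).toEquiv
    rw [e] at h
    have h0 : (0 : ℝ) < Nat.card ↥(H ⊓ centralizer ({(u : G)} : Set G)) := by exact_mod_cast Nat.card_pos
    rw [mul_one_div, eq_div_iff h0.ne', mul_comm]
    exact_mod_cast h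
  have hU : (0 : ℝ) < Nat.card U := by exact_mod_cast Nat.card_pos
  have hsum : ((Set.range f).ncard : ℝ) = (Nat.card U : ℝ) * Nat.card H * avgFix U H := by
    rw [hr]
    push_cast
    rw [Finset.sum_congr rfl fun u _ => hone u, ← Finset.mul_sum, avgFix]
    rw [show ∀ a b s : ℝ, a * b * (s / a) = b * s * (a / a) from fun a b s => by ring, div_self hU.ne', mul_one]
    congr 1
    exact Finset.sum_congr (by ext; simp) fun _ _ => rfl
  have hcard' : (B.ncard : ℝ) + (Set.range f).ncard ≤ (Nat.card U : ℝ) * Nat.card H := by exact_mod_cast hcard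
  rw [hsum] at hcard'
  linarith

end Count

variable [Fintype G] {M W₁ W₂ : Subgroup G}

/-- The elements of `T'` of order not prime to `|H|`. -/
def singular (T H : Subgroup G) : Set G :=
  {x | x ∈ (⁅T, T⁆ : Subgroup G) ∧ ¬ (orderOf x).Coprime (Nat.card H)}

/-- The quiet set. -/
def quietSet (M W₁ W₂ T H : Subgroup G) : Set G :=
  {g | g ≠ 1 ∧ g ∉ Cfsg.tildeOf M (((⁅M, M⁆ : Subgroup G) : Set G) \ {1}) ∧ g ∉ tiSet W₁ W₂ ∧
    g ∉ conjClosure (singular T H)}

theorem quietSet_coprime (hG : Cfsg.IsMinSimpleOddOrder G) {T H U : Subgroup G}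
    (g₀ : PartnerGroup T W₁ W₂ H U) (d : PartnerData W₁ W₂ H U) {g : G} (hg : g ∈ quietSet M W₁ W₂ T H) :
    (orderOf g).Coprime (Nat.card W₁) := by
  refine Nat.coprime_of_dvd fun r hr hrg hrq => ?_
  haveI : Fact r.Prime := ⟨hr⟩
  have hW1H : W₁ ≤ H := by
    have h := g₀.typeP.W₂_le.trans inf_le_left
    exact h.trans ((fittingHallOf_le hG g₀.coatom).trans g₀.core.ge)
  have hrH : r ∣ Nat.card H := hrq.trans (card_dvd_of_le hW1H)
  have hrσ : r ∈ Cfsg.sigma T := sigmaCore_isPiSub T r hr (g₀.core ▸ hrH)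
  have hidx : ¬ r ∣ H.index := g₀.core ▸ not_dvd_index_sigmaCore hG g₀.coatom hrσ
  set y := g ^ (orderOf g / r) with hy
  have hyo : orderOf y = r := orderOf_pow_orderOf_div (orderOf_pos g).ne' hrg
  obtain ⟨S⟩ : Nonempty (Sylow r H) := inferInstance
  have hS : ¬ r ∣ ((S : Subgroup H).map H.subtype).index := by
    rw [index_map_of_injective _ H.subtype_injective, range_subtype]
    exact fun hd => (hr.dvd_mul.1 hd).elim S.not_dvd_index hidx
  let S' : Sylow r G := (S.isPGroup'.map H.subtype).toSylow hS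
  obtain ⟨Q, hQ⟩ := (IsPGroup.of_card (n := 1) (by rw [Nat.card_zpowers, hyo, pow_one]) :
    IsPGroup r (zpowers y)).exists_le_sylow
  obtain ⟨c, hc⟩ := MulAction.exists_smul_eq G Q S'
  have hcy : c * y * c⁻¹ ∈ H := by
    have h1 : c * y * c⁻¹ ∈ (S' : Subgroup G) := by
      rw [← hc]
      exact ⟨y, hQ (mem_zpowers y), rfl⟩
    exact map_subtype_le _ h1
  have hcy1 : c * y * c⁻¹ ≠ 1 := fun e => hr.ne_one (by rw [← hyo, ← orderOf_conj c y, e, orderOf_one])
  set x := c * g * c⁻¹ with hx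
  have hxT : x ∈ T := g₀.ti _ hcy hcy1 (mem_centralizer_singleton_iff.2 (by
    rw [hx, hy, ← conj_pow]
    exact ((Commute.refl (c * g * c⁻¹)).pow_right _).eq))
  have hxo : r ∣ orderOf x := by rwa [hx, orderOf_conj]
  by_cases hxD : x ∈ (⁅T, T⁆ : Subgroup G)
  · exact hg.2.2.2 ⟨c, hxD, fun h => hr.ne_one (Nat.eq_one_of_dvd_coprimes h hxo hrH)⟩
  · obtain ⟨z, w, hw, hw2, he⟩ := (primeCompl hG g₀.typeP).exists_conj (x := ⟨x, hxT⟩)
      fun h => hxD (mem_derivedIn.1 h)
    rw [← subgroupOf_sup g₀.typeP.W₁_compl.2.1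
      (le_trans le_sup_right (sup_le_of_typeP g₀.typeP)), mem_subgroupOf] at hw
    rw [mem_subgroupOf] at hw2
    have he' : x = (z : G) * w * (z : G)⁻¹ := congrArg Subtype.val he
    have hwo : r ∣ orderOf (w : G) := by rwa [he', orderOf_conj] at hxo
    have hw1 : (w : G) ∉ W₂ := fun h => hr.ne_one (Nat.eq_one_of_dvd_coprimes d.coprimeW hrH
      (hwo.trans (Subgroup.orderOf_dvd_natCard _ h)))
    refine hg.2.2.1 (mem_tiSet.2 ⟨(z : G)⁻¹ * c, ?_⟩)
    have e : (z : G)⁻¹ * c * g * ((z : G)⁻¹ * c)⁻¹ = w := by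
      calc (z : G)⁻¹ * c * g * ((z : G)⁻¹ * c)⁻¹ = (z : G)⁻¹ * x * (z : G) := by rw [hx]; group
        _ = _ := by rw [he']; group
    rw [e, sup_comm]
    exact ⟨hw, hw2, hw1⟩

theorem muOn_quietSet (hG : Cfsg.IsMinSimpleOddOrder G) (hM : IsCoatom M) (hP : Cfsg.IsTypePWith M W₁ ⊥ W₂)
    (hc : Cfsg.sigmaCore M = ⁅M, M⁆) {T H U : Subgroup G}
    (g₀ : PartnerGroup T W₁ W₂ H U) (d : PartnerData W₁ W₂ H U) :
    ((Nat.card W₁ : ℝ) * avgFix U H - 1) / ((Nat.card W₂ : ℝ) * Nat.card W₁) <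
      muOn (quietSet M W₁ W₂ T H) (fun _ => 1) := by
  set q : ℝ := (Nat.card W₁ : ℝ)
  set p : ℝ := (Nat.card W₂ : ℝ)
  have hq : 0 < q := Nat.cast_pos.2 Nat.card_pos
  have hp : 0 < p := Nat.cast_pos.2 Nat.card_pos
  set A := Cfsg.tildeOf M (((⁅M, M⁆ : Subgroup G) : Set G) \ {1}) with hA
  set k := Nat.card ↥(⁅M, M⁆ : Subgroup G)
  have hkq : k * Nat.card W₁ = Nat.card M := card_of_isComplIn hP.W₁_compl
  have hA1 : muOn A (fun _ => (1 : ℝ)) = ((k : ℝ) - 1) / ((k : ℝ) * q) := by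
    have h := ncard_tilde hG hM
    rw [hc] at h
    rw [muOn_one_eq, hA, h, ← M.index_mul_card, ← hkq, Nat.cast_mul, Nat.cast_sub Nat.card_pos]
    have h0 : (0 : ℝ) < M.index := by exact_mod_cast Nat.pos_of_ne_zero M.index_ne_zero_of_finite
    simp only [k, q]
    push_cast
    field_simp
  have hW := hP.selfNormalizing
  have hti : muOn (tiSet W₁ W₂) (fun _ => (1 : ℝ)) = ((p - 1) * (q - 1)) / (p * q) := by
    haveI := Fintype.ofFinite ↥(W₁ ⊔ W₂)
    rw [muOn_tiSet hW (f := fun _ => (1 : ℝ)) fun _ _ => rfl]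
    have h := sum_outer_hom hW (row0 W₁ W₂) (col0 W₁ W₂)
    simp only [and_self, if_true] at h
    have hs : (∑ w : ↥(W₁ ⊔ W₂), if (w : G) ∉ W₁ ∧ (w : G) ∉ W₂ then (1 : ℝ) else 0) = (p - 1) * (q - 1) := by
      apply Complex.ofReal_injective
      have e : ∀ w : ↥(W₁ ⊔ W₂), ((((row0 W₁ W₂).1 * (col0 W₁ W₂).1) w : ℂˣ) : ℂ) = 1 := fun w => by
        simp [row0, col0]
      rw [Finset.sum_congr rfl fun w _ => by rw [e w]] at h
      push_cast
      rw [Finset.sum_congr rfl fun w _ => apply_ite Complex.ofReal _ _ _]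
      simp only [Complex.ofReal_one, Complex.ofReal_zero]
      rw [h]
      simp only [p, q, Complex.ofReal_natCast]
      ring
    rw [hs, card_sup_cti hW, Nat.cast_mul]
    simp only [p, q]
    field_simp
  have hTcard : Nat.card T = Nat.card U * Nat.card H * Nat.card W₂ := by
    have h1 := decomp_card g₀.decomp
    rw [card_sup_sigmaCore g₀.decomp, ← g₀.core] at h1
    rw [← h1]
    ring
  have hX : muOn (conjClosure (singular T H)) (fun _ => (1 : ℝ)) ≤ (1 - avgFix U H) / p := by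
    have hnorm : ∀ t ∈ T, ∀ b ∈ singular T H, t * b * t⁻¹ ∈ singular T H := fun t ht b hb =>
      ⟨(mem_normalizer_iff.1 ((Subgroup.le_normalizer.trans
        (Cfsg.Lib.Local.FreeAction.normalizer_le_normalizer_commutator T)) ht) b).1 hb.1,
        by rw [orderOf_conj]; exact hb.2⟩
    refine (muOn_conjClosure_le hnorm).trans ?_
    have hle := ncard_singular_le d.normal d.coprimeU
    have heq : singular T H = {x | x ∈ U ⊔ H ∧ ¬ (orderOf x).Coprime (Nat.card H)} := by
      rw [singular, g₀.derived]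
    rw [heq, hTcard]
    have hU : (0 : ℝ) < Nat.card U := by exact_mod_cast Nat.card_pos
    have hH : (0 : ℝ) < Nat.card H := by exact_mod_cast Nat.card_pos
    push_cast
    rw [div_le_div_iff₀ (by positivity) hp]
    nlinarith
  have hone : muOn ({1} : Set G) (fun _ => (1 : ℝ)) = 1 / (Nat.card G : ℝ) := by
    rw [muOn_one_eq, Set.ncard_singleton]
    norm_num
  have hall : muOn (Set.univ : Set G) (fun _ => (1 : ℝ)) = 1 := by
    rw [muOn_one_eq, Set.ncard_univ, div_self]
    exact_mod_cast Nat.card_pos.ne'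
  have hunion : ∀ A B : Set G,
      muOn (A ∪ B) (fun _ => (1 : ℝ)) ≤ muOn A (fun _ => 1) + muOn B (fun _ => 1) := fun A B => by
    rw [muOn_one_eq, muOn_one_eq, muOn_one_eq, ← add_div]
    gcongr
    exact_mod_cast Set.ncard_union_le A B
  have hcover : (Set.univ : Set G) ⊆
      quietSet M W₁ W₂ T H ∪ ({1} ∪ (A ∪ (tiSet W₁ W₂ ∪ conjClosure (singular T H)))) := fun g _ => by
    by_cases hg : g ∈ quietSet M W₁ W₂ T H
    · exact Or.inl hg
    · simp only [quietSet, Set.mem_setOf_eq, not_and_or, not_not] at hg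
      rcases hg with h | h | h | h
      · exact Or.inr (Or.inl h)
      · exact Or.inr (Or.inr (Or.inl h))
      · exact Or.inr (Or.inr (Or.inr (Or.inl h)))
      · exact Or.inr (Or.inr (Or.inr (Or.inr h)))
  have h1 := (muOn_mono hcover (f := fun _ => (1 : ℝ)) fun _ _ => zero_le_one).trans ((hunion _ _).trans
    (add_le_add le_rfl ((hunion _ _).trans (add_le_add le_rfl ((hunion _ _).trans
      (add_le_add le_rfl (hunion _ _)))))))
  rw [hall, hone, hA1, hti] at h1
  have hk : (0 : ℝ) < k := by exact_mod_cast Nat.card_pos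
  have hG' : 1 / (Nat.card G : ℝ) < 1 / ((k : ℝ) * q) := by
    have h2 : Nat.card M < Nat.card G := by
      have h := M.index_mul_card
      have h3 : 1 < M.index := Subgroup.one_lt_index_of_ne_top hM.1
      nlinarith [Nat.card_pos (α := M)]
    rw [← hkq] at h2
    exact one_div_lt_one_div_of_lt (by positivity) (by
      simp only [q]
      exact_mod_cast h2)
  have e : 1 - 1 / ((k : ℝ) * q) - ((k : ℝ) - 1) / ((k : ℝ) * q) - (p - 1) * (q - 1) / (p * q) -
      (1 - avgFix U H) / p = (q * avgFix U H - 1) / (p * q) := by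
    field_simp
    ring
  linarith

end Cfsg.Lib.OddOrder.NoTypeV
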