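import Cfsg.Agent.Lib.Char.FT.Tau
import Cfsg.Agent.Lib.Local.Sigma.TypeIff
import Cfsg.Agent.Lib.Char.Linear
import Cfsg.Agent.S1369

/-!
The setting for `no type V`: a maximal subgroup of type V with its partner, and the linear characters of `M'`.
-/

set_option autoImplicit false
set_option linter.unusedSectionVars false
set_option linter.style.haveILetI false

namespace Cfsg.Lib.OddOrder.NoTypeV

open Cfsg Cfsg.Lib.Char Cfsg.Lib.Char.FT Cfsg.Lib.Local.Sigma
open scoped commutatorElement ComplexConjugate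

universe u

section General

variable {X : Type u} [Group X] [Finite X]

/-- The sum of the linear characters. -/
theorem sum_hom_apply [Fintype (X →* ℂˣ)] [DecidablePred (· ∈ commutator X)] (x : X) :
    (∑ l : X →* ℂˣ, (l x : ℂ)) = if x ∈ commutator X then ((commutator X).index : ℂ) else 0 := by
  split_ifs with hx
  · rw [← card_linear_eq_index, Nat.card_eq_fintype_card, Finset.sum_congr rfl (g := fun _ => (1 : ℂ))
      fun l _ => by rw [show l x = 1 from MonoidHom.mem_ker.mp (Abelianization.commutator_subset_ker l hx)]; rfl]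
    simp
  · obtain ⟨l₀, hl₀⟩ := Cfsg.Agent.S1511.exists_linear_ne_one (W := Abelianization X)
      (fun a b => mul_comm a b) (x := Abelianization.of x) fun e => hx ((QuotientGroup.eq_one_iff x).mp e)
    have e := Equiv.sum_comp (Equiv.mulLeft (l₀.comp Abelianization.of)) fun l : X →* ℂˣ => (l x : ℂ)
    simp only [Equiv.coe_mulLeft, MonoidHom.mul_apply, Units.val_mul, ← Finset.mul_sum] at e
    by_contra hne
    exact hl₀ (Units.ext (mul_right_cancel₀ hne (e.trans (one_mul _).symm)))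

end General

variable {G : Type u} [Group G] [Fintype G] {M W₁ W₂ : Subgroup G}

/-- A maximal subgroup of type V with its data. -/
structure VSide (M W₁ W₂ : Subgroup G) [Fintype M] [Fintype (Row W₁ W₂)]
    (μ : Row W₁ W₂ → Col W₁ W₂ → M → ℂ) (δ : Col W₁ W₂ → ℤ) (χ : (↥(W₁ ⊔ W₂) →* ℂˣ) → (G → ℂ)) : Prop where
  side : Cfsg.Lib.Char.FT.Side M W₁ W₂ ⊥ μ δ χ
  fitting : Cfsg.fittingHallOf M = ⁅M, M⁆
  core : Cfsg.sigmaCore M = ⁅M, M⁆
  prime : (Nat.card W₂).Prime

/-- The data of a maximal subgroup of type V and of its partner, which is of type II. -/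
theorem exists_data (hG : Cfsg.IsMinSimpleOddOrder G) (hM : IsCoatom M) (hV : Cfsg.IsOfTypeV M) :
    ∃ (K U T V : Subgroup G), Cfsg.IsTypePWith M K ⊥ (kstar M K) ∧ Cfsg.IsSigmaDecomposition M K U ∧
      Pair M K T ∧ Cfsg.IsSigmaDecomposition T (kstar M K) V ∧ V ≠ ⊥ ∧
      Cfsg.fittingHallOf M = ⁅M, M⁆ ∧ Cfsg.sigmaCore M = ⁅M, M⁆ ∧ (Nat.card ↥(kstar M K)).Prime ∧
      Cfsg.IsTypePWith T (kstar M K) V K := by
  obtain ⟨K, U, hKU⟩ := exists_decomposition hG hM
  obtain ⟨hK1, hU1, hF⟩ := (typeV_iff hG hM hKU).mp hV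
  have hD := derived_eq_of_bot hG hM hKU hK1 hU1
  have hP : Cfsg.IsTypePWith M K ⊥ (kstar M K) :=
    typeP_of_compl hG hM hKU hK1 (hU1 ▸ compl_of_eq hG hM hKU hK1 hF)
      (by rw [Subgroup.normalizer_eq_top]; exact le_top)
  obtain ⟨T, hT, -, -⟩ := exists_pair hG hM hKU.hall hK1
  obtain ⟨V, hTV⟩ := exists_decomp hG hT.coatom hT.hall
  have h := (Cfsg.Agent.S1369.result hG M hM K U hKU hK1 T hT.coatom hT.eq hT.hall).1
  have hV1 : V ≠ ⊥ := h.elim (fun e => absurd hU1 e) fun e => e V hTV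
  have hk := kstar_ne_bot hG hM hKU.hall hK1
  have hTP : Cfsg.IsTypePWith T (kstar M K) V (kstar T (kstar M K)) :=
    typeP_of_compl hG hT.coatom hTV hk (compl_of_eq hG hT.coatom hTV hk
      (fittingHallOf_eq_of_ne_bot hG hT.coatom hTV hV1)) hTV.normal
  rw [← hT.eq] at hTP
  exact ⟨K, U, T, V, hP, hKU, hT, hTV, hV1, hF.trans hD.symm, hD.symm, card_prime hG hT.coatom hTV hk (Or.inl hV1),
    hTP⟩

theorem exists_vside [Fintype M] [Fintype (Row W₁ W₂)] (hG : Cfsg.IsMinSimpleOddOrder G) (hM : IsCoatom M)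
    (hP : Cfsg.IsTypePWith M W₁ ⊥ W₂) (hF : Cfsg.fittingHallOf M = ⁅M, M⁆) (hc : Cfsg.sigmaCore M = ⁅M, M⁆)
    (hp : (Nat.card W₂).Prime) : ∃ μ δ χ, VSide M W₁ W₂ μ δ χ := by
  obtain ⟨μ, δ, χ, h⟩ := exists_side hG hM hP
  exact ⟨μ, δ, χ, h, hF, hc, hp⟩

variable [Fintype M] [Fintype (Row W₁ W₂)] {μ : Row W₁ W₂ → Col W₁ W₂ → M → ℂ} {δ : Col W₁ W₂ → ℤ}
  {χ : (↥(W₁ ⊔ W₂) →* ℂˣ) → (G → ℂ)}

/-- Here `A₀` contains `M'#`. -/
theorem VSide.mem_A0 (S : VSide M W₁ W₂ μ δ χ) {x : M} (hx : x ∈ derivedIn M) (hx1 : x ≠ 1) :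
    (x : G) ∈ Cfsg.typeA0 M :=
  S.side.mem_typeA0_of_comm hx hx1 (S.fitting.ge hx) (fun e => hx1 (Subtype.ext e)) rfl

theorem VSide.supp (S : VSide M W₁ W₂ μ δ χ) {α : M → ℂ} (hoff : ∀ x, x ∉ derivedIn M → α x = 0)
    (h1 : α 1 = 0) : ∀ x : M, (x : G) ∉ Cfsg.typeA0 M → α x = 0 := fun x hx => by
  by_cases hxK : x ∈ derivedIn M
  · by_cases hx1 : x = 1
    · rw [hx1, h1]
    · exact absurd (S.mem_A0 hxK hx1) hx
  · exact hoff x hxK

theorem VSide.index_eq (S : VSide M W₁ W₂ μ δ χ) : (derivedIn M).index = Nat.card W₁ := by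
  rw [(primeCompl S.side.minimal S.side.typeP).index_eq.1]
  exact Nat.card_congr (Subgroup.subgroupOfEquivOfLe S.side.typeP.W₁_compl.2.1).toEquiv

theorem VSide.W₂_le_commutator (S : VSide M W₁ W₂ μ δ χ) {x : M} (hx : (x : G) ∈ W₂) :
    ∃ k : derivedIn M, (k : M) = x ∧ k ∈ commutator (derivedIn M) := by
  have h2 : (x : G) ∈ ⁅⁅M, M⁆, ⁅M, M⁆⁆ := (S.side.typeP.W₂_le hx).2
  have hmap : (commutator (derivedIn M)).map ((derivedIn M).subtype) = ⁅derivedIn M, derivedIn M⁆ := by
    rw [_root_.commutator_def, Subgroup.map_commutator, ← MonoidHom.range_eq_map, Subgroup.range_subtype]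
  have hmap2 : (⁅derivedIn M, derivedIn M⁆).map M.subtype = ⁅⁅M, M⁆, ⁅M, M⁆⁆ := by
    rw [Subgroup.map_commutator]
    have hle : ⁅M, M⁆ ≤ M := fun y hy => S.side.typeP.W₁_compl.1 hy
    rw [show (derivedIn M).map M.subtype = ⁅M, M⁆ from
      Subgroup.map_subgroupOf_eq_of_le hle]
  rw [← hmap2, ← hmap] at h2
  obtain ⟨y, ⟨k, hk, rfl⟩, e⟩ := h2
  exact ⟨k, Subtype.ext e, hk⟩

/-- A nontrivial linear character of `M'` induces an irreducible character. -/
theorem VSide.ind_linear_irr (S : VSide M W₁ W₂ μ δ χ) [Fintype (derivedIn M)] {l : derivedIn M →* ℂˣ}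
    (hl : l ≠ 1) : IsIrrCharacter M (indFun (derivedIn M) fun k => (l k : ℂ)) ∧
      ∀ j, (fun k => (l k : ℂ)) ≠ colTheta M μ j := by
  have hnot : ∀ j, (fun k => (l k : ℂ)) ≠ colTheta M μ j := by
    intro j e
    have hd1 : μ (row0 W₁ W₂) j 1 = 1 := by
      have := congrFun e 1
      simpa [colTheta] using this.symm
    obtain ⟨f, hf⟩ := exists_hom_of_degree_one (S.side.grid.irr (row0 W₁ W₂) j).isCharacter hd1
    have htriv : ∀ x : M, (x : G) ∈ W₂ → f x = 1 := fun x hx => by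
      obtain ⟨k, rfl, hk⟩ := S.W₂_le_commutator hx
      refine Units.ext ?_
      have h1 : l k = 1 := MonoidHom.mem_ker.mp (Abelianization.commutator_subset_ker l hk)
      have := congrFun e k
      simp only [colTheta] at this
      rw [← congrFun hf (k : M), ← this, h1]
    let r : Row W₁ W₂ := ⟨f.comp (Subgroup.inclusion (sup_le_of_typeP S.side.typeP)), fun w hw => htriv _ hw⟩
    obtain ⟨-, hj, -⟩ := Cfsg.Lib.Char.FT.IsGrid.eq_of_apply S.side.minimal S.side.typeP
      (i := row0 W₁ W₂) (i' := r) (j := j) (j' := col0 W₁ W₂) (c := δ j) (c' := 1) (S.side.grid.sign j) (Or.inl rfl)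
      fun w hw => by
        rw [← S.side.grid.apply_off (row0 W₁ W₂) j ⟨w, sup_le_of_typeP S.side.typeP w.2⟩ w.2 hw, hf]
        show _ = ((1 : ℤ) : ℂ) * ((f (Subgroup.inclusion _ w) : ℂ) * ((1 : ℂˣ) : ℂ))
        rw [Int.cast_one, Units.val_one, one_mul, mul_one]
        rfl
    apply hl
    ext k
    have := congrFun e k
    rw [hj, colTheta, S.side.grid.map_one] at this
    exact this
  refine ⟨(S.side.grid.theta_cases _ (isIrrCharacter_linear l)).resolve_left fun ⟨j, hj⟩ => hnot j hj, hnot⟩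

/-- A function induced from `M'` vanishes off `M'`. -/
theorem indFun_derived_off (θ : derivedIn M → ℂ) {x : M} (hx : x ∉ derivedIn M) :
    indFun (derivedIn M) θ x = 0 :=
  mul_eq_zero_of_right _ (Finset.sum_eq_zero fun y _ => extendByZero_of_notMem _ _ fun hy => hx (by
    simpa [mul_assoc] using (normal_derivedIn M).conj_mem _ hy y))

/-- The index of the second derived group in the first. -/
noncomputable def linCount (M : Subgroup G) : ℕ := (commutator (derivedIn M)).index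

/-- The characters induced from linear characters of `M'` add up to a multiple of the indicator of `M''`. -/
theorem VSide.sum_ind_linear (S : VSide M W₁ W₂ μ δ χ) [Fintype (derivedIn M)] [Fintype (derivedIn M →* ℂˣ)]
    {φ : M → ℂ} (hφ : IsClassFunction M φ)
    (hconst : ∀ k : derivedIn M, k ∈ commutator (derivedIn M) → φ k = φ 1) :
    ∑ l : derivedIn M →* ℂˣ, classInner (indFun (derivedIn M) fun k => (l k : ℂ)) φ = conj (φ 1) := by
  classical
  rw [Finset.sum_congr rfl fun l _ => classInner_indFun (derivedIn M) _ hφ, ← classInner_sum_left, classInner]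
  simp only [Finset.sum_apply, sum_hom_apply, ite_mul, zero_mul, ← Finset.sum_filter]
  rw [Finset.sum_congr rfl fun k hk => by rw [hconst k (Finset.mem_filter.mp hk).2], Finset.sum_const,
    nsmul_eq_mul]
  have hc : ((Finset.univ.filter fun k => k ∈ commutator (derivedIn M)).card : ℂ) *
      ((commutator (derivedIn M)).index : ℂ) = Nat.card (derivedIn M) := by
    rw [← Nat.cast_mul, ← Subgroup.card_mul_index (commutator (derivedIn M)), Nat.card_eq_fintype_card,
      Fintype.card_subtype]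
  rw [← mul_assoc, ← mul_assoc, mul_assoc _ _ ((commutator (derivedIn M)).index : ℂ), hc,
    inv_mul_cancel₀ (card_cast_ne_zero), one_mul]

end Cfsg.Lib.OddOrder.NoTypeV
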